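import Mathlib.RingTheory.Bialgebra.TensorProduct
import Mathlib.RingTheory.Bialgebra.Equiv
import Mathlib.RingTheory.HopfAlgebra.TensorProduct
import Mathlib.RingTheory.TensorProduct.Maps

set_option autoImplicit false

/-!
Transitivity of base change for bialgebras.
-/

noncomputable section

universe u

open scoped TensorProduct

namespace Groth.Agent.HomLift

variable (R R' S : Type u) [CommRing R] [CommRing R'] [CommRing S] [Algebra R R'] [Algebra R' S] [Algebra R S]
  [IsScalarTower R R' S] (B : Type u) [CommRing B] [Bialgebra R B]

/-- Transitivity of base change. -/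
def cancelBC : S ⊗[R'] (R' ⊗[R] B) ≃ₐc[S] S ⊗[R] B :=
  BialgEquiv.ofBijective
    (BialgHom.ofAlgHom (Algebra.TensorProduct.cancelBaseChange R R' S S B).toAlgHom
      (Algebra.TensorProduct.ext (Subsingleton.elim _ _)
        (Algebra.TensorProduct.ext (Subsingleton.elim _ _) (AlgHom.ext fun b => by
          simp [TensorProduct.counit_tmul, Algebra.smul_def, ← IsScalarTower.algebraMap_apply])))
      (Algebra.TensorProduct.ext (Subsingleton.elim _ _)
        (Algebra.TensorProduct.ext (Subsingleton.elim _ _) (AlgHom.ext fun b => by
          simp only [AlgHom.comp_apply, AlgHom.coe_restrictScalars', Algebra.TensorProduct.includeRight_apply,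
            AlgEquiv.coe_toAlgHom, Algebra.TensorProduct.cancelBaseChange_tmul, one_smul,
            Bialgebra.comulAlgHom_apply, TensorProduct.comul_tmul, CommSemiring.comul_apply]
          generalize Coalgebra.comul (R := R) b = z
          induction z using TensorProduct.induction_on with
          | zero => simp
          | add p q hp hq => simp only [TensorProduct.tmul_add, map_add, hp, hq]
          | tmul p q => simp [TensorProduct.AlgebraTensorModule.tensorTensorTensorComm_tmul]))))
    (Algebra.TensorProduct.cancelBaseChange R R' S S B).bijective

theorem cancelBC_apply (x : S ⊗[R'] (R' ⊗[R] B)) :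
    cancelBC R R' S B x = Algebra.TensorProduct.cancelBaseChange R R' S S B x := rfl

end Groth.Agent.HomLift
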