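import Groth.Agent.HomLiftLib.Connected

set_option autoImplicit false

/-!
Types of split groups, and tori.
-/

noncomputable section

universe u w

open scoped TensorProduct
open Groth.Agent.TorusField Groth.Agent.DiagHopf

namespace Groth.Agent.HomLift

variable {R : Type u} [CommRing R] {A : Type u} [CommRing A] [HopfAlgebra R A]

theorem exists_split_congr {M : Type w} [AddCommGroup M] {M' : Type*} [AddCommGroup M'] (e : M ≃+ M')
    {S : Type u} [CommRing S] [Algebra R S] (E : Split R A M S) :
    ∃ E' : Split R A M' S, ∀ m, E'.e (e m) = E.e m := by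
  refine ⟨⟨E.e.reindex e.toEquiv, ?_, fun a b => ?_, fun a => ?_⟩, fun m => ?_⟩
  · simp [E.e_zero]
  · simp [E.e_add]
  · simp only [Module.Basis.reindex_apply]; exact E.gl _
  · simp

theorem exists_type_equiv {M : Type w} [AddCommGroup M] {M' : Type*} [AddCommGroup M'] {L : Type u} [CommRing L]
    [IsDomain L] [Algebra R L] (E : Split R A M L) (E' : Split R A M' L) : Nonempty (M ≃+ M') := by
  choose f hf using fun m => E'.exists_eq (E.gl m)
  choose g hg using fun m => E.exists_eq (E'.gl m)
  refine ⟨{ toFun := f, invFun := g, left_inv := fun m => ?_, right_inv := fun m => ?_, map_add' := fun a b => ?_ }⟩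
  · exact E.e.injective ((hg (f m)).symm.trans (hf m).symm)
  · exact E'.e.injective ((hf (g m)).symm.trans (hg m).symm)
  · exact E'.e.injective (by rw [← hf, E.e_add, E'.e_add, hf a, hf b])

theorem isTorusConst_of_split {S : Type u} [CommRing S] [Algebra R S] [Module.FaithfullyFlat R S] {n : ℕ}
    (E : Split R A (Fin n → ℤ) S) : SGA3b.IsTorusConst R A := by
  obtain ⟨E', -⟩ := exists_split_congr (AddEquiv.additiveMultiplicative (Fin n → ℤ)).symm E
  exact ⟨S, inferInstance, inferInstance, inferInstance, n, exists_bialgEquiv E'⟩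

theorem isTorus_of_split {S : Type u} [CommRing S] [Algebra R S] [Module.FaithfullyFlat R S] {n : ℕ}
    (E : Split R A (Fin n → ℤ) S) : SGA3b.IsTorus R A := by
  refine ⟨{1}, Ideal.span_singleton_one, fun f hf => ?_⟩
  obtain rfl := Set.mem_singleton_iff.1 hf
  let e := IsLocalization.atUnit R (Localization.Away (1 : R)) 1 isUnit_one
  letI : Algebra (Localization.Away (1 : R)) S :=
    ((algebraMap R S).comp e.symm.toRingHom).toAlgebra
  haveI : IsScalarTower R (Localization.Away (1 : R)) S := IsScalarTower.of_algebraMap_eq fun x => by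
    rw [RingHom.algebraMap_toAlgebra]
    show algebraMap R S x = algebraMap R S (e.symm (algebraMap R _ x))
    rw [AlgEquiv.commutes]
    rfl
  haveI : Module.FaithfullyFlat (Localization.Away (1 : R)) S := by
    haveI := IsLocalization.tensorProduct_compatibleSMul (Submonoid.powers (1 : R)) (Localization.Away (1 : R))
      (Localization.Away (1 : R)) S
    exact Module.FaithfullyFlat.of_linearEquiv _ _
      (TensorProduct.lidOfCompatibleSMul R (Localization.Away (1 : R)) S).symm
  obtain ⟨E'⟩ := exists_split_transfer' (R' := Localization.Away (1 : R)) E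
  exact isTorusConst_of_split E'

theorem isTorus_of_subsingleton [Subsingleton R] : SGA3b.IsTorus R A := by
  haveI : Subsingleton A := Module.subsingleton R A
  haveI : Subsingleton (R ⊗[R] A) := Module.subsingleton R _
  exact isTorus_of_split (S := R) (n := 0)
    { e := { repr := { toFun := fun _ => 0, invFun := fun _ => 0, map_add' := fun _ _ => Subsingleton.elim _ _,
                       map_smul' := fun _ _ => Subsingleton.elim _ _, left_inv := fun _ => Subsingleton.elim _ _,
                       right_inv := fun _ => Subsingleton.elim _ _ } }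
      e_zero := Subsingleton.elim _ _
      e_add := fun _ _ => Subsingleton.elim _ _
      gl := fun _ => ⟨(congrArg (D R A R) (Subsingleton.elim _ (0 : R ⊗[R] A))).trans (Subsingleton.elim _ _),
        Subsingleton.elim _ _⟩ }

/-- At a point, a torus is split by a field with a lattice of characters. -/
theorem exists_field_split_of_isTorus (h : SGA3b.IsTorus R A) (p : Ideal R) [p.IsPrime] :
    ∃ (L : Type u) (_ : Field L) (_ : Algebra R L) (n : ℕ),
      RingHom.ker (algebraMap R L) = p ∧ Nonempty (Split R A (Fin n → ℤ) L) := by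
  obtain ⟨s, hs, H⟩ := h
  obtain ⟨f, hf, hfp⟩ : ∃ f ∈ s, f ∉ p := by
    by_contra hne
    push Not at hne
    exact ‹p.IsPrime›.ne_top (eq_top_iff.2 (hs ▸ Ideal.span_le.2 hne))
  obtain ⟨T, _, _, hff, n, ⟨e⟩⟩ := H f hf
  haveI := hff
  letI : Algebra R T := ((algebraMap (Localization.Away f) T).comp (algebraMap R (Localization.Away f))).toAlgebra
  haveI : IsScalarTower R (Localization.Away f) T := IsScalarTower.of_algebraMap_eq fun _ => rfl
  let P := p.map (algebraMap R (Localization.Away f))
  have hd : Disjoint (Submonoid.powers f : Set R) (p : Set R) :=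
    (Ideal.disjoint_powers_iff_notMem f ‹p.IsPrime›.isRadical).2 hfp
  haveI hP : P.IsPrime := IsLocalization.isPrime_of_isPrime_disjoint (Submonoid.powers f) _ p ‹_› hd
  obtain ⟨Q, hQ⟩ := PrimeSpectrum.comap_surjective_of_faithfullyFlat (A := Localization.Away f) (B := T) ⟨P, hP⟩
  obtain ⟨E⟩ := exists_split_of_bialgEquiv e
  obtain ⟨E₂, -⟩ := exists_split_congr (AddEquiv.additiveMultiplicative (Fin n → ℤ)) E
  let L := Q.asIdeal.ResidueField
  obtain ⟨E₁, -⟩ := exists_split_push E₂ (IsScalarTower.toAlgHom (Localization.Away f) T L)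
  refine ⟨L, inferInstance, inferInstance, n, ?_, exists_split_transfer E₁⟩
  rw [IsScalarTower.algebraMap_eq R T L, ← RingHom.comap_ker, Ideal.ker_algebraMap_residueField,
    IsScalarTower.algebraMap_eq R (Localization.Away f) T, ← Ideal.comap_comap]
  have hQ' : Q.asIdeal.comap (algebraMap (Localization.Away f) T) = P := congrArg PrimeSpectrum.asIdeal hQ
  rw [hQ']
  exact IsLocalization.comap_map_of_isPrime_disjoint (Submonoid.powers f) _ ‹_› hd

/-- Splittings transport along isomorphisms. -/
theorem exists_split_equiv {F : Type u} [CommRing F] [HopfAlgebra R F] (e : F ≃ₐc[R] A) {M : Type w} [AddCommGroup M]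
    {T : Type u} [CommRing T] [Algebra R T] (E : Split R F M T) : Nonempty (Split R A M T) := by
  let g := TensorProduct.AlgebraTensorModule.congr (LinearEquiv.refl T T) (e.toAlgEquiv.toLinearEquiv)
  have hg : ∀ z, g z = Algebra.TensorProduct.map (AlgHom.id T T) ((e : F →ₐc[R] A) : F →ₐ[R] A) z := fun z => by
    induction z using TensorProduct.induction_on with
    | zero => simp
    | add p q hp hq => simp only [map_add, hp, hq]
    | tmul t x => simp [g]
  have hb : ∀ a, (E.e.map g) a = Algebra.TensorProduct.map (AlgHom.id T T) ((e : F →ₐc[R] A) : F →ₐ[R] A) (E.e a) :=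
    fun a => by rw [Module.Basis.map_apply, hg]
  exact ⟨⟨E.e.map g, by rw [hb, E.e_zero, map_one],
    fun a b => by rw [hb, hb, hb, E.e_add, map_mul], fun a => by rw [hb]; exact isGL_map _ (E.gl a)⟩⟩

end Groth.Agent.HomLift
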