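import Groth.Agent.HomLiftLib.Idem
import Groth.Agent.HomLiftLib.Types
import Mathlib.RingTheory.Jacobson.Ring
import Mathlib.RingTheory.FiniteType
import Mathlib.FieldTheory.IsAlgClosed.AlgebraicClosure
import Mathlib.LinearAlgebra.FreeModule.PID
import Mathlib.GroupTheory.Torsion

set_option autoImplicit false

/-!
An open and closed subgroup of multiplicative type containing the torsion points is everything.
-/

noncomputable section

universe u

open scoped TensorProduct
open WithConv Groth.Agent.TorusField Groth.Agent.DiagHopf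

namespace Groth.Agent.HomLift

theorem finite_idempotents (H : Type u) [CommRing H] [IsNoetherianRing H] :
    Set.Finite {e : H | IsIdempotentElem e} := by
  haveI : Finite (minimalPrimes H) := (minimalPrimes.finite_of_isNoetherianRing H).to_subtype
  rw [← Set.finite_coe_iff]
  refine Finite.of_injective (β := Set (minimalPrimes H)) (fun e => {P | e.1 ∈ P.1}) fun e e' h => ?_
  have key : ∀ (q : Ideal H) [q.IsPrime], e.1 ∈ q ↔ e'.1 ∈ q := by
    intro q _
    obtain ⟨P, hP, hPq⟩ := Ideal.exists_minimalPrimes_le (bot_le : (⊥ : Ideal H) ≤ q)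
    haveI : P.IsPrime := hP.1.1
    have hiff : ∀ f : H, IsIdempotentElem f → (f ∈ q ↔ f ∈ P) := fun f hf => by
      refine ⟨fun hfq => ?_, fun hfP => hPq hfP⟩
      have : f * (1 - f) ∈ P := by rw [mul_sub, mul_one, hf.eq, sub_self]; exact zero_mem _
      rcases Ideal.IsPrime.mem_or_mem inferInstance this with h1 | h1
      · exact h1
      · exfalso
        exact ‹q.IsPrime›.ne_top ((Ideal.eq_top_iff_one _).2 (by
          have := add_mem (hPq h1) hfq
          rwa [sub_add_cancel] at this))
    rw [hiff _ e.2, hiff _ e'.2]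
    exact Set.ext_iff.1 h ⟨P, hP⟩
  have hz : ∀ a b : {e : H | IsIdempotentElem e}, (∀ (q : Ideal H) [q.IsPrime], a.1 ∈ q → b.1 ∈ q) →
      b.1 * (1 - a.1) = 0 := fun a b hab => by
    refine (IsIdempotentElem.eq_zero_of_isNilpotent (b.2.mul a.2.one_sub) (nilpotent_iff_mem_prime.2 fun q hq => ?_))
    by_contra hne
    have ha : a.1 ∈ q := by
      have : a.1 * (1 - a.1) ∈ q := by rw [mul_sub, mul_one, a.2.eq, sub_self]; exact zero_mem _
      exact (hq.mem_or_mem this).resolve_right fun h1 => hne (Ideal.mul_mem_left _ _ h1)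
    exact hne (Ideal.mul_mem_right _ _ (hab q ha))
  have h1 := hz e e' fun q _ => (key q).1
  have h2 := hz e' e fun q _ => (key q).2
  apply Subtype.ext
  rw [mul_sub, mul_one, sub_eq_zero] at h1 h2
  exact h2.trans ((mul_comm _ _).trans h1.symm)

/-- A character has roots once its restriction to the torsion is killed. -/
theorem exists_root (L : Type u) [Field L] [IsAlgClosed L] {N : Type u} [CommGroup N] [Group.FG N] :
    ∃ d : ℕ, 0 < d ∧ ∀ (g : N →* Lˣ) (m : ℕ), 0 < m → ∃ h : N →* Lˣ, h ^ (m * d) = g ^ d := by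
  classical
  let V := Additive N
  haveI : Module.Finite ℤ V := Module.Finite.iff_addGroup_fg.2 inferInstance
  let T := Submodule.torsion ℤ V
  haveI : IsNoetherian ℤ V := isNoetherian_of_isNoetherianRing_of_finite ℤ V
  haveI : AddGroup.FG T := Module.Finite.iff_addGroup_fg.1 inferInstance
  haveI : Finite T := AddCommGroup.finite_of_fg_isAddTorsion _ fun x => by
    obtain ⟨⟨a, ha⟩, hx⟩ := Submodule.mem_torsion_iff _ |>.1 x.2
    refine isOfFinAddOrder_iff_zsmul_eq_zero.2 ⟨a, nonZeroDivisors.ne_zero ha, Subtype.ext ?_⟩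
    exact hx
  refine ⟨Nat.card T, Nat.card_pos, fun g m hm => ?_⟩
  let W := Additive Lˣ
  let G : V →ₗ[ℤ] W := (Nat.card T • (MonoidHom.toAdditive g)).toIntLinearMap
  have hG : ∀ x ∈ T, G x = 0 := fun x hx => by
    show Nat.card T • MonoidHom.toAdditive g x = 0
    rw [← map_nsmul]
    have : Nat.card T • x = 0 := congrArg Subtype.val (card_nsmul_eq_zero' (x := (⟨x, hx⟩ : T)))
    rw [this, map_zero]
  let Q := V ⧸ T
  haveI : Module.IsTorsionFree ℤ Q := inferInstance
  haveI : Module.Free ℤ Q := Module.free_of_finite_type_torsion_free'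
  let b := Module.Free.chooseBasis ℤ Q
  have hroot : ∀ w : W, ∃ z : W, (m * Nat.card T) • z = w := fun w => by
    have hpos : 0 < m * Nat.card T := Nat.mul_pos hm Nat.card_pos
    obtain ⟨z, hz⟩ := IsAlgClosed.exists_pow_nat_eq ((w.toMul : Lˣ) : L) hpos
    have hz0 : z ≠ 0 := fun e => by
      rw [e, zero_pow hpos.ne'] at hz
      exact w.toMul.ne_zero hz.symm
    refine ⟨Additive.ofMul (Units.mk0 z hz0), Additive.toMul.injective (Units.ext ?_)⟩
    rw [toMul_nsmul, Units.val_pow_eq_pow_val]
    exact hz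
  choose z hz using fun i => hroot (T.liftQ G hG (b i))
  let H : V →ₗ[ℤ] W := (b.constr ℤ z).comp T.mkQ
  have hH : (m * Nat.card T) • H = G := by
    have : (m * Nat.card T) • b.constr ℤ z = T.liftQ G hG :=
      b.ext fun i => by rw [LinearMap.smul_apply, Module.Basis.constr_basis, hz]
    apply LinearMap.ext
    intro x
    have := LinearMap.congr_fun this (T.mkQ x)
    rw [LinearMap.smul_apply] at this ⊢
    exact this.trans (T.liftQ_apply G x)
  refine ⟨MonoidHom.toAdditive.symm H.toAddMonoidHom, MonoidHom.ext fun x => ?_⟩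
  have := LinearMap.congr_fun hH (Additive.ofMul x)
  exact Additive.ofMul.injective this

section Field

variable {L : Type u} [Field L] {N : Type u} [CommGroup N]

/-- The point of a split group given by a character. -/
def chi (g : N →* Lˣ) : WithConv (MonoidAlgebra L N →ₐ[L] L) :=
  toConv (MonoidAlgebra.lift L L N ((Units.coeHom L).comp g))

theorem chi_single (g : N →* Lˣ) (a : N) : (chi g).ofConv (MonoidAlgebra.single a 1) = g a := by
  simp [chi]

theorem chi_mul (g g' : N →* Lˣ) : chi (g * g') = chi g * chi g' := by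
  apply WithConv.ofConv_injective
  refine MonoidAlgebra.algHom_ext (fun a => ?_) (Subsingleton.elim _ _)
  rw [chi_single, AlgHom.convMul_apply]
  simp [chi_single]

theorem chi_one : chi (1 : N →* Lˣ) = 1 := by
  apply WithConv.ofConv_injective
  refine MonoidAlgebra.algHom_ext (fun a => ?_) (Subsingleton.elim _ _)
  rw [chi_single]
  simp [AlgHom.convOne_def]

theorem exists_chi (x : WithConv (MonoidAlgebra L N →ₐ[L] L)) : ∃ g, chi g = x := by
  refine ⟨{ toFun := fun a => ⟨x.ofConv (MonoidAlgebra.single a 1), x.ofConv (MonoidAlgebra.single a⁻¹ 1), ?_, ?_⟩,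
            map_one' := Units.ext (by simp [← MonoidAlgebra.one_def]),
            map_mul' := fun a b => Units.ext (by simp [← map_mul, MonoidAlgebra.single_mul_single]) }, ?_⟩
  · rw [← map_mul, MonoidAlgebra.single_mul_single, mul_inv_cancel, one_mul, ← MonoidAlgebra.one_def, map_one]
  · rw [← map_mul, MonoidAlgebra.single_mul_single, inv_mul_cancel, one_mul, ← MonoidAlgebra.one_def, map_one]
  · apply WithConv.ofConv_injective
    refine MonoidAlgebra.algHom_ext (fun a => ?_) (Subsingleton.elim _ _)
    rw [chi_single]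
    rfl

variable {C : Type u} [CommRing C] [HopfAlgebra L C]

/-- Over an algebraically closed field: an open and closed subgroup with all torsion points is everything. -/
theorem eq_zero_of_torsion_points [IsAlgClosed L] [Coalgebra.IsCocomm L C] [Algebra.FiniteType L C]
    (π : C →ₐc[L] MonoidAlgebra L N) (hπ : Function.Surjective π) {e : C} (he : IsIdempotentElem e)
    (hker : ∀ x, π x = 0 ↔ x ∈ Ideal.span {e})
    (htor : ∀ x : WithConv (C →ₐ[L] L), (∃ n, 0 < n ∧ x ^ n = 1) → x.ofConv e = 0) : e = 0 := by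
  classical
  haveI : IsNoetherianRing C := Algebra.FiniteType.isNoetherianRing L C
  haveI : Algebra.FiniteType L (MonoidAlgebra L N) :=
    Algebra.FiniteType.of_surjective (π : C →ₐ[L] MonoidAlgebra L N) hπ
  haveI : Group.FG N := MonoidAlgebra.finiteType_iff_group_fg.1 (inferInstance : Algebra.FiniteType L (MonoidAlgebra L N))
  have hπe : π e = 0 := (hker e).2 (Ideal.subset_span rfl)
  let P : (N →* Lˣ) →* WithConv (C →ₐ[L] L) :=
    { toFun := fun g => toConv ((chi g).ofConv.comp (π : C →ₐ[L] MonoidAlgebra L N))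
      map_one' := by
        rw [chi_one]
        apply WithConv.ofConv_injective
        apply AlgHom.ext
        intro y
        simp [AlgHom.convOne_def]
      map_mul' := fun g g' => by
        rw [chi_mul, AlgHom.convMul_comp_bialgHom_distrib] }
  have hPe : ∀ g, (P g).ofConv e = 0 := fun g => by
    show (chi g).ofConv (π e) = 0
    rw [hπe, map_zero]
  have hPx : ∀ x : WithConv (C →ₐ[L] L), x.ofConv e = 0 → ∃ g, P g = x := fun x hx => by
    have hle : ∀ y, π y = 0 → x.ofConv y = 0 := fun y hy => by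
      obtain ⟨c, rfl⟩ := Ideal.mem_span_singleton'.1 ((hker y).1 hy)
      rw [map_mul, hx, mul_zero]
    obtain ⟨g, hg⟩ := exists_chi (toConv ((π : C →ₐ[L] MonoidAlgebra L N).liftOfSurjective hπ x.ofConv hle))
    refine ⟨g, ?_⟩
    apply WithConv.ofConv_injective
    show (chi g).ofConv.comp (π : C →ₐ[L] MonoidAlgebra L N) = x.ofConv
    rw [hg]
    exact AlgHom.liftOfSurjective_comp (π : C →ₐ[L] MonoidAlgebra L N) hπ x.ofConv hle
  -- translation
  let τ : WithConv (C →ₐ[L] L) → (C →ₐ[L] C) := fun x =>
    (toConv ((Algebra.ofId L C).comp x.ofConv) * toConv (AlgHom.id L C)).ofConv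
  have hτ : ∀ x y : WithConv (C →ₐ[L] L), y.ofConv (τ x e) = (x * y).ofConv e := fun x y => by
    have h := AlgHom.comp_convMul_distrib y.ofConv (toConv ((Algebra.ofId L C).comp x.ofConv)) (toConv (AlgHom.id L C))
    have h1 : y.ofConv.comp ((Algebra.ofId L C).comp x.ofConv) = x.ofConv := AlgHom.ext fun c => by simp
    simp only [h1, ofConv_toConv, AlgHom.comp_id, toConv_ofConv] at h
    exact DFunLike.congr_fun h e
  have hall : ∀ x : WithConv (C →ₐ[L] L), x.ofConv e = 0 := by
    intro x
    obtain ⟨i, -, j, -, hij, heq⟩ := Set.infinite_univ.exists_ne_map_eq_of_mapsTo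
      (f := fun i : ℕ => τ (x ^ i) e) (t := {e : C | IsIdempotentElem e})
      (fun i _ => he.map (τ (x ^ i))) (finite_idempotents C)
    obtain ⟨m, hm, hxm⟩ : ∃ m, 0 < m ∧ (x ^ m).ofConv e = 0 := by
      have key : ∀ a b, a < b → τ (x ^ a) e = τ (x ^ b) e → ∃ m, 0 < m ∧ (x ^ m).ofConv e = 0 := by
        intro a b hab h
        refine ⟨b - a, Nat.sub_pos_of_lt hab, ?_⟩
        have h2 := congrArg (fun c => ((x ^ a)⁻¹).ofConv c) h
        simp only [hτ, mul_inv_cancel] at h2
        rw [pow_sub _ hab.le, ← h2]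
        have hc := CoalgHomClass.counit_comp_apply π e
        rw [hπe, map_zero] at hc
        simp [AlgHom.convOne_def, ← hc]
      rcases lt_or_gt_of_ne hij with h | h
      · exact key _ _ h heq
      · exact key _ _ h heq.symm
    obtain ⟨g, hg⟩ := hPx _ hxm
    obtain ⟨d, hd, hroot⟩ := exists_root L (N := N)
    obtain ⟨h, hh⟩ := hroot g m hm
    have ht : (x * (P h)⁻¹) ^ (m * d) = 1 := by
      have e1 : (P h) ^ (m * d) = (x ^ m) ^ d := by rw [← hg, ← map_pow, ← map_pow, hh]
      rw [mul_pow, inv_pow, e1, ← pow_mul, mul_inv_cancel]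
    obtain ⟨g', hg'⟩ := hPx _ (htor _ ⟨m * d, Nat.mul_pos hm hd, ht⟩)
    have hx : x = P (g' * h) := by rw [map_mul, hg', inv_mul_cancel_right]
    rw [hx]
    exact hPe _
  -- no point outside
  have hu : IsUnit (1 - e) := by
    by_contra hu
    obtain ⟨M, hM, heM⟩ := exists_max_ideal_of_mem_nonunits hu
    letI := Ideal.Quotient.field M
    haveI : Module.Finite L (C ⧸ M) := finite_of_finite_type_of_isJacobsonRing L (C ⧸ M)
    let q : C →ₐ[L] L := (IsAlgClosed.lift (R := L) (S := C ⧸ M) (M := L)).comp (Ideal.Quotient.mkₐ L M)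
    have h0 : q e = 0 := hall (toConv q)
    have h1 : q (1 - e) = 0 := by
      show IsAlgClosed.lift (Ideal.Quotient.mk M (1 - e)) = 0
      rw [Ideal.Quotient.eq_zero_iff_mem.2 heM, map_zero]
    rw [map_sub, map_one, h0, sub_zero] at h1
    exact one_ne_zero h1
  obtain ⟨v, hv⟩ := hu
  have : e * v = 0 := by rw [hv, mul_sub, mul_one, he.eq, sub_self]
  simpa using this

end Field

/-- A point killed by `n` kills the ideal of the `n`-torsion. -/
theorem eq_zero_of_pow_eq_one {A : Type u} [CommRing A] {C : Type u} [CommRing C] [HopfAlgebra A C]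
    {K : Type u} [CommRing K] [Algebra A K] (z : WithConv (C →ₐ[A] K)) {n : ℕ} (hz : z ^ n = 1) {x : C}
    (hx : x ∈ SGA3b.torsionIdeal A C n) : z.ofConv x = 0 := by
  have hpow : ∀ k, toConv (z.ofConv.comp (SGA3b.powConv A C k)) = z ^ k := by
    intro k
    induction k with
    | zero =>
      rw [pow_zero, SGA3b.powConv, pow_zero, AlgHom.convOne_def, AlgHom.convOne_def, ofConv_toConv]
      congr 1
      exact AlgHom.ext fun a => z.ofConv.commutes _
    | succ k IH =>
      rw [SGA3b.powConv, pow_succ, pow_succ, AlgHom.comp_convMul_distrib, ← SGA3b.powConv, IH, ofConv_toConv,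
        AlgHom.comp_id, toConv_ofConv]
  have hle : SGA3b.torsionIdeal A C n ≤ RingHom.ker z.ofConv.toRingHom := by
    rw [SGA3b.torsionIdeal, Ideal.map_le_iff_le_comap]
    intro a ha
    show z.ofConv (SGA3b.powConv A C n a) = 0
    have h := DFunLike.congr_fun (congrArg WithConv.ofConv ((hpow n).trans hz)) a
    refine h.trans ?_
    simp [AlgHom.convOne_def, show Coalgebra.counit (R := A) a = 0 from ha]
  exact hle hx

/-- An open and closed subgroup of multiplicative type containing the torsion is everything. -/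
theorem eq_zero_of_torsion {A : Type u} [CommRing A] {C : Type u} [CommRing C] [HopfAlgebra A C]
    [Coalgebra.IsCocomm A C] [Algebra.FiniteType A C] {F : Type u} [CommRing F] [HopfAlgebra A F]
    (φ : C →ₐc[A] F) (hφ : Function.Surjective φ) {e : C} (he : IsIdempotentElem e)
    (hker : ∀ x, φ x = 0 ↔ x ∈ Ideal.span {e}) {T : Type u} [CommRing T] [Algebra A T] [Module.FaithfullyFlat A T]
    {N : Type u} [CommGroup N] (E : Split A F (Additive N) T)
    (htor : ∀ n, 0 < n → e ∈ SGA3b.torsionIdeal A C n) : e = 0 := by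
  refine he.eq_zero_of_isNilpotent (nilpotent_iff_mem_prime.2 fun q hq => ?_)
  let κ := q.ResidueField
  haveI : Nontrivial (κ ⊗[A] T) := Module.FaithfullyFlat.rTensor_nontrivial A T κ
  obtain ⟨m, hm⟩ := Ideal.exists_maximal (κ ⊗[A] T)
  letI := Ideal.Quotient.field m
  let L := AlgebraicClosure ((κ ⊗[A] T) ⧸ m)
  haveI : IsScalarTower A ((κ ⊗[A] T) ⧸ m) L := inferInstance
  let jT : T →ₐ[A] L := (IsScalarTower.toAlgHom A _ L).comp
    ((Ideal.Quotient.mkₐ A m).comp Algebra.TensorProduct.includeRight)
  let jC : C →ₐ[A] L := ((IsScalarTower.toAlgHom A _ L).comp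
    ((Ideal.Quotient.mkₐ A m).comp Algebra.TensorProduct.includeLeft)).comp (IsScalarTower.toAlgHom A C κ)
  obtain ⟨EL, -⟩ := exists_split_push E jT
  obtain ⟨ε⟩ := exists_bialgEquiv EL
  let π : L ⊗[A] C →ₐc[L] MonoidAlgebra L N :=
    (ε : L ⊗[A] F →ₐc[L] MonoidAlgebra L N).comp (Bialgebra.TensorProduct.map (BialgHom.id L L) φ)
  have hπ : ∀ z, π z = ε ((φ : C →ₐ[A] F).toLinearMap.lTensor L z) := fun z => by
    induction z using TensorProduct.induction_on with
    | zero => simp
    | add a b ha hb => simp only [map_add, ha, hb]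
    | tmul c y => rfl
  have hπs : Function.Surjective π := fun y => by
    obtain ⟨w, hw⟩ := LinearMap.lTensor_surjective L (g := (φ : C →ₐ[A] F).toLinearMap) hφ (ε.symm y)
    exact ⟨w, by rw [hπ, hw]; exact ε.toAlgEquiv.apply_symm_apply y⟩
  have hker' : ∀ z, π z = 0 ↔ z ∈ Ideal.span {(1 : L) ⊗ₜ[A] e} := by
    intro z
    have hk := Algebra.TensorProduct.lTensor_ker (R := A) (A := L) (φ : C →ₐ[A] F) hφ
    have hspan : RingHom.ker (φ : C →ₐ[A] F) = Ideal.span {e} := Ideal.ext fun x => hker x
    rw [hspan, Ideal.map_span, Set.image_singleton] at hk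
    have e1 : π z = 0 ↔ (φ : C →ₐ[A] F).toLinearMap.lTensor L z = 0 := by
      rw [hπ]
      exact ⟨fun h => ε.toAlgEquiv.injective (h.trans (map_zero ε.toAlgEquiv).symm), fun h => by rw [h, map_zero]⟩
    rw [e1]
    exact SetLike.ext_iff.1 hk z
  have h0 : (1 : L) ⊗ₜ[A] e = 0 := by
    refine eq_zero_of_torsion_points π hπs (he.map (Algebra.TensorProduct.includeRight : C →ₐ[A] L ⊗[A] C)) hker'
      fun x ⟨n, hn, hx⟩ => ?_
    let res : WithConv (L ⊗[A] C →ₐ[L] L) →* WithConv (C →ₐ[A] L) :=
      { toFun := fun y => toConv ((y.ofConv.restrictScalars A).comp Algebra.TensorProduct.includeRight)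
        map_one' := by
          apply WithConv.ofConv_injective
          apply AlgHom.ext
          intro c
          simp [AlgHom.convOne_def, Algebra.smul_def]
        map_mul' := fun y y' => by
          apply WithConv.ofConv_injective
          apply AlgHom.ext
          intro c
          show (y * y').ofConv (1 ⊗ₜ c) = _
          rw [AlgHom.convMul_apply, AlgHom.convMul_apply, TensorProduct.comul_tmul, CommSemiring.comul_apply]
          generalize Coalgebra.comul (R := A) c = w
          induction w using TensorProduct.induction_on with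
          | zero => simp
          | add a b ha hb => simp only [TensorProduct.tmul_add, map_add, ha, hb]
          | tmul a b => simp }
    exact eq_zero_of_pow_eq_one (res x) (n := n) (by rw [← map_pow, hx, map_one]) (htor n hn)
  have h1 := congrArg (Algebra.TensorProduct.lift (AlgHom.id L L) jC fun _ _ => Commute.all _ _) h0
  simp only [Algebra.TensorProduct.lift_tmul, map_one, one_mul, map_zero, jC, AlgHom.comp_apply] at h1
  have h2 : algebraMap C κ e = 0 := by
    have := (IsScalarTower.toAlgHom A ((κ ⊗[A] T) ⧸ m) L).toRingHom.injective (h1.trans (map_zero _).symm)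
    let g : κ →+* (κ ⊗[A] T) ⧸ m :=
      (Ideal.Quotient.mk m).comp (Algebra.TensorProduct.includeLeft : κ →ₐ[A] κ ⊗[A] T).toRingHom
    exact g.injective (this.trans (map_zero g).symm)
  exact Ideal.algebraMap_residueField_eq_zero.1 h2

/-- An idempotent near zero lies in the ideal of a finite torsion. -/
theorem mem_of_finite {A : Type u} [CommRing A] {C : Type u} [CommRing C] [Algebra A C] {I : Ideal A}
    (hI : I ≤ Ideal.jacobson ⊥) {J : Ideal C} [Module.Finite A (C ⧸ J)] {e : C} (he : IsIdempotentElem e)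
    (heI : e ∈ I.map (algebraMap A C)) : e ∈ J := by
  haveI := Algebra.IsIntegral.of_finite A (C ⧸ J)
  have h1 : Ideal.Quotient.mk J e ∈ I.map (algebraMap A (C ⧸ J)) := by
    rw [IsScalarTower.algebraMap_eq A C (C ⧸ J), ← Ideal.map_map]
    exact Ideal.mem_map_of_mem _ heI
  have h2 := HenselLib.map_le_jacobson_bot hI h1
  have h3 : IsUnit (1 - Ideal.Quotient.mk J e) := by
    have := Ideal.mem_jacobson_bot.1 h2 (-1)
    rwa [mul_neg, mul_one, neg_add_eq_sub] at this
  have h4 : Ideal.Quotient.mk J e * (1 - Ideal.Quotient.mk J e) = 0 := by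
    rw [mul_sub, mul_one, (he.map (Ideal.Quotient.mk J)).eq, sub_self]
  exact Ideal.Quotient.eq_zero_iff_mem.1 (h3.mul_left_eq_zero.1 h4)

end Groth.Agent.HomLift
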