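import Groth.Agent.HomLiftLib.MultType
import Groth.Agent.HomLiftLib.Points
import Groth.Agent.HomLiftLib.Cancel
import Groth.Agent.HopfOrdLib.BaseChange

set_option autoImplicit false

/-!
Flat commutative groups of finite presentation with fibres of multiplicative type and finite torsion.
-/

noncomputable section

universe u

open scoped TensorProduct
open WithConv Groth.Agent.TorusField Groth.Agent.DiagHopf

namespace Groth.Agent.HomLift

theorem includeRight_powConv {R : Type u} [CommRing R] {A : Type u} [CommRing A] [HopfAlgebra R A] (K : Type u)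
    [CommRing K] [Algebra R K] (n : ℕ) (a : A) :
    SGA3b.powConv K (K ⊗[R] A) n ((1 : K) ⊗ₜ a) = (1 : K) ⊗ₜ SGA3b.powConv R A n a := by
  show ((toConv (AlgHom.id K (K ⊗[R] A))) ^ n) ((1 : K) ⊗ₜ a) = _
  rw [← HopfOrdLib.bc_id, ← HopfOrdLib.bc_pow]
  rfl

/-- The torsion ideal commutes with base change, and finiteness with it. -/
theorem finite_torsion_baseChange {R : Type u} [CommRing R] {A : Type u} [CommRing A] [HopfAlgebra R A] (K : Type u)
    [CommRing K] [Algebra R K] (n : ℕ) [Module.Finite R (A ⧸ SGA3b.torsionIdeal R A n)] :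
    Module.Finite K ((K ⊗[R] A) ⧸ SGA3b.torsionIdeal K (K ⊗[R] A) n) := by
  let J := SGA3b.torsionIdeal R A n
  let J' := SGA3b.torsionIdeal K (K ⊗[R] A) n
  let ι : A →ₐ[R] (K ⊗[R] A) ⧸ J' :=
    (Ideal.Quotient.mkₐ R J').comp Algebra.TensorProduct.includeRight
  have hle : J ≤ RingHom.ker ι.toRingHom := by
    show SGA3b.torsionIdeal R A n ≤ _
    rw [SGA3b.torsionIdeal, Ideal.map_le_iff_le_comap]
    intro a ha
    show Ideal.Quotient.mk J' ((1 : K) ⊗ₜ[R] SGA3b.powConv R A n a) = 0
    rw [Ideal.Quotient.eq_zero_iff_mem, ← includeRight_powConv]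
    refine Ideal.mem_map_of_mem _ ?_
    show Coalgebra.counit (R := K) ((1 : K) ⊗ₜ[R] a) = 0
    rw [TensorProduct.counit_tmul, show Coalgebra.counit (R := R) a = 0 from ha, zero_smul]
  let g : K ⊗[R] (A ⧸ J) →ₐ[K] (K ⊗[R] A) ⧸ J' :=
    Algebra.TensorProduct.lift (Algebra.ofId K _) (Ideal.Quotient.liftₐ J ι fun x hx => hle hx)
      fun _ _ => Commute.all _ _
  refine Module.Finite.of_surjective g.toLinearMap fun y => ?_
  obtain ⟨z, rfl⟩ := Ideal.Quotient.mk_surjective y
  induction z using TensorProduct.induction_on with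
  | zero => exact ⟨0, by simp⟩
  | add a b ha hb =>
    obtain ⟨a', ha'⟩ := ha
    obtain ⟨b', hb'⟩ := hb
    exact ⟨a' + b', by rw [map_add, map_add, ha', hb']⟩
  | tmul c a =>
    refine ⟨c ⊗ₜ Ideal.Quotient.mk J a, ?_⟩
    show g (c ⊗ₜ Ideal.Quotient.mk J a) = _
    rw [Algebra.TensorProduct.lift_tmul]
    show algebraMap K _ c * Ideal.Quotient.mk J' ((1 : K) ⊗ₜ[R] a) = _
    rw [IsScalarTower.algebraMap_apply K (K ⊗[R] A) ((K ⊗[R] A) ⧸ J'), Ideal.Quotient.algebraMap_eq, ← map_mul,
      Algebra.TensorProduct.algebraMap_apply, Algebra.TensorProduct.tmul_mul_tmul]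
    simp
    rfl

/-- A morphism with idempotent kernel after base change and an identification of the source. -/
theorem exists_transport {A₀ : Type u} [CommRing A₀] {C F : Type u} [CommRing C] [HopfAlgebra A₀ C] [CommRing F]
    [HopfAlgebra A₀ F] (φ : C →ₐc[A₀] F) (hsurj : Function.Surjective φ) {e₀ : C} (he₀ : IsIdempotentElem e₀)
    (hker₀ : ∀ x, φ x = 0 ↔ x ∈ Ideal.span {e₀}) {S : Type u} [CommRing S] [Algebra A₀ S]
    {H : Type u} [CommRing H] [HopfAlgebra S H] (θ : S ⊗[A₀] C ≃ₐc[S] H) (J : Ideal A₀) (m : Ideal S)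
    (hJ : J ≤ m.comap (algebraMap A₀ S)) (he₀J : e₀ ∈ J.map (algebraMap A₀ C)) :
    ∃ (π : H →ₐc[S] S ⊗[A₀] F) (e₁ : H), Function.Surjective π ∧ IsIdempotentElem e₁ ∧
      (∀ z, π z = 0 ↔ z ∈ Ideal.span {e₁}) ∧ e₁ ∈ m.map (algebraMap S H) := by
  let π : H →ₐc[S] S ⊗[A₀] F :=
    (Bialgebra.TensorProduct.map (BialgHom.id S S) φ).comp (θ.symm : H →ₐc[S] S ⊗[A₀] C)
  have hπ : ∀ z, π z = (φ : C →ₐ[A₀] F).toLinearMap.lTensor S (θ.symm z) := fun z => by
    show Bialgebra.TensorProduct.map (BialgHom.id S S) φ (θ.symm z) = _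
    generalize θ.symm z = w
    induction w using TensorProduct.induction_on with
    | zero => simp
    | add a b ha hb => simp only [map_add, ha, hb]
    | tmul c y => rfl
  have hsymm : ∀ w, θ.symm (θ w) = w := fun w => θ.toAlgEquiv.symm_apply_apply w
  have happ : ∀ z, θ (θ.symm z) = z := fun z => θ.toAlgEquiv.apply_symm_apply z
  let e₁ : H := θ ((1 : S) ⊗ₜ[A₀] e₀)
  refine ⟨π, e₁, fun y => ?_, (he₀.map (Algebra.TensorProduct.includeRight : C →ₐ[A₀] S ⊗[A₀] C)).map θ,
    fun z => ?_, ?_⟩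
  · obtain ⟨w, hw⟩ := LinearMap.lTensor_surjective S (g := (φ : C →ₐ[A₀] F).toLinearMap) hsurj y
    exact ⟨θ w, by rw [hπ, hsymm, hw]⟩
  · have hk := Algebra.TensorProduct.lTensor_ker (R := A₀) (A := S) (φ : C →ₐ[A₀] F) hsurj
    have hspan : RingHom.ker (φ : C →ₐ[A₀] F) = Ideal.span {e₀} := Ideal.ext fun x => hker₀ x
    rw [hspan, Ideal.map_span, Set.image_singleton] at hk
    rw [hπ]
    refine (SetLike.ext_iff.1 hk (θ.symm z)).trans ?_
    rw [Ideal.mem_span_singleton', Ideal.mem_span_singleton']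
    constructor
    · rintro ⟨c, hc⟩
      refine ⟨θ c, ?_⟩
      show θ c * θ _ = z
      rw [← map_mul, ← happ z, ← hc]
      rfl
    · rintro ⟨c, hc⟩
      refine ⟨θ.symm c, ?_⟩
      rw [← hc, map_mul]
      show _ = _ * θ.symm (θ _)
      rw [hsymm]
      rfl
  · have hle : J.map (algebraMap A₀ C) ≤ (m.map (algebraMap S H)).comap
        (θ.toAlgEquiv.toRingEquiv.toRingHom.comp
          (Algebra.TensorProduct.includeRight : C →ₐ[A₀] S ⊗[A₀] C).toRingHom) := by
      rw [Ideal.map_le_iff_le_comap]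
      intro x hx
      show θ.toAlgEquiv ((1 : S) ⊗ₜ[A₀] algebraMap A₀ C x) ∈ m.map (algebraMap S H)
      rw [show (1 : S) ⊗ₜ[A₀] algebraMap A₀ C x = algebraMap S (S ⊗[A₀] C) (algebraMap A₀ S x) from
        ((Algebra.TensorProduct.includeRight : C →ₐ[A₀] S ⊗[A₀] C).commutes x).trans
          (IsScalarTower.algebraMap_apply A₀ S (S ⊗[A₀] C) x), AlgEquiv.commutes]
      exact Ideal.mem_map_of_mem _ (hJ hx)
    exact hle he₀J

/-- Over a local covering the finite torsion forces the model to be the whole group. -/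
theorem exists_split_covering {R₂ R : Type u} [CommRing R₂] [CommRing R] [Algebra R₂ R]
    {A : Type u} [CommRing A] [HopfAlgebra R A] [Coalgebra.IsCocomm R A] [Algebra.FiniteType R A]
    {B : Type u} [CommRing B] [HopfAlgebra R₂ B] (e : R ⊗[R₂] B ≃ₐc[R] A)
    (hfin : ∀ n : ℕ, 0 < n → Module.Finite R (A ⧸ SGA3b.torsionIdeal R A n))
    {A₀ : Type u} [CommRing A₀] [Algebra R₂ A₀] {F : Type u} [CommRing F] [HopfAlgebra A₀ F]
    (φ : A₀ ⊗[R₂] B →ₐc[A₀] F) (hsurj : Function.Surjective φ) {e₀ : A₀ ⊗[R₂] B} (he₀ : IsIdempotentElem e₀)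
    (hker₀ : ∀ x, φ x = 0 ↔ x ∈ Ideal.span {e₀}) (J : Ideal A₀) (he₀J : e₀ ∈ J.map (algebraMap A₀ (A₀ ⊗[R₂] B)))
    {T : Type u} [CommRing T] [Algebra A₀ T] [Module.FaithfullyFlat A₀ T] {M : Type u} [CommGroup M]
    (EF : Split A₀ F (Additive M) T)
    (S : Type u) [CommRing S] [IsLocalRing S] [Algebra A₀ S] [Algebra R S] [Algebra R₂ S] [IsScalarTower R₂ R S]
    [IsScalarTower R₂ A₀ S] (hJ : J ≤ (IsLocalRing.maximalIdeal S).comap (algebraMap A₀ S)) :
    ∃ (T' : Type u) (_ : CommRing T') (_ : Algebra S T') (_ : Algebra R T') (_ : IsScalarTower R S T'),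
      Module.FaithfullyFlat S T' ∧ Nonempty (Split R A (Additive M) T') := by
  let C := A₀ ⊗[R₂] B
  let θ₁ := cancelBC R₂ A₀ S B
  let θ₂ := cancelBC R₂ R S B
  let θ₃ : S ⊗[R] (R ⊗[R₂] B) ≃ₐc[S] S ⊗[R] A :=
    BialgEquiv.ofBijective (Bialgebra.TensorProduct.map (BialgHom.id S S) (e : R ⊗[R₂] B →ₐc[R] A))
      (LinearEquiv.lTensor S e.toAlgEquiv.toLinearEquiv).bijective
  let θ : S ⊗[A₀] C ≃ₐc[S] S ⊗[R] A := (θ₁.trans θ₂.symm).trans θ₃
  obtain ⟨π, e₁, hπs, he₁, hker₁, he₁I⟩ :=
    exists_transport (S := S) (H := S ⊗[R] A) φ hsurj he₀ hker₀ θ J (IsLocalRing.maximalIdeal S) hJ he₀J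
  haveI : Algebra.FiniteType S (S ⊗[R] A) := Algebra.FiniteType.baseChange (A := A) S
  let T' := S ⊗[A₀] T
  letI : CommRing T' := inferInstanceAs (CommRing (S ⊗[A₀] T))
  haveI : Module.FaithfullyFlat S T' := inferInstance
  obtain ⟨EF', -⟩ := exists_split_push EF (Algebra.TensorProduct.includeRight : T →ₐ[A₀] T')
  obtain ⟨EF''⟩ := exists_split_transfer' (R' := S) EF'
  have h0 : e₁ = 0 := eq_zero_of_torsion π hπs he₁ hker₁ EF'' fun n hn => by
    haveI := hfin n hn
    haveI := finite_torsion_baseChange (R := R) (A := A) S n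
    exact mem_of_finite (IsLocalRing.maximalIdeal_le_jacobson _) he₁ he₁I
  have hinj : Function.Injective π := (injective_iff_map_eq_zero π).2 fun x hx => by
    have := (hker₁ x).1 hx
    rw [h0, Ideal.span_singleton_eq_bot.2 rfl] at this
    exact this
  obtain ⟨EA⟩ := exists_split_equiv (BialgEquiv.ofBijective π ⟨hinj, hπs⟩).symm EF''
  obtain ⟨EA'⟩ := exists_split_transfer EA
  exact ⟨T', inferInstance, inferInstance, inferInstance, inferInstance, inferInstance, ⟨EA'⟩⟩

/-- Near a prime with flat fibre of multiplicative type a group with finite torsion splits over an étale covering. -/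
theorem exists_split_local_torsion_of_flatAt {R₂ R : Type u} [CommRing R₂] [IsNoetherianRing R₂] [CommRing R] [Algebra R₂ R]
    {A : Type u} [CommRing A] [HopfAlgebra R A] [Coalgebra.IsCocomm R A] [Algebra.FiniteType R A]
    {B : Type u} [CommRing B] [HopfAlgebra R₂ B] [Algebra.FiniteType R₂ B]
    (e : R ⊗[R₂] B ≃ₐc[R] A) (p : Ideal R) [p.IsPrime]
    (hp : SGA3b.IsMultType p.ResidueField (p.ResidueField ⊗[R] A))
    (hfin : ∀ n : ℕ, 0 < n → Module.Finite R (A ⧸ SGA3b.torsionIdeal R A n))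
    (hflat : ∀ (A₀ : Type u) [CommRing A₀] [Algebra R₂ A₀] (Q : Ideal (A₀ ⊗[R₂] B)) [Q.IsPrime],
      Q.comap (algebraMap R₂ (A₀ ⊗[R₂] B)) = p.comap (algebraMap R₂ R) → Module.Flat A₀ (Localization.AtPrime Q)) :
    ∃ (M : Type u) (_ : CommGroup M) (T : Type u) (_ : CommRing T) (_ : Algebra (Localization.AtPrime p) T)
      (_ : Algebra R₂ T) (_ : IsScalarTower R₂ (Localization.AtPrime p) T),
      AddGroup.FG (Additive M) ∧ Algebra.Etale (Localization.AtPrime p) T ∧
      Module.FaithfullyFlat (Localization.AtPrime p) T ∧ Nonempty (Split R₂ B (Additive M) T) := by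
  classical
  obtain ⟨L, _, _, N, _, ⟨E₀⟩⟩ := exists_field_split hp
  letI : Algebra R L := ((algebraMap p.ResidueField L).comp (algebraMap R p.ResidueField)).toAlgebra
  haveI : IsScalarTower R p.ResidueField L := IsScalarTower.of_algebraMap_eq fun _ => rfl
  letI : Algebra R₂ L := ((algebraMap R L).comp (algebraMap R₂ R)).toAlgebra
  haveI : IsScalarTower R₂ R L := IsScalarTower.of_algebraMap_eq fun _ => rfl
  have hker : RingHom.ker (algebraMap R L) = p := by
    rw [IsScalarTower.algebraMap_eq R p.ResidueField L, ← RingHom.comap_ker,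
      (RingHom.injective_iff_ker_eq_bot _).1 (algebraMap p.ResidueField L).injective, ← RingHom.ker_eq_comap_bot,
      Ideal.ker_algebraMap_residueField]
  obtain ⟨E₁⟩ := exists_split_transfer E₀
  obtain ⟨E₂⟩ := exists_split_equiv e.symm E₁
  obtain ⟨E₃⟩ := exists_split_transfer E₂
  obtain ⟨A₀, _, _, ψ, F, _, _, φ, s, T, _, _, M, _, hfl, hFfl, hsurj, hfg, hεu, hs, hTff, ⟨EF⟩, e₀, he₀, hker₀, he₀I⟩ :=
    exists_completion_model_of_flatAt E₃ fun A₀ _ _ Q _ hQ => hflat A₀ Q <| hQ.trans <| by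
      rw [← hker, RingHom.comap_ker, ← IsScalarTower.algebraMap_eq]
  haveI := hfl; haveI := hFfl; haveI := hTff
  let O := Localization.AtPrime p
  let R' := O ⊗[R₂] A₀
  letI : Algebra A₀ R' := Algebra.TensorProduct.rightAlgebra
  haveI : IsScalarTower R₂ A₀ R' := IsScalarTower.of_algebraMap_eq fun x => by
    show algebraMap R₂ R' x = Algebra.TensorProduct.includeRight (algebraMap R₂ A₀ x)
    rw [AlgHom.commutes]
  let a : O →ₐ[R] L := IsLocalization.liftAlgHom (M := p.primeCompl) (f := Algebra.ofId R L) fun y =>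
    isUnit_iff_ne_zero.2 fun h => y.2 (hker.le h)
  let b : R' →ₐ[R₂] L := Algebra.TensorProduct.lift (a.restrictScalars R₂) ψ fun _ _ => Commute.all _ _
  haveI : Module.Flat O R' := Module.Flat.baseChange R₂ O A₀
  -- a local covering
  let Q := RingHom.ker b.toRingHom
  haveI : Q.IsPrime := RingHom.ker_isPrime _
  let R'' := Localization.AtPrime Q
  haveI : IsScalarTower O R' R'' := inferInstance
  haveI : IsScalarTower A₀ R' R'' := inferInstance
  haveI : IsScalarTower R R' R'' := inferInstance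
  haveI : IsScalarTower R O R'' := inferInstance
  haveI : IsScalarTower R₂ R R'' := inferInstance
  haveI : IsScalarTower R₂ O R'' := inferInstance
  haveI : IsScalarTower R₂ A₀ R'' := inferInstance
  haveI : Module.Flat R' R'' := IsLocalization.flat R'' Q.primeCompl
  haveI : Module.Flat O R'' := Module.Flat.trans O R' R''
  haveI hR''ff : Module.FaithfullyFlat O R'' := by
    refine ⟨fun {m} hm => ?_⟩
    rw [IsLocalRing.eq_maximalIdeal hm, Ideal.smul_top_eq_map]
    intro h
    have h1 : (IsLocalRing.maximalIdeal O).map (algebraMap O R'') ≤ IsLocalRing.maximalIdeal R'' := by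
      rw [Ideal.map_le_iff_le_comap, ← Localization.AtPrime.map_eq_maximalIdeal, Ideal.map_le_iff_le_comap]
      intro x hx
      show algebraMap R' R'' (algebraMap O R' (algebraMap R O x)) ∈ IsLocalRing.maximalIdeal R''
      rw [← Localization.AtPrime.map_eq_maximalIdeal]
      refine Ideal.mem_map_of_mem _ ?_
      show b (algebraMap R O x ⊗ₜ[R₂] (1 : A₀)) = 0
      rw [Algebra.TensorProduct.lift_tmul, map_one, mul_one]
      show a (algebraMap R O x) = 0
      rw [AlgHom.commutes]
      exact hker.ge hx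
    rw [(Submodule.restrictScalars_eq_top_iff O R'' R'').1 h] at h1
    exact (IsLocalRing.maximalIdeal.isMaximal R'').ne_top (top_le_iff.1 h1)
  obtain ⟨T', _, _, _, _, hT'ff, ⟨EA⟩⟩ := exists_split_covering e hfin φ hsurj he₀ hker₀ (RingHom.ker ψ.toRingHom) he₀I
    EF R'' fun x hx => by
      rw [Ideal.mem_comap, IsScalarTower.algebraMap_apply A₀ R' R'', ← Localization.AtPrime.map_eq_maximalIdeal]
      refine Ideal.mem_map_of_mem _ ?_
      show b ((1 : O) ⊗ₜ[R₂] x) = 0
      rw [Algebra.TensorProduct.lift_tmul, map_one, one_mul]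
      exact hx
  haveI := hT'ff
  letI : Algebra O T' := ((algebraMap R'' T').comp (algebraMap O R'')).toAlgebra
  haveI : IsScalarTower O R'' T' := IsScalarTower.of_algebraMap_eq fun _ => rfl
  haveI : Module.FaithfullyFlat O T' := Module.FaithfullyFlat.trans O R'' T'
  haveI : IsScalarTower R O T' := IsScalarTower.of_algebraMap_eq fun x => by
    rw [IsScalarTower.algebraMap_apply R R'' T', IsScalarTower.algebraMap_apply R O R'']
    rfl
  letI : Algebra R₂ T' := ((algebraMap R T').comp (algebraMap R₂ R)).toAlgebra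
  haveI : IsScalarTower R₂ R T' := IsScalarTower.of_algebraMap_eq fun _ => rfl
  haveI : IsScalarTower R₂ O T' := IsScalarTower.of_algebraMap_eq fun x => by
    rw [IsScalarTower.algebraMap_apply R₂ R T', IsScalarTower.algebraMap_apply R O T',
      ← IsScalarTower.algebraMap_apply R₂ R O]
  obtain ⟨ER⟩ := exists_split_equiv e.symm EA
  obtain ⟨EB⟩ := exists_split_transfer ER
  obtain ⟨EO⟩ := exists_split_transfer' (R' := O) EB
  haveI : Algebra.FiniteType O (O ⊗[R₂] B) := Algebra.FiniteType.baseChange (A := B) O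
  haveI : Nontrivial T' := by
    have h0 := Module.FaithfullyFlat.submodule_ne_top (R := O) (M := T') (IsLocalRing.maximalIdeal.isMaximal O)
    by_contra hT
    rw [not_nontrivial_iff_subsingleton] at hT
    exact h0 (Subsingleton.elim _ _)
  haveI := fg_of_split' EO
  haveI : AddGroup.FG (Additive M) := AddGroup.fg_iff_addMonoid_fg.2 inferInstance
  obtain ⟨T'', _, _, het, hff, ⟨E''⟩⟩ := Groth.Agent.QIso.exists_split_etale EO
  letI : Algebra R₂ T'' := ((algebraMap O T'').comp (algebraMap R₂ O)).toAlgebra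
  haveI : IsScalarTower R₂ O T'' := IsScalarTower.of_algebraMap_eq fun _ => rfl
  exact ⟨M, inferInstance, T'', inferInstance, inferInstance, inferInstance, inferInstance, inferInstance, het, hff,
    exists_split_transfer E''⟩

/-- Near a prime with fibre of multiplicative type a group with finite torsion splits over an étale covering. -/
theorem exists_split_local_torsion {R₂ R : Type u} [CommRing R₂] [IsNoetherianRing R₂] [CommRing R] [Algebra R₂ R]
    {A : Type u} [CommRing A] [HopfAlgebra R A] [Coalgebra.IsCocomm R A] [Algebra.FiniteType R A]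
    {B : Type u} [CommRing B] [HopfAlgebra R₂ B] [Module.Flat R₂ B] [Algebra.FiniteType R₂ B]
    (e : R ⊗[R₂] B ≃ₐc[R] A) (p : Ideal R) [p.IsPrime]
    (hp : SGA3b.IsMultType p.ResidueField (p.ResidueField ⊗[R] A))
    (hfin : ∀ n : ℕ, 0 < n → Module.Finite R (A ⧸ SGA3b.torsionIdeal R A n)) :
    ∃ (M : Type u) (_ : CommGroup M) (T : Type u) (_ : CommRing T) (_ : Algebra (Localization.AtPrime p) T)
      (_ : Algebra R₂ T) (_ : IsScalarTower R₂ (Localization.AtPrime p) T),
      AddGroup.FG (Additive M) ∧ Algebra.Etale (Localization.AtPrime p) T ∧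
      Module.FaithfullyFlat (Localization.AtPrime p) T ∧ Nonempty (Split R₂ B (Additive M) T) :=
  exists_split_local_torsion_of_flatAt e p hp hfin fun A₀ _ _ Q _ _ => Module.Flat.trans A₀ (A₀ ⊗[R₂] B) _

/-- Flat, finitely presented, commutative, with fibres of multiplicative type and finite torsion implies multiplicative type. -/
theorem isMultType_of_fibres_torsion {R : Type u} [CommRing R] {A : Type u} [CommRing A] [HopfAlgebra R A]
    [Coalgebra.IsCocomm R A] [Module.Flat R A] (hfp : Algebra.FinitePresentation R A)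
    (hfib : ∀ (p : Ideal R) [p.IsPrime], SGA3b.IsMultType p.ResidueField (p.ResidueField ⊗[R] A))
    (hfin : ∀ n : ℕ, 0 < n → Module.Finite R (A ⧸ SGA3b.torsionIdeal R A n)) :
    SGA3b.IsMultType R A := by
  classical
  obtain ⟨R₂, _, _, B, _, _, hft, -, hfl, hBfp, ⟨e⟩⟩ := exists_hopf_model R A hfp
  haveI := hfl; haveI := hBfp
  haveI : IsNoetherianRing R₂ := Algebra.FiniteType.isNoetherianRing ℤ R₂
  haveI : Algebra.FiniteType R₂ B := inferInstance
  have key : ∀ p : PrimeSpectrum R, ∃ f ∉ p.asIdeal,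
      SGA3b.IsMultTypeConst (Localization.Away f) (Localization.Away f ⊗[R] A) := by
    intro p
    obtain ⟨M, _, T, _, _, _, _, hM, het, hff, ⟨E⟩⟩ :=
      exists_split_local_torsion e p.asIdeal (hfib p.asIdeal) hfin
    haveI := hM; haveI := het; haveI := hff
    obtain ⟨f, hf, S, _, _, _, _, hSff, ⟨ES⟩⟩ := exists_split_away p.asIdeal E
    letI : Algebra R S := ((algebraMap (Localization.Away f) S).comp (algebraMap R (Localization.Away f))).toAlgebra
    haveI : IsScalarTower R (Localization.Away f) S := IsScalarTower.of_algebraMap_eq fun _ => rfl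
    haveI : IsScalarTower R₂ R S := IsScalarTower.of_algebraMap_eq fun x => by
      rw [IsScalarTower.algebraMap_apply R₂ (Localization.Away f) S,
        IsScalarTower.algebraMap_apply R₂ R (Localization.Away f)]
      rfl
    obtain ⟨E₁⟩ := exists_split_transfer' (R' := R) ES
    obtain ⟨E₂⟩ := exists_split_equiv e E₁
    obtain ⟨E₃⟩ := exists_split_transfer' (R' := Localization.Away f) E₂
    exact ⟨f, hf, S, inferInstance, inferInstance, hSff, M, inferInstance, exists_bialgEquiv E₃⟩
  choose f hf hmt using key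
  refine ⟨Set.range f, ?_, ?_⟩
  · by_contra h
    obtain ⟨m, hm, hle⟩ := Ideal.exists_le_maximal _ h
    haveI := hm.isPrime
    exact hf ⟨m, inferInstance⟩ (hle (Ideal.subset_span ⟨_, rfl⟩))
  · rintro _ ⟨p, rfl⟩
    exact hmt p

end Groth.Agent.HomLift
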