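import Groth.Agent.HomLiftLib.Nil
import Groth.Agent.QIsoLib.Lift
import Mathlib.RingTheory.Flat.Localization
import Mathlib.RingTheory.LocalProperties.Exactness

set_option autoImplicit false

/-!
Local splittings at maximal ideals and a criterion for isomorphisms.
-/

noncomputable section

universe u

open scoped TensorProduct
open Groth.Agent.TorusField Groth.Agent.DiagHopf

namespace Groth.Agent.HomLift

variable {R : Type u} [CommRing R] {A : Type u} [CommRing A] [HopfAlgebra R A] {F : Type u} [CommRing F]
  [HopfAlgebra R F]

theorem exists_local_split (hA : HasSplits R A) (hF : HasSplits R F) (m : Ideal R) [m.IsMaximal] :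
    ∃ (S : Type u) (_ : CommRing S) (_ : Algebra R S) (_ : Algebra (Localization.AtPrime m) S)
      (_ : IsScalarTower R (Localization.AtPrime m) S) (M N : Type u) (_ : AddCommGroup M) (_ : AddCommGroup N),
      IsLocalRing S ∧ Module.FaithfullyFlat (Localization.AtPrime m) S ∧ Nonempty (Split R A M S) ∧
        Nonempty (Split R F N S) := by
  classical
  obtain ⟨κ, _, U, _, _, N, _, N', _, hff, hEA, hEF⟩ := exists_common_family hA hF
  haveI := hff
  obtain ⟨Q, hQ⟩ := PrimeSpectrum.comap_surjective_of_faithfullyFlat (B := Π q, U q) ⟨m, inferInstance⟩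
  have hQm : Q.asIdeal.comap (algebraMap R (Π q, U q)) = m := congrArg PrimeSpectrum.asIdeal hQ
  obtain ⟨q, hq⟩ : ∃ q, RingHom.ker (Pi.evalRingHom U q) ≤ Q.asIdeal := by
    by_contra hne
    push Not at hne
    have h1 : ∀ q, Pi.single q 1 ∈ Q.asIdeal := fun q => by
      obtain ⟨x, hx, hxQ⟩ := SetLike.not_le_iff_exists.1 (hne q)
      refine ((Q.2.mem_or_mem (x := x) (y := Pi.single q 1) ?_).resolve_left hxQ)
      have h0 : x * Pi.single q 1 = 0 := by
        funext k
        rcases eq_or_ne k q with rfl | hk
        · simp [show x k = 0 from hx]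
        · simp [hk]
      rw [h0]; exact Q.asIdeal.zero_mem
    refine Q.2.ne_top (Q.asIdeal.eq_top_iff_one.2 ?_)
    rw [show (1 : Π q, U q) = ∑ q, Pi.single q 1 from (Finset.univ_sum_single (1 : Π q, U q)).symm]
    exact sum_mem fun q _ => h1 q
  have hsurj : Function.Surjective (Pi.evalRingHom U q) := Function.surjective_eval q
  let P : Ideal (U q) := Q.asIdeal.map (Pi.evalRingHom U q)
  haveI hP : P.IsPrime := Ideal.map_isPrime_of_surjective hsurj hq
  have hPm : P.comap (algebraMap R (U q)) = m := by
    rw [show algebraMap R (U q) = (Pi.evalRingHom U q).comp (algebraMap R (Π q, U q)) from rfl, ← Ideal.comap_comap,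
      Ideal.comap_map_of_surjective _ hsurj, sup_eq_left.2 (by rw [← RingHom.ker_eq_comap_bot]; exact hq), hQm]
  let S := Localization.AtPrime P
  haveI hflatU : Module.Flat R (U q) := by
    have := Module.Flat.of_retract (R := R) (M := Π q, U q) (LinearMap.single R U q) (LinearMap.proj q)
      (LinearMap.ext fun x => by simp)
    exact this
  have hunit : ∀ y : m.primeCompl, IsUnit (algebraMap R S y) := fun y => by
    rw [IsScalarTower.algebraMap_apply R (U q) S]
    exact IsLocalization.map_units S (M := P.primeCompl)
      ⟨_, fun h => y.2 ((SetLike.ext_iff.1 hPm _).1 (Ideal.mem_comap.2 h))⟩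
  let g : Localization.AtPrime m →+* S := IsLocalization.lift hunit
  letI : Algebra (Localization.AtPrime m) S := g.toAlgebra
  haveI : IsScalarTower R (Localization.AtPrime m) S := IsScalarTower.of_algebraMap_eq fun x =>
    (IsLocalization.lift_eq hunit x).symm
  haveI : Module.Flat R S := Module.Flat.trans R (U q) S
  haveI hflat : Module.Flat (Localization.AtPrime m) S :=
    (Module.flat_iff_of_isLocalization (Localization.AtPrime m) m.primeCompl S).2 inferInstance
  have hffS : Module.FaithfullyFlat (Localization.AtPrime m) S := ⟨fun {m'} hm' htop => by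
    rw [Ideal.smul_top_eq_map, Submodule.restrictScalars_eq_top_iff, IsLocalRing.eq_maximalIdeal hm',
      ← IsLocalization.AtPrime.map_eq_maximalIdeal m (Localization.AtPrime m), Ideal.map_map,
      ← IsScalarTower.algebraMap_eq, IsScalarTower.algebraMap_eq R (U q) S, ← Ideal.map_map] at htop
    refine (IsLocalization.map_algebraMap_ne_top_iff_disjoint P.primeCompl S _).2 ?_ htop
    rw [Set.disjoint_left]
    intro x hx hxm
    exact hx ((Ideal.map_le_iff_le_comap.2 hPm.ge) hxm)⟩
  obtain ⟨EA⟩ := hEA q
  obtain ⟨EF⟩ := hEF q
  let ι : U q →ₐ[R] S := IsScalarTower.toAlgHom R (U q) S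
  exact ⟨S, inferInstance, inferInstance, inferInstance, inferInstance, N q, N' q, inferInstance, inferInstance,
    inferInstance, hffS, ⟨(exists_split_push EA ι).choose⟩, ⟨(exists_split_push EF ι).choose⟩⟩

theorem exists_eq_of_isLocalRing {S : Type u} [CommRing S] [Algebra R S] [IsLocalRing S] {M : Type u}
    [AddCommGroup M] (E : Split R A M S) {x : S ⊗[R] A} (hx : IsGL R A S x) : ∃ a, x = E.e a := by
  classical
  obtain ⟨a, ha⟩ : ∃ a, E.e.repr x a = 1 := by
    by_contra hne
    push Not at hne
    have h0 : ∀ a, E.e.repr x a = 0 := fun a => by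
      have hi : IsIdempotentElem (E.e.repr x a) := by
        have := E.repr_idem hx a a
        rwa [if_pos rfl] at this
      rcases IsLocalRing.isUnit_or_isUnit_one_sub_self (E.e.repr x a) with h | h
      · exact absurd ((IsIdempotentElem.iff_eq_one_of_isUnit h).1 hi) (hne a)
      · have := (IsIdempotentElem.iff_eq_one_of_isUnit h).1 hi.one_sub
        simpa using this
    have := E.sum_repr_gl hx
    rw [Finsupp.sum, Finset.sum_eq_zero fun a _ => h0 a] at this
    exact zero_ne_one this
  refine ⟨a, E.e.ext_elem fun b => ?_⟩
  rw [Module.Basis.repr_self, Finsupp.single_apply]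
  split_ifs with hab
  · subst hab; exact ha
  · have := E.repr_idem hx a b
    rwa [ha, one_mul, if_neg hab] at this

/-- Flatness of a group of multiplicative type. -/
theorem flat_of_hasSplits (hA : HasSplits R A) : Module.Flat R A := by
  refine Module.flat_of_localized_maximal A fun m hm => ?_
  haveI := hm
  obtain ⟨S, _, _, _, _, M, N, _, _, -, hff, ⟨E⟩, -⟩ := exists_local_split hA hA m
  haveI := hff
  obtain ⟨E'⟩ := exists_split_transfer' (R' := Localization.AtPrime m) E
  haveI := Groth.Agent.QIso.flat_of_split E'
  haveI : Module.Flat (Localization.AtPrime m) (Localization.AtPrime m ⊗[R] A) := inferInstance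
  haveI : Module.Flat R (Localization.AtPrime m) := IsLocalization.flat _ m.primeCompl
  haveI : Module.Flat R (Localization.AtPrime m ⊗[R] A) := Module.Flat.trans R (Localization.AtPrime m) _
  exact Module.Flat.of_linearEquiv
    (IsLocalizedModule.linearEquiv m.primeCompl (LocalizedModule.mkLinearMap m.primeCompl A)
      (TensorProduct.mk R (Localization.AtPrime m) A 1))

/-- A homomorphism of groups of multiplicative type is bijective if it is so at all closed points. -/
theorem bijective_of_bijective_residue (hA : HasSplits R A) (hF : HasSplits R F) (φ : A →ₐc[R] F)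
    (h : ∀ (m : Ideal R), m.IsMaximal → ∀ (K : Type u) [Field K] [Algebra R K],
      RingHom.ker (algebraMap R K) = m → Function.Bijective ((φ : A →ₐ[R] F).toLinearMap.lTensor K)) :
    Function.Bijective φ := by
  classical
  let L := (φ : A →ₐ[R] F).toLinearMap
  suffices Function.Bijective L from this
  refine bijective_of_isLocalized_maximal
    (fun (m : Ideal R) (_ : m.IsMaximal) => Localization.AtPrime m ⊗[R] A)
    (fun (m : Ideal R) (_ : m.IsMaximal) => TensorProduct.mk R (Localization.AtPrime m) A 1)
    (fun (m : Ideal R) (_ : m.IsMaximal) => Localization.AtPrime m ⊗[R] F)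
    (fun (m : Ideal R) (_ : m.IsMaximal) => TensorProduct.mk R (Localization.AtPrime m) F 1) L fun m hm => ?_
  obtain ⟨S, _, _, _, _, M, N, _, _, hloc, hff, ⟨EA⟩, ⟨EF⟩⟩ := exists_local_split hA hF m
  haveI := hloc; haveI := hff
  let LS := (Algebra.TensorProduct.map (AlgHom.id S S) (φ : A →ₐ[R] F))
  choose ρ hρ using fun a => exists_eq_of_isLocalRing EF (isGL_map φ (EA.gl a))
  let k := IsLocalRing.ResidueField S
  have hmk : RingHom.ker (algebraMap R k) = m := by
    have hm_le : m ≤ RingHom.ker (algebraMap R k) := fun x hx => by
      rw [RingHom.mem_ker, IsScalarTower.algebraMap_apply R S k, IsLocalRing.ResidueField.algebraMap_eq]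
      refine (IsLocalRing.residue_eq_zero_iff (R := S) _).2 ((IsLocalRing.mem_maximalIdeal _).2 ?_)
      intro hu
      rw [IsScalarTower.algebraMap_apply R (Localization.AtPrime m) S] at hu
      have hu' : IsUnit (algebraMap R (Localization.AtPrime m) x) := by
        rw [← IsLocalRing.notMem_maximalIdeal]
        intro hx'
        refine Module.FaithfullyFlat.submodule_ne_top (M := S) (IsLocalRing.maximalIdeal.isMaximal (Localization.AtPrime m)) ?_
        rw [Ideal.smul_top_eq_map, Submodule.restrictScalars_eq_top_iff]
        exact Ideal.eq_top_of_isUnit_mem _ (Ideal.mem_map_of_mem _ hx') hu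
      exact (IsLocalization.AtPrime.isUnit_to_map_iff (Localization.AtPrime m) m x).1 hu' hx
    exact (hm.eq_of_le (RingHom.ker_ne_top _) hm_le).symm
  let μ : S →ₐ[R] k := IsScalarTower.toAlgHom R S k
  obtain ⟨EAk, hEAk⟩ := exists_split_push EA μ
  obtain ⟨EFk, hEFk⟩ := exists_split_push EF μ
  have hk := h m hm k hmk
  have hcomm : ∀ a, L.lTensor k (EAk.e a) = EFk.e (ρ a) := fun a => by
    rw [hEAk, hEFk, ← hρ a]
    generalize EA.e a = z
    induction z using TensorProduct.induction_on with
    | zero => simp
    | add p q hp hq => simp only [map_add, hp, hq]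
    | tmul s x => simp [push, L]
  have hρb : Function.Bijective ρ := by
    refine ⟨fun a b hab => EAk.e.injective (hk.1 (by rw [hcomm, hcomm, hab])), fun n => ?_⟩
    by_contra hne
    push Not at hne
    obtain ⟨z, hz⟩ := hk.2 (EFk.e n)
    have h0 : ∀ w : k ⊗[R] A, EFk.e.repr (L.lTensor k w) n = 0 := by
      intro w
      have hw : w ∈ Submodule.span k (Set.range EAk.e) := EAk.e.span_eq.symm ▸ Submodule.mem_top
      have e : ∀ (c : k) w, L.lTensor k (c • w) = c • L.lTensor k w := fun c w => by
        induction w using TensorProduct.induction_on with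
        | zero => simp
        | add p q hp hq => simp only [smul_add, map_add, hp, hq]
        | tmul s x => simp [TensorProduct.smul_tmul']
      induction hw using Submodule.span_induction with
      | mem v hv =>
        obtain ⟨a, rfl⟩ := hv
        rw [hcomm, Module.Basis.repr_self, Finsupp.single_apply, if_neg (hne a)]
      | zero => simp
      | add p q _ _ hp hq => simp [hp, hq]
      | smul c p _ hp => rw [e, map_smul, Finsupp.smul_apply, hp, smul_zero]
    have h1 := h0 z
    rw [hz, Module.Basis.repr_self, Finsupp.single_eq_same] at h1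
    exact one_ne_zero h1
  have hLS : Function.Bijective LS := by
    let e := EA.e.equiv EF.e (Equiv.ofBijective ρ hρb)
    have : LS.toLinearMap = e.toLinearMap := EA.e.ext fun a => by
      refine (hρ a).trans ?_
      exact (Module.Basis.equiv_apply (b := EA.e) (b' := EF.e) (e := Equiv.ofBijective ρ hρb) (i := a)).symm
    have h' : ⇑LS = ⇑e := funext fun x => LinearMap.congr_fun this x
    rw [h']; exact e.bijective
  have hS : Function.Bijective ((TensorProduct.AlgebraTensorModule.lTensor (Localization.AtPrime m)
      (Localization.AtPrime m) L)) := by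
    rw [← Module.FaithfullyFlat.lTensor_bijective_iff_bijective (Localization.AtPrime m) S]
    let θA := TensorProduct.AlgebraTensorModule.cancelBaseChange R (Localization.AtPrime m) S S A
    let θF := TensorProduct.AlgebraTensorModule.cancelBaseChange R (Localization.AtPrime m) S S F
    have e : ∀ z, θF ((TensorProduct.AlgebraTensorModule.lTensor (Localization.AtPrime m)
        (Localization.AtPrime m) L).lTensor S z) = LS (θA z) := fun z => by
      induction z using TensorProduct.induction_on with
      | zero => simp
      | add p q hp hq => simp only [map_add, hp, hq]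
      | tmul s w =>
        induction w using TensorProduct.induction_on with
        | zero => simp
        | add p q hp hq => simp only [TensorProduct.tmul_add, map_add, hp, hq]
        | tmul r a => simp [θA, θF, LS, L]
    refine ⟨fun x y hxy => θA.injective (hLS.1 ?_), fun y => ?_⟩
    · rw [← e, ← e, hxy]
    · obtain ⟨w, hw⟩ := hLS.2 (θF y)
      exact ⟨θA.symm w, θF.injective (by rw [e, LinearEquiv.apply_symm_apply, hw])⟩
  have heq : IsLocalizedModule.map m.primeCompl (TensorProduct.mk R (Localization.AtPrime m) A 1)
      (TensorProduct.mk R (Localization.AtPrime m) F 1) L = L.lTensor (Localization.AtPrime m) :=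
    IsLocalizedModule.ext m.primeCompl (TensorProduct.mk R (Localization.AtPrime m) A 1)
      (IsLocalizedModule.map_units (TensorProduct.mk R (Localization.AtPrime m) F 1))
      (LinearMap.ext fun x => IsLocalizedModule.map_apply m.primeCompl _ _ L x)
  rw [heq]
  exact hS

end Groth.Agent.HomLift
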