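import Groth.Agent.HomLiftLib.Formal
import Groth.Agent.HomLiftLib.Local
import Groth.Agent.HopfDescLib.Lift

set_option autoImplicit false

/-!
Isotriviality over complete rings.
-/

noncomputable section

universe u

open scoped TensorProduct
open Groth.Agent.TorusField Groth.Agent.DiagHopf

namespace Groth.Agent.HomLift

variable {R : Type u} [CommRing R] {A : Type u} [CommRing A] [HopfAlgebra R A]

theorem isQuasiIsotrivial_of_isIsotrivial (h : SGA3b.IsIsotrivial R A) : SGA3b.IsQuasiIsotrivial R A := by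
  obtain ⟨T, _, _, het, -, hff, N, _, ⟨e⟩⟩ := h
  haveI := het; haveI := hff
  obtain ⟨E⟩ := exists_split_of_bialgEquiv e
  refine ⟨{1}, Ideal.span_singleton_one, ?_⟩
  rintro f rfl
  let R₁ := Localization.Away (1 : R)
  obtain ⟨E', -⟩ := exists_split_push E (Algebra.TensorProduct.includeRight : T →ₐ[R] R₁ ⊗[R] T)
  obtain ⟨E''⟩ := exists_split_transfer' (R' := R₁) E'
  have hd : SGA3b.IsDiag (R₁ ⊗[R] T) ((R₁ ⊗[R] T) ⊗[R₁] (R₁ ⊗[R] A)) := ⟨N, inferInstance, exists_bialgEquiv E''⟩
  exact ⟨R₁ ⊗[R] T, inferInstance, inferInstance, inferInstance, inferInstance, hd⟩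

theorem isIsotrivial_of_bialgEquiv {F : Type u} [CommRing F] [HopfAlgebra R F] (e : F ≃ₐc[R] A)
    (h : SGA3b.IsIsotrivial R F) : SGA3b.IsIsotrivial R A := by
  obtain ⟨T, _, _, het, hfin, hff, N, _, ⟨eN⟩⟩ := h
  obtain ⟨E⟩ := exists_split_of_bialgEquiv eN
  let g := TensorProduct.AlgebraTensorModule.congr (LinearEquiv.refl T T) (e.toAlgEquiv.toLinearEquiv)
  have hg : ∀ z, g z = Algebra.TensorProduct.map (AlgHom.id T T) ((e : F →ₐc[R] A) : F →ₐ[R] A) z := fun z => by
    induction z using TensorProduct.induction_on with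
    | zero => simp
    | add p q hp hq => simp only [map_add, hp, hq]
    | tmul t x => simp [g]
  have hb : ∀ a, (E.e.map g) a = Algebra.TensorProduct.map (AlgHom.id T T) ((e : F →ₐc[R] A) : F →ₐ[R] A) (E.e a) :=
    fun a => by rw [Module.Basis.map_apply, hg]
  let E' : Split R A (Additive N) T := ⟨E.e.map g, by rw [hb, E.e_zero, map_one],
    fun a b => by rw [hb, hb, hb, E.e_add, map_mul], fun a => by rw [hb]; exact isGL_map _ (E.gl a)⟩
  exact ⟨T, inferInstance, inferInstance, het, hfin, hff, N, inferInstance, exists_bialgEquiv E'⟩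

theorem isIsotrivial_of_adicComplete [IsNoetherianRing R] (I : Ideal R) [IsAdicComplete I R]
    (h : SGA3b.IsMultType R A) (h0 : SGA3b.IsIsotrivial (R ⧸ I) ((R ⧸ I) ⊗[R] A)) : SGA3b.IsIsotrivial R A := by
  obtain ⟨F, _, _, hF, ⟨e⟩⟩ := HopfDesc.isotrivial_lifts (R := R) (I := I) ((R ⧸ I) ⊗[R] A) h0
  haveI hflat : Module.Flat R A := flat_of_hasSplits (hasSplits_of_isMultType h)
  have hfl : ∀ (q : Ideal A) [q.IsPrime], Ideal.map (algebraMap R A) I ≤ q →
      Module.Flat R (Localization.AtPrime q) := fun q _ _ => Module.Flat.trans R A _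
  obtain ⟨φ, hφ⟩ := exists_bialgHom_of_isotrivial (I := I) hF hfl (isQuasiIsotrivial_of_isIsotrivial h0)
    (e.symm : ((R ⧸ I) ⊗[R] A) →ₐc[R ⧸ I] ((R ⧸ I) ⊗[R] F))
  obtain ⟨T, _, _, -, hfin, hff, N, _, ⟨eN⟩⟩ := id hF
  haveI := hff
  obtain ⟨EF⟩ := exists_split_of_bialgEquiv eN
  have hbij : Function.Bijective φ := by
    refine bijective_of_bijective_residue (hasSplits_of_isMultType h)
      (hasSplits_of_isMultType (isMultType_of_split EF)) φ fun m hm K _ _ hK => ?_
    have hIm : I ≤ m := fun x hx => by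
      have hx' := IsAdicComplete.le_jacobson_bot I hx
      rw [Ideal.jacobson, Submodule.mem_sInf] at hx'
      exact hx' m ⟨bot_le, hm⟩
    letI : Algebra (R ⧸ I) K := (Ideal.Quotient.lift I (algebraMap R K) fun x hx =>
      RingHom.mem_ker.1 (hK.symm ▸ hIm hx)).toAlgebra
    haveI : IsScalarTower R (R ⧸ I) K := IsScalarTower.of_algebraMap_eq fun _ => rfl
    let θA := TensorProduct.AlgebraTensorModule.cancelBaseChange R (R ⧸ I) (R ⧸ I) K A
    let θF := TensorProduct.AlgebraTensorModule.cancelBaseChange R (R ⧸ I) (R ⧸ I) K F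
    let ge := TensorProduct.AlgebraTensorModule.congr (LinearEquiv.refl (R ⧸ I) K) e.symm.toAlgEquiv.toLinearEquiv
    have key : ∀ z, ((φ : A →ₐ[R] F).toLinearMap.lTensor K) (θA z) = θF (ge z) := fun z => by
      induction z using TensorProduct.induction_on with
      | zero => simp
      | add p q hp hq => simp only [map_add, hp, hq]
      | tmul k w =>
        induction w using TensorProduct.induction_on with
        | zero => simp
        | add p q hp hq => simp only [TensorProduct.tmul_add, map_add, hp, hq]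
        | tmul r a =>
          have he : e.symm.toAlgEquiv.toLinearEquiv (r ⊗ₜ[R] a) = r • ((1 : R ⧸ I) ⊗ₜ[R] φ a) := by
            rw [← hφ, ← map_smul, TensorProduct.smul_tmul', smul_eq_mul, mul_one]
            rfl
          simp only [ge, TensorProduct.AlgebraTensorModule.congr_tmul, LinearEquiv.refl_apply, he]
          simp [θA, θF, TensorProduct.smul_tmul']
    refine ⟨fun x y hxy => ?_, fun y => ?_⟩
    · obtain ⟨x, rfl⟩ := θA.surjective x
      obtain ⟨y, rfl⟩ := θA.surjective y
      rw [key, key] at hxy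
      rw [ge.injective (θF.injective hxy)]
    · exact ⟨θA (ge.symm (θF.symm y)), by rw [key, LinearEquiv.apply_symm_apply, LinearEquiv.apply_symm_apply]⟩
  exact isIsotrivial_of_bialgEquiv (BialgEquiv.ofBijective φ hbij).symm hF

end Groth.Agent.HomLift
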