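import Groth.Agent.DiagHopfLib.Rigid
import Mathlib.RingTheory.Ideal.IdempotentFG
import Mathlib.RingTheory.Spectrum.Prime.Topology
import Mathlib.RingTheory.Flat.FaithfullyFlat.Basic

set_option autoImplicit false

/-!
Closed subgroups which are open near the origin of a connected group over a field.
-/

noncomputable section

universe u

open scoped TensorProduct
open WithConv

namespace Groth.Agent.HomLift

theorem eq_zero_or_one_of_connected {H : Type u} [CommRing H] [ConnectedSpace (PrimeSpectrum H)] {e : H}
    (he : IsIdempotentElem e) : e = 0 ∨ e = 1 := by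
  have hc : IsClopen (PrimeSpectrum.basicOpen e : Set (PrimeSpectrum H)) :=
    PrimeSpectrum.isClopen_iff.2 ⟨e, he, rfl⟩
  rcases isClopen_iff.1 hc with h | h
  · left
    have hn : IsNilpotent e := by
      rw [← mem_nilradical, nilradical_eq_sInf, Submodule.mem_sInf]
      intro p hp
      by_contra hep
      exact Set.eq_empty_iff_forall_notMem.1 h ⟨p, hp⟩ hep
    exact he.eq_zero_of_isNilpotent hn
  · right
    refine (IsIdempotentElem.iff_eq_one_of_isUnit ?_).1 he
    by_contra hu
    obtain ⟨m, hm, hem⟩ := exists_max_ideal_of_mem_nonunits hu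
    exact Set.eq_univ_iff_forall.1 h ⟨m, hm.isPrime⟩ hem

variable {k : Type u} [Field k] {H : Type u} [CommRing H] [HopfAlgebra k H] {G : Type u} [CommRing G]
  [HopfAlgebra k G] (π : H →ₐc[k] G)

/-- Elements away from the subgroup kill its ideal. -/
theorem exists_not_mem_mul_eq_zero {s : H} (hs : Coalgebra.counit (R := k) s ≠ 0)
    (hsK : ∀ x, π x = 0 → s * x = 0) (hπ : Function.Surjective π) (q : Ideal H) [q.IsPrime]
    (hq : ∀ x, π x = 0 → x ∈ q) : ∃ h ∉ q, ∀ x, π x = 0 → h * x = 0 := by
  classical
  let L := q.ResidueField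
  let g : H →ₐ[k] L := IsScalarTower.toAlgHom k H L
  have hgK : ∀ x, π x = 0 → g x = 0 := fun x hx => by
    show algebraMap H L x = 0
    rw [← RingHom.mem_ker, Ideal.ker_algebraMap_residueField]
    exact hq x hx
  let τ : (H →ₐ[k] L) → (L ⊗[k] H →ₐ[L] L ⊗[k] H) := fun a =>
    Algebra.TensorProduct.lift (Algebra.ofId L _)
      ((Algebra.TensorProduct.map a (AlgHom.id k H)).comp (Bialgebra.comulAlgHom k H)) fun _ _ => Commute.all _ _
  let U : WithConv (H →ₐ[k] L) →* WithConv (H →ₐ[k] L ⊗[k] H) :=
    { toFun := fun a => toConv ((Algebra.TensorProduct.includeLeft : L →ₐ[k] L ⊗[k] H).comp a.ofConv)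
      map_one' := by
        apply WithConv.ext; apply AlgHom.ext; intro x
        simp [AlgHom.convOne_def, Algebra.TensorProduct.one_def]
      map_mul' := fun a b => by rw [AlgHom.comp_convMul_distrib] }
  let I₀ : WithConv (H →ₐ[k] L ⊗[k] H) := toConv Algebra.TensorProduct.includeRight
  have hτ : ∀ a x, τ a (1 ⊗ₜ x) = (U (toConv a) * I₀) x := fun a x => by
    rw [AlgHom.convMul_apply]
    simp only [τ, Algebra.TensorProduct.lift_tmul, map_one, one_mul, AlgHom.comp_apply, Bialgebra.comulAlgHom_apply]
    generalize CoalgebraStruct.comul (R := k) x = z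
    induction z using TensorProduct.induction_on with
    | zero => simp
    | add p r hp hr => simp only [map_add, hp, hr]
    | tmul p r => simp [U, I₀]
  let a := g.comp (HopfAlgebra.antipodeAlgHom k H)
  let Ug : WithConv (H →ₐ[k] H) →* WithConv (H →ₐ[k] L) :=
    { toFun := fun b => toConv (g.comp b.ofConv)
      map_one' := by apply WithConv.ext; apply AlgHom.ext; intro x; simp [AlgHom.convOne_def]
      map_mul' := fun b b' => by rw [AlgHom.comp_convMul_distrib] }
  have hUg : Ug (toConv (AlgHom.id k H)) = toConv g ∧ Ug ((toConv (AlgHom.id k H))⁻¹) = toConv a := by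
    constructor <;> rfl
  have hag : toConv a * toConv g = 1 := by rw [← hUg.1, ← hUg.2, ← map_mul, inv_mul_cancel, map_one]
  have hga : toConv g * toConv a = 1 := by rw [← hUg.1, ← hUg.2, ← map_mul, mul_inv_cancel, map_one]
  have hτL : ∀ (b : WithConv (H →ₐ[k] L)), toConv (((τ a).restrictScalars k).comp (U b).ofConv) = U b := fun b => by
    apply WithConv.ext; apply AlgHom.ext; intro x
    simp [τ, U]
  have hcomp : ∀ x, τ a (τ g (1 ⊗ₜ x)) = 1 ⊗ₜ x := by
    intro x
    rw [hτ]
    have e : toConv (((τ a).restrictScalars k).comp (U (toConv g) * I₀).ofConv) = I₀ := by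
      have e2 : toConv (((τ a).restrictScalars k).comp I₀.ofConv) = U (toConv a) * I₀ := by
        apply WithConv.ext; apply AlgHom.ext; intro y
        exact hτ a y
      rw [AlgHom.comp_convMul_distrib, toConv_ofConv, hτL, e2, ← mul_assoc, ← map_mul, hga, map_one, one_mul]
    exact congrArg (fun f : WithConv (H →ₐ[k] L ⊗[k] H) => f x) e
  have hker : ∀ x, π x = 0 → (1 ⊗ₜ[k] s : L ⊗[k] H) * τ g (1 ⊗ₜ x) = 0 := by
    intro x hx
    let π' := (π : H →ₐ[k] G).toLinearMap
    have hex : Function.Exact (LinearMap.ker π').subtype π' := LinearMap.exact_subtype_ker_map π'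
    obtain ⟨gb, hgb⟩ : ∃ gb : G →ₐ[k] L, ∀ y, gb (π y) = g y := by
      refine ⟨AlgHom.liftOfSurjective (π : H →ₐ[k] G) hπ g fun y hy => hgK y hy, fun y => ?_⟩
      exact AlgHom.liftOfSurjective_apply (π : H →ₐ[k] G) hπ g (fun y hy => hgK y hy) y
    have hzero : π'.lTensor L (τ g (1 ⊗ₜ x)) = 0 := by
      have e : π'.lTensor L (τ g (1 ⊗ₜ x)) =
          Algebra.TensorProduct.map gb (AlgHom.id k G) (Bialgebra.comulAlgHom k G (π x)) := by
        simp only [τ, Algebra.TensorProduct.lift_tmul, map_one, one_mul, AlgHom.comp_apply,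
          Bialgebra.comulAlgHom_apply]
        rw [← CoalgHomClass.map_comp_comul_apply π]
        generalize CoalgebraStruct.comul (R := k) x = z
        induction z using TensorProduct.induction_on with
        | zero => simp
        | add p r hp hr => simp only [map_add, hp, hr]
        | tmul p r => simp [π', hgb]
      rw [e, hx, map_zero, map_zero]
    obtain ⟨w, hw⟩ := (Module.Flat.lTensor_exact L hex _).1 hzero
    rw [← hw]
    clear hw hzero hx
    induction w using TensorProduct.induction_on with
    | zero => simp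
    | add p r hp hr => simp only [map_add, mul_add, hp, hr, add_zero]
    | tmul l y =>
      rw [LinearMap.lTensor_tmul, Algebra.TensorProduct.tmul_mul_tmul, Submodule.subtype_apply,
        hsK _ (LinearMap.mem_ker.1 y.2), TensorProduct.tmul_zero]
  have hεc : Algebra.TensorProduct.lift (AlgHom.id L L) g (fun _ _ => Commute.all _ _) (τ a (1 ⊗ₜ s)) =
      algebraMap k L (Coalgebra.counit s) := by
    have e : ∀ y, Algebra.TensorProduct.lift (AlgHom.id L L) g (fun _ _ => Commute.all _ _) (τ a (1 ⊗ₜ y)) =
        (toConv a * toConv g) y := fun y => by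
      rw [AlgHom.convMul_apply]
      simp only [τ, Algebra.TensorProduct.lift_tmul, map_one, one_mul, AlgHom.comp_apply, Bialgebra.comulAlgHom_apply]
      generalize CoalgebraStruct.comul (R := k) y = z
      induction z using TensorProduct.induction_on with
      | zero => simp
      | add p r hp hr => simp only [map_add, hp, hr]
      | tmul p r => simp [a]
    rw [e, hag, AlgHom.convOne_def]
    simp
  let b := Module.Free.chooseBasis k L
  let bH := b.baseChange H
  obtain ⟨i, hi⟩ : ∃ i, bH.repr (Algebra.TensorProduct.comm k L H (τ a (1 ⊗ₜ s))) i ∉ q := by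
    by_contra hne
    push Not at hne
    apply hs
    apply (algebraMap k L).injective
    rw [map_zero, ← hεc]
    generalize hw : Algebra.TensorProduct.comm k L H (τ a (1 ⊗ₜ s)) = w at hne
    rw [show τ a ((1 : L) ⊗ₜ[k] s) = (Algebra.TensorProduct.comm k L H).symm w by
      rw [← hw, AlgEquiv.symm_apply_apply], ← bH.linearCombination_repr w, Finsupp.linearCombination_apply,
      Finsupp.sum, map_sum, map_sum]
    refine Finset.sum_eq_zero fun j _ => ?_
    rw [Module.Basis.baseChange_apply, TensorProduct.smul_tmul', smul_eq_mul, mul_one]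
    simp [g]
    refine Or.inr (RingHom.mem_ker.1 ?_)
    rw [Ideal.ker_algebraMap_residueField]
    exact hne j
  refine ⟨_, hi, fun x hx => ?_⟩
  have h0 : τ a (1 ⊗ₜ s) * ((1 : L) ⊗ₜ[k] x) = 0 := by
    rw [← hcomp x, ← map_mul, hker x hx, map_zero]
  have h1 := congrArg (fun z => bH.repr (Algebra.TensorProduct.comm k L H z) i) h0
  simp only [map_mul, Algebra.TensorProduct.comm_tmul, map_zero, Finsupp.zero_apply] at h1
  rw [mul_comm, show (x ⊗ₜ[k] (1 : L)) * Algebra.TensorProduct.comm k L H (τ a (1 ⊗ₜ s)) =
    x • Algebra.TensorProduct.comm k L H (τ a (1 ⊗ₜ s)) from by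
      rw [Algebra.smul_def, Algebra.TensorProduct.algebraMap_apply]; rfl, map_smul,
    Finsupp.smul_apply, smul_eq_mul, mul_comm] at h1
  exact h1

/-- A closed subgroup which is open near the origin of a connected group is everything. -/
theorem injective_of_connected [Algebra.FiniteType k H] [ConnectedSpace (PrimeSpectrum H)]
    (hπ : Function.Surjective π) {s : H} (hs : Coalgebra.counit (R := k) s ≠ 0)
    (hsK : ∀ x, π x = 0 → s * x = 0) : Function.Injective π := by
  haveI : IsNoetherianRing H := Algebra.FiniteType.isNoetherianRing k H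
  let K : Ideal H := RingHom.ker ((π : H →ₐ[k] G).toRingHom)
  have hidem : IsIdempotentElem K := by
    show K * K = K
    refine le_antisymm Ideal.mul_le_left fun x hx => ?_
    by_contra hxK
    have hne : (K * K).colon {x} ≠ ⊤ := fun h => hxK (by
      have h1 := Submodule.mem_colon_singleton.1 ((Ideal.eq_top_iff_one _).1 h)
      rwa [one_smul] at h1)
    obtain ⟨m, hm, hle⟩ := Ideal.exists_le_maximal _ hne
    haveI := hm.isPrime
    by_cases hKm : K ≤ m
    · obtain ⟨h, hhm, hh⟩ := exists_not_mem_mul_eq_zero π hs hsK hπ m fun y hy => hKm hy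
      refine hhm (hle (Submodule.mem_colon_singleton.2 ?_))
      rw [smul_eq_mul, hh x hx]
      exact zero_mem _
    · obtain ⟨b, hb, hbm⟩ := SetLike.not_le_iff_exists.1 hKm
      refine hbm (hle (Submodule.mem_colon_singleton.2 ?_))
      exact Ideal.mul_mem_mul hb hx
  obtain ⟨e, he, hKe⟩ := (Ideal.isIdempotentElem_iff_of_fg K (IsNoetherian.noetherian K)).1 hidem
  rcases eq_zero_or_one_of_connected he with h0 | h1
  · refine (injective_iff_map_eq_zero π).2 fun x hx => ?_
    have hxK : x ∈ K := hx
    rw [hKe, h0] at hxK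
    simpa using hxK
  · exfalso
    have h1K : (1 : H) ∈ K := by rw [hKe, h1]; simp
    have h2 : π 1 = 0 := h1K
    have h3 := congrArg (Coalgebra.counit (R := k)) h2
    rw [CoalgHomClass.counit_comp_apply, map_zero, Bialgebra.counit_one] at h3
    exact one_ne_zero h3

end Groth.Agent.HomLift
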