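import Groth.Agent.HomLiftLib.Complete
import Groth.Agent.HomLiftLib.FieldSub
import Groth.Agent.FlatLiftLib.Basic
import Mathlib.RingTheory.LocalRing.Module
import Mathlib.RingTheory.Support

set_option autoImplicit false

/-!
Groups over complete rings with connected fibres and isotrivial reduction.
-/

noncomputable section

universe u

open scoped TensorProduct
open Groth.Agent.TorusField Groth.Agent.DiagHopf

namespace Groth.Agent.HomLift

variable {A : Type u} [CommRing A] {C : Type u} [CommRing C] [HopfAlgebra A C] {F : Type u} [CommRing F]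
  [HopfAlgebra A F]

theorem surjective_of_split {T : Type u} [CommRing T] [Algebra A T] [Module.FaithfullyFlat A T] {N : Type u}
    [AddCommGroup N] (E : Split A F N T) (φ : C →ₐc[A] F) {J : Ideal T} (hJ : J ≤ Ideal.jacobson ⊥)
    (h : ∀ m, ∃ x : T ⊗[A] C,
      E.e.repr (Algebra.TensorProduct.map (AlgHom.id T T) (φ : C →ₐ[A] F) x) m - 1 ∈ J) :
    Function.Surjective φ := by
  classical
  let P := Algebra.TensorProduct.map (AlgHom.id T T) (φ : C →ₐ[A] F)
  let R' := LinearMap.range P.toLinearMap
  let v : N → (T ⊗[A] (F ⊗[A] F) →ₗ[T] T) := fun m => (Finsupp.lapply (m, m)) ∘ₗ coord E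
  have hgr : ∀ y ∈ R', ∀ m, E.e.repr y m • E.e m ∈ R' := by
    rintro _ ⟨x, rfl⟩ m
    -- apply the coefficient at `m` to the second factor
    let θ : T ⊗[A] (F ⊗[A] F) →ₗ[T] T ⊗[A] F :=
      (Finsupp.linearCombination T E.e) ∘ₗ Finsupp.lcomapDomain (fun n => (n, m))
        (fun a b hab => congrArg Prod.fst hab) ∘ₗ coord E
    have hθD : ∀ y, θ (D A F T y) = E.e.repr y m • E.e m := fun y => by
      simp only [θ, LinearMap.comp_apply]
      rw [show Finsupp.lcomapDomain (fun n => (n, m)) (fun a b hab => congrArg Prod.fst hab) (coord E (D A F T y)) =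
        Finsupp.single m (E.e.repr y m) from Finsupp.ext fun n => by
          show coord E (D A F T y) (n, m) = _
          rw [coord_D, Finsupp.single_apply]
          rcases eq_or_ne n m with rfl | hnm
          · simp
          · simp [hnm, Ne.symm hnm], Finsupp.linearCombination_single]
    have hθJ : ∀ u v, θ (J₁ A F T u * J₂ A F T v) = E.e.repr v m • u := fun u v => by
      simp only [θ, LinearMap.comp_apply]
      rw [show Finsupp.lcomapDomain (fun n => (n, m)) (fun a b hab => congrArg Prod.fst hab)
          (coord E (J₁ A F T u * J₂ A F T v)) = E.e.repr v m • E.e.repr u from Finsupp.ext fun n => by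
          show coord E (J₁ A F T u * J₂ A F T v) (n, m) = _
          rw [coord_mul, finsuppTensorFinsupp'_apply_apply, Finsupp.smul_apply, smul_eq_mul, mul_comm],
        map_smul, E.e.linearCombination_repr]
    show E.e.repr (P x) m • E.e m ∈ R'
    rw [← hθD]
    have e : D A F T (P x) = Algebra.TensorProduct.map (AlgHom.id T T)
        (Algebra.TensorProduct.map (φ : C →ₐ[A] F) (φ : C →ₐ[A] F)) (D A C T x) := by
      show Algebra.TensorProduct.map _ _ (Algebra.TensorProduct.map _ _ x) =
        Algebra.TensorProduct.map _ _ (Algebra.TensorProduct.map _ _ x)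
      rw [← HopfDesc.map_id_comp, ← HopfDesc.map_id_comp, show (Bialgebra.comulAlgHom A F).comp (φ : C →ₐ[A] F) =
        (Algebra.TensorProduct.map (φ : C →ₐ[A] F) (φ : C →ₐ[A] F)).comp (Bialgebra.comulAlgHom A C) from
          (AlgHom.ext fun c => CoalgHomClass.map_comp_comul_apply φ c).symm]
    rw [e]
    generalize D A C T x = z
    induction z using TensorProduct.induction_on with
    | zero => simp
    | add p q hp hq => simp only [map_add]; exact add_mem hp hq
    | tmul t w =>
      induction w using TensorProduct.induction_on with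
      | zero => simp
      | add p q hp hq => simp only [TensorProduct.tmul_add, map_add]; exact add_mem hp hq
      | tmul p q =>
        have e' : Algebra.TensorProduct.map (AlgHom.id T T)
            (Algebra.TensorProduct.map (φ : C →ₐ[A] F) (φ : C →ₐ[A] F)) (t ⊗ₜ (p ⊗ₜ q)) =
              J₁ A F T (P (t ⊗ₜ p)) * J₂ A F T (P (1 ⊗ₜ q)) := by
          simp [J₁, J₂, P, Algebra.TensorProduct.tmul_mul_tmul]
        rw [e', hθJ]
        exact R'.smul_mem _ ⟨t ⊗ₜ p, rfl⟩
  have htop : ∀ m, E.e m ∈ R' := by
    intro m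
    obtain ⟨x, hx⟩ := h m
    have hu : IsUnit (E.e.repr (P x) m) := by
      have := Ideal.mem_jacobson_bot.1 (hJ hx) 1
      rwa [mul_one, sub_add_cancel] at this
    obtain ⟨u, hu⟩ := hu
    have h1 := R'.smul_mem (↑u⁻¹ : T) (hgr (P x) ⟨x, rfl⟩ m)
    rwa [← mul_smul, ← hu, Units.inv_mul, one_smul] at h1
  have hP : Function.Surjective P := fun y => by
    have hy : y ∈ R' := by
      have : Submodule.span T (Set.range E.e) ≤ R' := Submodule.span_le.2 (by rintro _ ⟨m, rfl⟩; exact htop m)
      exact this (E.e.span_eq.symm ▸ Submodule.mem_top)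
    exact hy
  have hl : Function.Surjective ((φ : C →ₐ[A] F).toLinearMap.lTensor T) := fun y => by
    obtain ⟨x, hx⟩ := hP y
    refine ⟨x, ?_⟩
    rw [← hx]
    clear hx
    induction x using TensorProduct.induction_on with
    | zero => simp
    | add p q hp hq => simp only [map_add, hp, hq]
    | tmul t c => simp [P]
  exact (Module.FaithfullyFlat.lTensor_surjective_iff_surjective A T (φ : C →ₐ[A] F).toLinearMap).1 hl

theorem exists_killer [IsNoetherianRing A] {I : Ideal A} (hI : I ≤ Ideal.jacobson ⊥) [Algebra.FiniteType A C]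
    [Module.Flat A F] (φ : C →ₐc[A] F) (hφ : Function.Surjective φ)
    (hker : ∀ x, φ x = 0 → x ∈ I • (⊤ : Submodule A C)) :
    ∃ s : C, IsUnit (Coalgebra.counit (R := A) s) ∧ ∀ x, φ x = 0 → s * x = 0 := by
  haveI : IsNoetherianRing C := Algebra.FiniteType.isNoetherianRing A C
  let K : Ideal C := RingHom.ker ((φ : C →ₐ[A] F).toRingHom)
  let ψ := (φ : C →ₐ[A] F).toLinearMap
  have hψ : LinearMap.ker ψ ≤ I • LinearMap.ker ψ :=
    FlatLift.ker_le_smul_ker (I := I) ψ hφ fun x hx => hker x hx
  have hK : (K : Submodule C C) ≤ I.map (algebraMap A C) • (K : Submodule C C) := by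
    intro x hx
    refine Submodule.smul_induction_on (p := fun x => x ∈ I.map (algebraMap A C) • (K : Submodule C C))
      (hψ (show x ∈ LinearMap.ker ψ from hx)) (fun r hr y hy => ?_) fun p q hp hq => add_mem hp hq
    rw [← algebraMap_smul C r y]
    exact Submodule.smul_mem_smul (Ideal.mem_map_of_mem (algebraMap A C) hr) (show y ∈ (K : Submodule C C) from hy)
  obtain ⟨s, hs1, hsK⟩ := Submodule.exists_sub_one_mem_and_smul_eq_zero_of_fg_of_le_smul _ (K : Submodule C C)
    (IsNoetherian.noetherian _) hK
  have hεI : Coalgebra.counit (R := A) s - 1 ∈ I := by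
    have hle : I.map (algebraMap A C) ≤ I.comap (Bialgebra.counitAlgHom A C).toRingHom :=
      Ideal.map_le_iff_le_comap.2 fun r hr => by
        show Bialgebra.counitAlgHom A C (algebraMap A C r) ∈ I
        rw [AlgHom.commutes]
        exact hr
    have h1 : Bialgebra.counitAlgHom A C (s - 1) ∈ I := hle hs1
    simpa using h1
  have hεu : IsUnit (Coalgebra.counit (R := A) s) := by
    have := Ideal.mem_jacobson_bot.1 (hI hεI) 1
    rwa [mul_one, sub_add_cancel] at this
  exact ⟨s, hεu, fun x hx => hsK x (show x ∈ RingHom.ker ((φ : C →ₐ[A] F).toRingHom) from hx)⟩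

theorem injective_of_killer [Algebra.FiniteType A C] [Module.Flat A F] (φ : C →ₐc[A] F) (hφ : Function.Surjective φ)
    (hfg : (RingHom.ker ((φ : C →ₐ[A] F).toRingHom)).FG) {s : C}
    (hεu : IsUnit (Coalgebra.counit (R := A) s)) (hs : ∀ x, φ x = 0 → s * x = 0)
    (hconn : ∀ (p : Ideal A) [p.IsPrime], ConnectedSpace (PrimeSpectrum (p.ResidueField ⊗[A] C))) :
    Function.Injective φ := by
  let K : Ideal C := RingHom.ker ((φ : C →ₐ[A] F).toRingHom)
  let ψ := (φ : C →ₐ[A] F).toLinearMap
  have hsK : ∀ x, x ∈ K → s * x = 0 := fun x hx => hs x hx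
  haveI : Module.Finite C K := Module.Finite.iff_fg.2 hfg
  let Kn : Submodule A C := LinearMap.ker ψ
  have hfib : ∀ (p : Ideal A) [p.IsPrime], ∀ x : Kn, (1 : p.ResidueField) ⊗ₜ[A] x = 0 := by
    intro p _ x
    let k := p.ResidueField
    haveI := hconn p
    let π : k ⊗[A] C →ₐc[k] k ⊗[A] F := Bialgebra.TensorProduct.map (BialgHom.id k k) φ
    have hπ : ∀ z, π z = ψ.lTensor k z := fun z => by
      induction z using TensorProduct.induction_on with
      | zero => simp
      | add a b ha hb => simp only [map_add, ha, hb]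
      | tmul c y => rfl
    have hπs : Function.Surjective π := fun y => by
      obtain ⟨z, hz⟩ := LinearMap.lTensor_surjective k (g := ψ) hφ y
      exact ⟨z, (hπ z).trans hz⟩
    have hexk : Function.Exact (Kn.subtype.lTensor k) (ψ.lTensor k) :=
      lTensor_exact k (LinearMap.exact_subtype_ker_map ψ) hφ
    have hinj : Function.Injective π := by
      refine injective_of_connected (k := k) π hπs (s := 1 ⊗ₜ s) ?_ fun z hz => ?_
      · rw [TensorProduct.counit_tmul]
        simp only [CommSemiring.counit_apply]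
        obtain ⟨u, hu⟩ := hεu
        rw [← hu, Algebra.smul_def, mul_one]
        exact ((u.isUnit).map (algebraMap A k)).ne_zero
      · rw [hπ] at hz
        obtain ⟨w, rfl⟩ := (hexk z).1 hz
        clear hz
        induction w using TensorProduct.induction_on with
        | zero => simp
        | add a b ha hb => simp only [map_add, mul_add, ha, hb, add_zero]
        | tmul c y =>
          rw [LinearMap.lTensor_tmul, Algebra.TensorProduct.tmul_mul_tmul, Submodule.subtype_apply,
            show s * (y : C) = 0 from hsK _ y.2, TensorProduct.tmul_zero]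
    have hi := LinearMap.lTensor_injective_of_exact_of_flat ψ hφ Kn.subtype Subtype.val_injective
      (LinearMap.exact_subtype_ker_map ψ) k
    apply hi
    apply hinj
    rw [map_zero, map_zero, hπ, LinearMap.lTensor_tmul, LinearMap.lTensor_tmul, Submodule.subtype_apply,
      show ψ x = 0 from x.2, TensorProduct.tmul_zero]
  have hsub : Subsingleton K := by
    rw [← Module.support_eq_empty_iff (R := C), Set.eq_empty_iff_forall_notMem]
    intro q hq
    rw [Module.mem_support_iff_nontrivial_residueField_tensorProduct] at hq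
    refine not_subsingleton_iff_nontrivial.2 hq (subsingleton_of_forall_eq 0 fun z => ?_)
    let p := q.asIdeal.comap (algebraMap A C)
    let kq := q.asIdeal.ResidueField
    let ι : p.ResidueField →ₐ[A] kq := Ideal.ResidueField.mapₐ p q.asIdeal (Algebra.ofId A C) rfl
    let j : kq ⊗[A] Kn →ₗ[A] kq ⊗[C] K :=
      TensorProduct.lift
        { toFun := fun c =>
            { toFun := fun y => c ⊗ₜ[C] (⟨(y : C), y.2⟩ : K)
              map_add' := fun y y' => by rw [← TensorProduct.tmul_add]; rfl
              map_smul' := fun r y => by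
                rw [RingHom.id_apply, ← algebraMap_smul C r (c ⊗ₜ[C] (⟨(y : C), y.2⟩ : K)),
                  ← TensorProduct.tmul_smul]
                congr 1
                exact Subtype.ext (algebraMap_smul C r (y : C)).symm }
          map_add' := fun c c' => LinearMap.ext fun y => TensorProduct.add_tmul _ _ _
          map_smul' := fun r c => LinearMap.ext fun y => rfl }
    induction z using TensorProduct.induction_on with
    | zero => rfl
    | add a b ha hb => rw [ha, hb, add_zero]
    | tmul c y =>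
      have h1 : (1 : kq) ⊗ₜ[A] (⟨(y : C), y.2⟩ : Kn) = 0 := by
        have h0 := congrArg (ι.toLinearMap.rTensor Kn) (hfib p ⟨(y : C), y.2⟩)
        simpa using h0
      have h2 : c ⊗ₜ[A] (⟨(y : C), y.2⟩ : Kn) = 0 := by
        have h3 := congrArg ((LinearMap.mulLeft A c).rTensor Kn) h1
        simpa using h3
      exact (congrArg j h2).trans (map_zero j)
  exact (injective_iff_map_eq_zero φ).2 fun x hx => by
    have h := Subsingleton.elim (⟨x, hx⟩ : K) 0
    exact congrArg Subtype.val h

theorem injective_of_fibres [IsNoetherianRing A] {I : Ideal A} (hI : I ≤ Ideal.jacobson ⊥) [Algebra.FiniteType A C]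
    [Module.Flat A F] (φ : C →ₐc[A] F) (hφ : Function.Surjective φ)
    (hker : ∀ x, φ x = 0 → x ∈ I • (⊤ : Submodule A C))
    (hconn : ∀ (p : Ideal A) [p.IsPrime], ConnectedSpace (PrimeSpectrum (p.ResidueField ⊗[A] C))) :
    Function.Injective φ := by
  haveI : IsNoetherianRing C := Algebra.FiniteType.isNoetherianRing A C
  obtain ⟨s, h1, h2⟩ := exists_killer hI φ hφ hker
  exact injective_of_killer φ hφ (IsNoetherian.noetherian _) h1 h2 hconn

theorem exists_model [IsNoetherianRing A] (I : Ideal A) [IsAdicComplete I A]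
    (hft : Algebra.FiniteType A C)
    (hfl : ∀ (q : Ideal C) [q.IsPrime], Ideal.map (algebraMap A C) I ≤ q → Module.Flat A (Localization.AtPrime q))
   (h0 : SGA3b.IsIsotrivial (A ⧸ I) ((A ⧸ I) ⊗[A] C)) :
    ∃ (F : Type u) (_ : CommRing F) (_ : HopfAlgebra A F) (φ : C →ₐc[A] F) (s : C),
      SGA3b.IsIsotrivial A F ∧ Module.Flat A F ∧ Function.Surjective φ ∧
        IsUnit (Coalgebra.counit (R := A) s) ∧ (∀ x, φ x = 0 → s * x = 0) ∧
        ∀ x, φ x = 0 → x ∈ I • (⊤ : Submodule A C) := by
  classical
  haveI := hft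
  obtain ⟨F, _, _, hF, ⟨e⟩⟩ := HopfDesc.isotrivial_lifts (R := A) (I := I) ((A ⧸ I) ⊗[A] C) h0
  obtain ⟨φ, hφ⟩ := exists_bialgHom_of_isotrivial (I := I) hF hfl (isQuasiIsotrivial_of_isIsotrivial h0)
    (e.symm : ((A ⧸ I) ⊗[A] C) →ₐc[A ⧸ I] ((A ⧸ I) ⊗[A] F))
  obtain ⟨T, _, _, -, hfin, hff, N, _, ⟨eN⟩⟩ := id hF
  haveI := hff; haveI := hfin
  obtain ⟨EF⟩ := exists_split_of_bialgEquiv eN
  haveI : Module.Flat A F := flat_of_hasSplits (hasSplits_of_isMultType (isMultType_of_split EF))
  have hJ : I.map (algebraMap A T) ≤ Ideal.jacobson ⊥ := by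
    haveI := Algebra.IsIntegral.of_finite A T
    exact HenselLib.map_le_jacobson_bot (IsAdicComplete.le_jacobson_bot I)
  have hsurj : Function.Surjective φ := by
    refine surjective_of_split EF φ hJ fun m => ?_
    let P := Algebra.TensorProduct.map (AlgHom.id T T) (φ : C →ₐ[A] F)
    let q := HopfDesc.red I T
    obtain ⟨E', hE'⟩ := exists_split_push EF q
    suffices ∃ x, push q (P x) = push q (EF.e m) by
      obtain ⟨x, hx⟩ := this
      refine ⟨x, ?_⟩
      rw [← HopfDesc.red_eq_zero_iff (I := I), map_sub, map_one]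
      show q (EF.e.repr (P x) m) - 1 = 0
      rw [← repr_push EF E' q hE', hx, ← hE', Module.Basis.repr_self, Finsupp.single_eq_same, sub_self]
    have key : ∀ y : T ⊗[A] F, ∃ x, push q (P x) = push q y := by
      intro y
      induction y using TensorProduct.induction_on with
      | zero => exact ⟨0, by simp⟩
      | add a b ha hb =>
        obtain ⟨a', ha'⟩ := ha
        obtain ⟨b', hb'⟩ := hb
        exact ⟨a' + b', by simp only [map_add, ha', hb']⟩
      | tmul t f =>
        obtain ⟨w, hw⟩ := (e.symm.toAlgEquiv.surjective) ((1 : A ⧸ I) ⊗ₜ[A] f)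
        obtain ⟨c, rfl⟩ : ∃ c : C, (1 : A ⧸ I) ⊗ₜ[A] c = w :=
          Algebra.TensorProduct.includeRight_surjective C Ideal.Quotient.mk_surjective w
        refine ⟨t ⊗ₜ c, ?_⟩
        have h1 : (1 : A ⧸ I) ⊗ₜ[A] φ c = (1 : A ⧸ I) ⊗ₜ[A] f := (hφ c).symm.trans hw
        have h2 := congrArg (fun z => (q t ⊗ₜ[A] (1 : F)) *
          push (Algebra.TensorProduct.includeLeft : A ⧸ I →ₐ[A] HopfDesc.B I T) z) h1
        simpa [push, P, q, HopfDesc.red] using h2
    exact key _
  have hker : ∀ x, φ x = 0 → x ∈ I • (⊤ : Submodule A C) := fun x hx => by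
    rw [← FlatLift.rd_eq_zero_iff]
    apply e.symm.toAlgEquiv.injective
    rw [map_zero]
    refine (hφ x).trans ?_
    rw [hx, TensorProduct.tmul_zero]
  obtain ⟨s, h1, h2⟩ := exists_killer (IsAdicComplete.le_jacobson_bot I) φ hsurj hker
  exact ⟨F, inferInstance, inferInstance, φ, s, hF, inferInstance, hsurj, h1, h2, hker⟩

theorem isIsotrivial_of_fibres_connected [IsNoetherianRing A] (I : Ideal A) [IsAdicComplete I A] [Module.Flat A C]
    (hft : Algebra.FiniteType A C)
    (hconn : ∀ (p : Ideal A) [p.IsPrime], ConnectedSpace (PrimeSpectrum (p.ResidueField ⊗[A] C)))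
    (h0 : SGA3b.IsIsotrivial (A ⧸ I) ((A ⧸ I) ⊗[A] C)) : SGA3b.IsIsotrivial A C := by
  haveI := hft
  haveI : IsNoetherianRing C := Algebra.FiniteType.isNoetherianRing A C
  obtain ⟨F, _, _, φ, s, hF, hflat, hsurj, h1, h2, -⟩ := exists_model I hft (fun q _ _ => Module.Flat.trans A C _) h0
  exact isIsotrivial_of_bialgEquiv
    (BialgEquiv.ofBijective φ ⟨injective_of_killer φ hsurj (IsNoetherian.noetherian _) h1 h2 hconn, hsurj⟩).symm hF

end Groth.Agent.HomLift
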