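import Groth.Agent.SweepSix.GeomConn
import Mathlib.RingTheory.HopfAlgebra.Basic

set_option autoImplicit false

/-!
A connected group over a field stays connected after extension of the field.
-/

noncomputable section

universe u

open CategoryTheory CategoryTheory.Limits AlgebraicGeometry
open scoped TensorProduct

namespace Groth.Agent.HomLift

theorem connectedSpace_tensor {k : Type u} [Field k] {H : Type u} [CommRing H] [HopfAlgebra k H]
    [ConnectedSpace (PrimeSpectrum H)] (K : Type u) [Field K] [Algebra k K] :
    ConnectedSpace (PrimeSpectrum (K ⊗[k] H)) := by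
  let f := Spec.map (CommRingCat.ofHom (algebraMap k H))
  let j := Spec.map (CommRingCat.ofHom (Bialgebra.counitAlgHom k H).toRingHom)
  haveI : ConnectedSpace (Spec (CommRingCat.of H)) := ‹ConnectedSpace (PrimeSpectrum H)›
  have w : j ≫ f = 𝟙 _ := by
    rw [← Spec.map_comp, ← CommRingCat.ofHom_comp, ← Spec.map_id]
    congr 2
    exact RingHom.ext fun x => (Bialgebra.counitAlgHom k H).commutes x
  haveI : GeometricallyConnected (𝟙 (Spec (CommRingCat.of k))) := by
    rw [show (𝟙 (Spec (CommRingCat.of k))) = Spec.map (CommRingCat.ofHom (algebraMap k k)) from Spec.map_id _ |>.symm]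
    exact SweepSix.GeomConn.gc_specMap_of_purelyInseparable k
  haveI : GeometricallyConnected f := SweepSix.GeomConn.gc_of_source f j (𝟙 _) w
  let g := Spec.map (CommRingCat.ofHom (algebraMap k K))
  haveI : ConnectedSpace (Spec (CommRingCat.of K)) := inferInstanceAs (ConnectedSpace (PrimeSpectrum K))
  haveI : ConnectedSpace (pullback g f : Scheme) :=
    GeometricallyConnected.connectedSpace_of_subsingleton (pullback.fst g f)
  let e : (pullback g f : Scheme) ≅ Spec (CommRingCat.of (K ⊗[k] H)) := pullbackSpecIso k K H
  exact e.hom.surjective.connectedSpace e.hom.continuous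

end Groth.Agent.HomLift
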