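import Groth.Agent.HomLiftLib.Connected
import Mathlib.RingTheory.Ideal.IdempotentFG
import Mathlib.RingTheory.HopfAlgebra.Quotient

set_option autoImplicit false

/-!
A subgroup which is open near the origin in every fibre is open and closed.
-/

noncomputable section

universe u

open scoped TensorProduct
open WithConv

namespace Groth.Agent.HomLift

variable {A : Type u} [CommRing A] {C : Type u} [CommRing C] [HopfAlgebra A C] {F : Type u} [CommRing F]
  [HopfAlgebra A F]

theorem exists_idempotent_ker [Module.Flat A F] (φ : C →ₐc[A] F) (hφ : Function.Surjective φ)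
    (hfg : (RingHom.ker ((φ : C →ₐ[A] F).toRingHom)).FG) {s : C}
    (hεu : IsUnit (Coalgebra.counit (R := A) s)) (hs : ∀ x, φ x = 0 → s * x = 0) :
    ∃ e : C, IsIdempotentElem e ∧ ∀ x, φ x = 0 ↔ x ∈ Ideal.span {e} := by
  classical
  let K : Ideal C := RingHom.ker ((φ : C →ₐ[A] F).toRingHom)
  haveI : Module.Finite C K := Module.Finite.iff_fg.2 hfg
  let ψ := (φ : C →ₐ[A] F).toLinearMap
  let Kn : Submodule A C := LinearMap.ker ψ
  have hloc : ∀ (q : Ideal C) [q.IsPrime], K ≤ q → ¬ Module.annihilator C K ≤ q := by
    intro q _ hKq hann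
    have hq : (⟨q, inferInstance⟩ : PrimeSpectrum C) ∈ Module.support C K := by
      rw [Module.support_eq_zeroLocus]
      exact hann
    rw [Module.mem_support_iff_nontrivial_residueField_tensorProduct] at hq
    refine not_subsingleton_iff_nontrivial.2 hq (subsingleton_of_forall_eq 0 fun z => ?_)
    let p := q.comap (algebraMap A C)
    let k := p.ResidueField
    let kq := q.ResidueField
    let ι : k →ₐ[A] kq := Ideal.ResidueField.mapₐ p q (Algebra.ofId A C) rfl
    let π : k ⊗[A] C →ₐc[k] k ⊗[A] F := Bialgebra.TensorProduct.map (BialgHom.id k k) φ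
    have hπ : ∀ z, π z = ψ.lTensor k z := fun z => by
      induction z using TensorProduct.induction_on with
      | zero => simp
      | add a b ha hb => simp only [map_add, ha, hb]
      | tmul c y => rfl
    have hπs : Function.Surjective π := fun y => by
      obtain ⟨w, hw⟩ := LinearMap.lTensor_surjective k (g := ψ) hφ y
      exact ⟨w, (hπ w).trans hw⟩
    have hexk : Function.Exact (Kn.subtype.lTensor k) (ψ.lTensor k) :=
      lTensor_exact k (LinearMap.exact_subtype_ker_map ψ) hφ
    let g : k ⊗[A] C →ₐ[A] kq :=
      Algebra.TensorProduct.lift ι (IsScalarTower.toAlgHom A C kq) fun _ _ => Commute.all _ _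
    let Q := RingHom.ker g.toRingHom
    haveI : Q.IsPrime := RingHom.ker_isPrime _
    have hgker : ∀ w, π w = 0 → g w = 0 := by
      intro w hw
      rw [hπ] at hw
      obtain ⟨v, rfl⟩ := (hexk w).1 hw
      clear hw
      induction v using TensorProduct.induction_on with
      | zero => simp
      | add a b ha hb => simp only [map_add, ha, hb, add_zero]
      | tmul c y =>
        have : algebraMap C kq (y : C) = 0 := by
          rw [Ideal.algebraMap_residueField_eq_zero]
          exact hKq (show (y : C) ∈ K from y.2)
        simp [g, this]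
    obtain ⟨h, hhQ, hh⟩ := exists_not_mem_mul_eq_zero π (s := (1 : k) ⊗ₜ s) (by
        rw [TensorProduct.counit_tmul]
        simp only [CommSemiring.counit_apply]
        obtain ⟨u, hu⟩ := hεu
        rw [← hu, Algebra.smul_def, mul_one]
        exact ((u.isUnit).map (algebraMap A k)).ne_zero) (fun w hw => by
        rw [hπ] at hw
        obtain ⟨v, rfl⟩ := (hexk w).1 hw
        clear hw
        induction v using TensorProduct.induction_on with
        | zero => simp
        | add a b ha hb => simp only [map_add, mul_add, ha, hb, add_zero]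
        | tmul c y =>
          rw [LinearMap.lTensor_tmul, Algebra.TensorProduct.tmul_mul_tmul, Submodule.subtype_apply,
            show s * (y : C) = 0 from hs _ y.2, TensorProduct.tmul_zero]) hπs Q
      (fun w hw => hgker w hw)
    have hi := LinearMap.lTensor_injective_of_exact_of_flat ψ hφ Kn.subtype Subtype.val_injective
      (LinearMap.exact_subtype_ker_map ψ) k
    let j : k ⊗[A] Kn →ₗ[A] kq ⊗[C] K :=
      TensorProduct.lift
        { toFun := fun c =>
            { toFun := fun y => ι c ⊗ₜ[C] (⟨(y : C), y.2⟩ : K)
              map_add' := fun y y' => by rw [← TensorProduct.tmul_add]; rfl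
              map_smul' := fun r y => by
                rw [RingHom.id_apply, ← algebraMap_smul C r (ι c ⊗ₜ[C] (⟨(y : C), y.2⟩ : K)),
                  ← TensorProduct.tmul_smul]
                congr 1
                exact Subtype.ext (algebraMap_smul C r (y : C)).symm }
          map_add' := fun c c' => LinearMap.ext fun y => by
            simp only [LinearMap.coe_mk, AddHom.coe_mk, map_add, LinearMap.add_apply]
            exact TensorProduct.add_tmul _ _ _
          map_smul' := fun r c => LinearMap.ext fun y => by
            simp only [LinearMap.coe_mk, AddHom.coe_mk, map_smul, LinearMap.smul_apply, RingHom.id_apply]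
            rfl }
    induction z using TensorProduct.induction_on with
    | zero => rfl
    | add a b ha hb => rw [ha, hb, add_zero]
    | tmul c y =>
      let my : C →ₗ[A] Kn :=
        { toFun := fun d => ⟨d * (y : C), show φ (d * (y : C)) = 0 by
            rw [map_mul, show φ (y : C) = 0 from y.2, mul_zero]⟩
          map_add' := fun a b => Subtype.ext (add_mul a b (y : C))
          map_smul' := fun r a => Subtype.ext (smul_mul_assoc r a (y : C)) }
      have h1 : ∀ w, Kn.subtype.lTensor k (my.lTensor k w) = w * ((1 : k) ⊗ₜ[A] (y : C)) := fun w => by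
        induction w using TensorProduct.induction_on with
        | zero => simp
        | add a b ha hb => simp only [map_add, ha, hb, add_mul]
        | tmul a b => simp [my]
      have h2 : ∀ w, j (my.lTensor k w) = g w ⊗ₜ[C] y := fun w => by
        induction w using TensorProduct.induction_on with
        | zero => simp
        | add a b ha hb => simp only [map_add, ha, hb, TensorProduct.add_tmul]
        | tmul a b =>
          show ι a ⊗ₜ[C] (⟨b * (y : C), _⟩ : K) = g (a ⊗ₜ b) ⊗ₜ[C] y
          rw [show (⟨b * (y : C), _⟩ : K) = b • y from Subtype.ext rfl, ← TensorProduct.smul_tmul]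
          congr 1
          simp [g, Algebra.smul_def, mul_comm]
      have h0 : h * ((1 : k) ⊗ₜ[A] (y : C)) = 0 := hh _ (by
        rw [hπ, LinearMap.lTensor_tmul, show ψ (y : C) = 0 from y.2, TensorProduct.tmul_zero])
      have h3 : my.lTensor k h = 0 := hi (by rw [h1, h0, map_zero])
      have hgh : g h ≠ 0 := fun e => hhQ e
      have h4 : g h ⊗ₜ[C] y = 0 := by rw [← h2, h3, map_zero]
      have h5 := congrArg ((LinearMap.mulLeft C (c * (g h)⁻¹)).rTensor K) h4
      rw [LinearMap.rTensor_tmul, LinearMap.mulLeft_apply, mul_assoc, inv_mul_cancel₀ hgh, mul_one, map_zero] at h5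
      exact h5
  have htop : K ⊔ Module.annihilator C K = ⊤ := by
    by_contra hne
    obtain ⟨m, hm, hle⟩ := Ideal.exists_le_maximal _ hne
    haveI := hm.isPrime
    exact hloc m (le_sup_left.trans hle) (le_sup_right.trans hle)
  have hidem : IsIdempotentElem K := by
    refine le_antisymm Ideal.mul_le_left fun x hx => ?_
    obtain ⟨a, ha, b, hb, hab⟩ := Submodule.mem_sup.1 (htop ▸ Submodule.mem_top : (1 : C) ∈ K ⊔ Module.annihilator C K)
    have hbx : b * x = 0 := congrArg Subtype.val (Module.mem_annihilator.1 hb ⟨x, hx⟩)
    have : x = a * x := by rw [← add_zero (a * x), ← hbx, ← add_mul, hab, one_mul]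
    rw [this]
    exact Ideal.mul_mem_mul ha hx
  obtain ⟨e, he, hK⟩ := (Ideal.isIdempotentElem_iff_of_fg K hfg).1 hidem
  exact ⟨e, he, fun x => by
    have hx : φ x = 0 ↔ x ∈ K := Iff.rfl
    rw [hx, hK]⟩

/-- Homomorphisms of groups commute with inversion. -/
theorem map_antipode (φ : C →ₐc[A] F) (x : C) :
    φ (HopfAlgebra.antipode A x) = HopfAlgebra.antipode A (φ x) := by
  let f := (φ : C →ₐ[A] F)
  let P : WithConv (C →ₐ[A] F) := toConv f
  let l : WithConv (C →ₐ[A] F) := toConv ((HopfAlgebra.antipodeAlgHom A F).comp f)
  let r : WithConv (C →ₐ[A] F) := toConv (f.comp (HopfAlgebra.antipodeAlgHom A C))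
  have hl : l * P = 1 := by
    have := AlgHom.convMul_comp_bialgHom_distrib (toConv (HopfAlgebra.antipodeAlgHom A F)) (toConv (AlgHom.id A F)) φ
    rw [AlgHom.antipode_id_cancel] at this
    apply WithConv.ofConv_injective
    refine Eq.trans this.symm ?_
    apply AlgHom.ext
    intro y
    show (1 : WithConv (F →ₐ[A] F)).ofConv (φ y) = (1 : WithConv (C →ₐ[A] F)).ofConv y
    simp [AlgHom.convOne_def]
  have hr : P * r = 1 := by
    have := AlgHom.comp_convMul_distrib f (toConv (AlgHom.id A C)) (toConv (HopfAlgebra.antipodeAlgHom A C))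
    apply WithConv.ofConv_injective
    refine Eq.trans this.symm ?_
    rw [show toConv (AlgHom.id A C) * toConv (HopfAlgebra.antipodeAlgHom A C) = 1 from mul_inv_cancel (toConv (AlgHom.id A C))]
    apply AlgHom.ext
    intro y
    simp [AlgHom.convOne_def, f, AlgHomClass.commutes]
  exact (DFunLike.congr_fun (congrArg WithConv.ofConv (left_inv_eq_right_inv hl hr)) x).symm

/-- The kernel of a surjective homomorphism is a Hopf ideal. -/
theorem isHopfIdeal_of_ker (φ : C →ₐc[A] F) (hφ : Function.Surjective φ) {J : Ideal C}
    (hJ : ∀ x, φ x = 0 ↔ x ∈ J) : J.IsHopfIdeal A := by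
  let φl := (φ : C →ₐ[A] F).toLinearMap
  refine { counit_eq_zero := fun x hx => ?_, map_mkQ_comul_eq_zero := fun x hx => ?_, antipode_mem := fun x hx => ?_ }
  · rw [← CoalgHomClass.counit_comp_apply φ x, show φ x = 0 from (hJ x).2 hx, map_zero]
  · have hle : LinearMap.ker φl ≤ LinearMap.ker (J.restrictScalars A).mkQ := fun y hy => by
      rw [LinearMap.mem_ker, Submodule.mkQ_apply, Submodule.Quotient.mk_eq_zero]
      exact (hJ y).1 hy
    let lift' : F →ₗ[A] C ⧸ J.restrictScalars A :=
      (Submodule.liftQ (LinearMap.ker φl) (J.restrictScalars A).mkQ hle).comp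
        (LinearMap.quotKerEquivOfSurjective φl hφ).symm.toLinearMap
    have hmk : (J.restrictScalars A).mkQ = lift' ∘ₗ φl := LinearMap.ext fun y => by
      show _ = (Submodule.liftQ (LinearMap.ker φl) (J.restrictScalars A).mkQ hle) ((LinearMap.quotKerEquivOfSurjective φl hφ).symm (φl y))
      rw [show (LinearMap.quotKerEquivOfSurjective φl hφ).symm (φl y) = Submodule.Quotient.mk y from
        (LinearEquiv.symm_apply_eq _).2 rfl]
      rfl
    rw [hmk, TensorProduct.map_comp, LinearMap.comp_apply,
      show TensorProduct.map φl φl (Coalgebra.comul (R := A) x) = Coalgebra.comul (R := A) (φ x) from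
        CoalgHomClass.map_comp_comul_apply φ x, show φ x = 0 from (hJ x).2 hx, map_zero, map_zero]
  · rw [← hJ, map_antipode, (hJ x).2 hx, map_zero]

end Groth.Agent.HomLift
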