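import Groth.Agent.HomLiftLib.Connected
import Groth.Agent.HomLiftLib.Idem
import Groth.Agent.HomLiftLib.Types
import Groth.Agent.HomLiftLib.GeomConn
import Groth.Agent.AdicRingLib.Completion

set_option autoImplicit false

/-!
Flat groups with connected fibres and a fibre of multiplicative type split near that fibre.
-/

noncomputable section

universe u

open scoped TensorProduct
open Groth.Agent.TorusField Groth.Agent.DiagHopf

namespace Groth.Agent.HomLift

theorem exists_field_alg {R : Type u} [CommRing R] (q : Ideal R) [q.IsPrime] {K : Type u} [Field K] [Algebra R K]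
    (hK : RingHom.ker (algebraMap R K) = q) : Nonempty (q.ResidueField →ₐ[R] K) :=
  ⟨Ideal.ResidueField.liftₐ q (Algebra.ofId R K) hK.ge fun x hx => isUnit_iff_ne_zero.2 fun h =>
    hx (hK.le h)⟩

theorem connectedSpace_of_ringEquiv {X Y : Type u} [CommRing X] [CommRing Y] (e : X ≃+* Y)
    [ConnectedSpace (PrimeSpectrum X)] : ConnectedSpace (PrimeSpectrum Y) := by
  refine Function.Surjective.connectedSpace (f := PrimeSpectrum.comap e.symm.toRingHom) (fun P => ?_)
    (PrimeSpectrum.continuous_comap _)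
  refine ⟨PrimeSpectrum.comap e.toRingHom P, ?_⟩
  rw [← PrimeSpectrum.comap_comp_apply]
  rw [show e.toRingHom.comp e.symm.toRingHom = RingHom.id Y from RingHom.ext fun x => e.apply_symm_apply x]
  rfl

/-- The fibres of a model are connected. -/
theorem connectedSpace_of_fibres {R₂ R : Type u} [CommRing R₂] [CommRing R] [Algebra R₂ R]
    {A : Type u} [CommRing A] [HopfAlgebra R A] {B : Type u} [CommRing B] [HopfAlgebra R₂ B]
    (e : R ⊗[R₂] B ≃ₐc[R] A)
    (hconn : ∀ (q : Ideal R) [q.IsPrime], ConnectedSpace (PrimeSpectrum (q.ResidueField ⊗[R] A)))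
    (K : Type u) [Field K] [Algebra R K] [Algebra R₂ K] [IsScalarTower R₂ R K] :
    ConnectedSpace (PrimeSpectrum (K ⊗[R₂] B)) := by
  let q := RingHom.ker (algebraMap R K)
  haveI : q.IsPrime := RingHom.ker_isPrime _
  haveI := hconn q
  obtain ⟨g⟩ := exists_field_alg q (K := K) rfl
  letI : Algebra q.ResidueField K := g.toRingHom.toAlgebra
  haveI : IsScalarTower R q.ResidueField K := IsScalarTower.of_algebraMap_eq fun x => (g.commutes x).symm
  haveI := connectedSpace_tensor (k := q.ResidueField) (H := q.ResidueField ⊗[R] A) K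
  let e₁ : K ⊗[q.ResidueField] (q.ResidueField ⊗[R] A) ≃ₐ[K] K ⊗[R₂] B :=
    (Algebra.TensorProduct.cancelBaseChange R q.ResidueField K K A).trans
      ((Algebra.TensorProduct.congr (AlgEquiv.refl (R := K) (A₁ := K)) e.toAlgEquiv.symm).trans
        (Algebra.TensorProduct.cancelBaseChange R₂ R K K B))
  exact connectedSpace_of_ringEquiv e₁.toRingEquiv

/-- A base change of a morphism with killed kernel and connected fibres is bijective. -/
theorem exists_equiv_baseChange {A₀ : Type u} [CommRing A₀] {C : Type u} [CommRing C] [HopfAlgebra A₀ C]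
    {F : Type u} [CommRing F] [HopfAlgebra A₀ F] [Algebra.FiniteType A₀ C] [Module.Flat A₀ F]
    (φ : C →ₐc[A₀] F) (hφ : Function.Surjective φ) (hfg : (RingHom.ker ((φ : C →ₐ[A₀] F).toRingHom)).FG) {s : C}
    (hεu : IsUnit (Coalgebra.counit (R := A₀) s)) (hs : ∀ x, φ x = 0 → s * x = 0)
    (R' : Type u) [CommRing R'] [Algebra A₀ R']
    (hconn : ∀ (K : Type u) [Field K] [Algebra R' K] [Algebra A₀ K] [IsScalarTower A₀ R' K],
      ConnectedSpace (PrimeSpectrum (K ⊗[A₀] C))) :
    Nonempty ((R' ⊗[A₀] C) ≃ₐc[R'] (R' ⊗[A₀] F)) := by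
  haveI : Algebra.FiniteType R' (R' ⊗[A₀] C) := Algebra.FiniteType.baseChange (A := C) R'
  let π : R' ⊗[A₀] C →ₐc[R'] R' ⊗[A₀] F := Bialgebra.TensorProduct.map (BialgHom.id R' R') φ
  have hπ : ∀ z, π z = Algebra.TensorProduct.map (AlgHom.id A₀ R') (φ : C →ₐ[A₀] F) z := fun z => by
    induction z using TensorProduct.induction_on with
    | zero => simp
    | add a b ha hb => simp only [map_add, ha, hb]
    | tmul c y => rfl
  have hπs : Function.Surjective π := fun y => by
    induction y using TensorProduct.induction_on with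
    | zero => exact ⟨0, map_zero π⟩
    | add a b ha hb =>
      obtain ⟨x, rfl⟩ := ha
      obtain ⟨x', rfl⟩ := hb
      exact ⟨x + x', map_add π x x'⟩
    | tmul c y =>
      obtain ⟨x, rfl⟩ := hφ y
      exact ⟨c ⊗ₜ x, rfl⟩
  have hker : RingHom.ker ((π : R' ⊗[A₀] C →ₐ[R'] R' ⊗[A₀] F).toRingHom) =
      (RingHom.ker (φ : C →ₐ[A₀] F)).map (Algebra.TensorProduct.includeRight : C →ₐ[A₀] R' ⊗[A₀] C) := by
    rw [← Algebra.TensorProduct.lTensor_ker (φ : C →ₐ[A₀] F) hφ]
    ext z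
    simp only [RingHom.mem_ker]
    exact Iff.of_eq (congrArg (· = 0) (hπ z))
  have hfg' : (RingHom.ker ((π : R' ⊗[A₀] C →ₐ[R'] R' ⊗[A₀] F).toRingHom)).FG := by
    rw [hker]
    exact Ideal.FG.map hfg _
  have hs' : ∀ x, π x = 0 → ((1 : R') ⊗ₜ[A₀] s) * x = 0 := by
    intro x hx
    have hx' : x ∈ RingHom.ker ((π : R' ⊗[A₀] C →ₐ[R'] R' ⊗[A₀] F).toRingHom) := hx
    rw [hker, Ideal.map] at hx'
    clear hx
    induction hx' using Submodule.span_induction with
    | mem w hw =>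
      obtain ⟨y, hy, rfl⟩ := hw
      rw [Algebra.TensorProduct.includeRight_apply, Algebra.TensorProduct.tmul_mul_tmul,
        hs y hy, TensorProduct.tmul_zero]
    | zero => rw [mul_zero]
    | add a b _ _ ha hb => rw [mul_add, ha, hb, add_zero]
    | smul c a _ ha => rw [smul_eq_mul, mul_left_comm, ha, mul_zero]
  have hu : IsUnit (Coalgebra.counit (R := R') ((1 : R') ⊗ₜ[A₀] s)) := by
    rw [TensorProduct.counit_tmul, CommSemiring.counit_apply, Algebra.smul_def, mul_one]
    exact hεu.map _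
  haveI : Module.Flat R' (R' ⊗[A₀] F) := inferInstance
  refine ⟨BialgEquiv.ofBijective π ⟨injective_of_killer π hπs hfg' hu hs' fun P _ => ?_, hπs⟩⟩
  letI : Algebra A₀ P.ResidueField := ((algebraMap R' P.ResidueField).comp (algebraMap A₀ R')).toAlgebra
  haveI : IsScalarTower A₀ R' P.ResidueField := IsScalarTower.of_algebraMap_eq fun _ => rfl
  haveI := hconn P.ResidueField
  exact connectedSpace_of_ringEquiv
    (Algebra.TensorProduct.cancelBaseChange A₀ R' P.ResidueField P.ResidueField C).symm.toRingEquiv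

/-- A model over the completion at a point whose fibre is of multiplicative type and consists of flat points. -/
theorem exists_completion_model_of_flatAt {R₂ : Type u} [CommRing R₂] [IsNoetherianRing R₂] {B : Type u} [CommRing B]
    [HopfAlgebra R₂ B] [Algebra.FiniteType R₂ B] {K : Type u} [Field K] [Algebra R₂ K]
    {N : Type u} [CommGroup N] (E : Split R₂ B (Additive N) K)
    (hflat : ∀ (A₀ : Type u) [CommRing A₀] [Algebra R₂ A₀] (Q : Ideal (A₀ ⊗[R₂] B)) [Q.IsPrime],
      Q.comap (algebraMap R₂ (A₀ ⊗[R₂] B)) = RingHom.ker (algebraMap R₂ K) → Module.Flat A₀ (Localization.AtPrime Q)) :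
    ∃ (A₀ : Type u) (_ : CommRing A₀) (_ : Algebra R₂ A₀) (ψ : A₀ →ₐ[R₂] K)
      (F : Type u) (_ : CommRing F) (_ : HopfAlgebra A₀ F) (φ : A₀ ⊗[R₂] B →ₐc[A₀] F) (s : A₀ ⊗[R₂] B)
      (T : Type u) (_ : CommRing T) (_ : Algebra A₀ T) (M : Type u) (_ : CommGroup M),
      Module.Flat R₂ A₀ ∧ Module.Flat A₀ F ∧ Function.Surjective φ ∧
      (RingHom.ker ((φ : A₀ ⊗[R₂] B →ₐ[A₀] F).toRingHom)).FG ∧
      IsUnit (Coalgebra.counit (R := A₀) s) ∧ (∀ x, φ x = 0 → s * x = 0) ∧
      Module.FaithfullyFlat A₀ T ∧ Nonempty (Split A₀ F (Additive M) T) ∧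
      ∃ e : A₀ ⊗[R₂] B, IsIdempotentElem e ∧ (∀ x, φ x = 0 ↔ x ∈ Ideal.span {e}) ∧
        e ∈ (RingHom.ker ψ.toRingHom).map (algebraMap A₀ (A₀ ⊗[R₂] B)) := by
  classical
  let p₂ := RingHom.ker (algebraMap R₂ K)
  haveI : p₂.IsPrime := RingHom.ker_isPrime _
  let L := Localization.AtPrime p₂
  let m := IsLocalRing.maximalIdeal L
  let A₀ := AdicCompletion m L
  haveI : IsNoetherianRing A₀ := AdicRingLib.isNoetherianRing_adicCompletion m
  haveI : IsAdicComplete (IsLocalRing.maximalIdeal A₀) A₀ := inferInstance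
  haveI : Module.Flat R₂ L := IsLocalization.flat L p₂.primeCompl
  haveI : Module.Flat R₂ A₀ := Module.Flat.trans R₂ L A₀
  let I := IsLocalRing.maximalIdeal A₀
  -- the map to the field
  let g₀ : L →ₐ[R₂] K := IsLocalization.liftAlgHom (M := p₂.primeCompl) (f := Algebra.ofId R₂ K) fun y =>
    isUnit_iff_ne_zero.2 fun h => y.2 h
  have hg₀ : IsLocalRing.maximalIdeal L ≤ RingHom.ker g₀.toRingHom := by
    rw [← Localization.AtPrime.map_eq_maximalIdeal, Ideal.map_le_iff_le_comap]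
    intro x hx
    show g₀ (algebraMap R₂ L x) = 0
    rw [AlgHom.commutes]
    exact hx
  let g₁ : IsLocalRing.ResidueField L →+* K := Ideal.Quotient.lift _ g₀.toRingHom hg₀
  let β := RingEquiv.ofBijective _ (AdicCompletion.residueField_map_bijective L)
  let g₂ : A₀ ⧸ I →+* K := g₁.comp β.symm.toRingHom
  have hg₂ : ∀ x : R₂, g₂ (algebraMap R₂ (A₀ ⧸ I) x) = algebraMap R₂ K x := fun x => by
    have h1 : β (IsLocalRing.residue L (algebraMap R₂ L x)) = algebraMap R₂ (A₀ ⧸ I) x := by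
      show IsLocalRing.ResidueField.map _ (IsLocalRing.residue L _) = _
      rw [IsLocalRing.ResidueField.map_residue, ← IsScalarTower.algebraMap_apply R₂ L A₀]
      rfl
    show g₁ (β.symm _) = _
    rw [← h1, RingEquiv.symm_apply_apply]
    exact g₀.commutes x
  let ψ : A₀ →ₐ[R₂] K := { g₂.comp (Ideal.Quotient.mk I) with commutes' := hg₂ }
  letI : Algebra (A₀ ⧸ I) K := g₂.toAlgebra
  letI : Algebra A₀ K := ψ.toRingHom.toAlgebra
  haveI : IsScalarTower R₂ A₀ K := IsScalarTower.of_algebraMap_eq fun x => (ψ.commutes x).symm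
  haveI : IsScalarTower A₀ (A₀ ⧸ I) K := IsScalarTower.of_algebraMap_eq fun _ => rfl
  -- the closed fibre is isotrivial
  obtain ⟨E₁⟩ := exists_split_transfer' (R' := A₀) E
  obtain ⟨E₂⟩ := exists_split_transfer' (R' := A₀ ⧸ I) E₁
  letI := Ideal.Quotient.field I
  haveI : Module.FaithfullyFlat (A₀ ⧸ I) K := inferInstance
  haveI hftC : Algebra.FiniteType A₀ (A₀ ⊗[R₂] B) := Algebra.FiniteType.baseChange (A := B) A₀
  have hmt := isMultType_of_split E₂
  obtain ⟨k', _, _, hfin, hsep, N', _, -, ⟨eN⟩⟩ := isotrivial_of_field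
    (Algebra.FiniteType.baseChange (A := A₀ ⊗[R₂] B) (A₀ ⧸ I)) hmt
  haveI := hfin; haveI := hsep
  haveI : Algebra.Etale (A₀ ⧸ I) k' := by
    haveI : Algebra.FormallyEtale (A₀ ⧸ I) k' := Algebra.FormallyEtale.of_isSeparable (A₀ ⧸ I) k'
    exact { finitePresentation := Algebra.FinitePresentation.of_finiteType.1 inferInstance }
  have h0 : SGA3b.IsIsotrivial (A₀ ⧸ I) ((A₀ ⧸ I) ⊗[A₀] (A₀ ⊗[R₂] B)) :=
    ⟨k', inferInstance, inferInstance, inferInstance, inferInstance, inferInstance, N', inferInstance, ⟨eN⟩⟩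
  obtain ⟨F, _, _, φ, s, hF, hflat, hsurj, h1, h2, h3⟩ := exists_model I hftC (fun q _ hq => hflat A₀ q <| by
    have hI : q.comap (algebraMap A₀ (A₀ ⊗[R₂] B)) = I :=
      ((inferInstance : I.IsMaximal).eq_of_le (Ideal.IsPrime.ne_top inferInstance) (Ideal.map_le_iff_le_comap.1 hq)).symm
    ext x
    rw [Ideal.mem_comap, IsScalarTower.algebraMap_apply R₂ A₀ (A₀ ⊗[R₂] B), ← Ideal.mem_comap, hI,
      ← Ideal.Quotient.eq_zero_iff_mem, RingHom.mem_ker, ← hg₂ x, map_eq_zero_iff g₂ g₂.injective]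
    rfl) h0
  obtain ⟨T, _, _, -, -, hff, M, _, ⟨eM⟩⟩ := id hF
  haveI : IsNoetherianRing (A₀ ⊗[R₂] B) := Algebra.FiniteType.isNoetherianRing A₀ _
  haveI := hflat
  obtain ⟨e, he, hker⟩ := exists_idempotent_ker φ hsurj (IsNoetherian.noetherian _) h1 h2
  have heI : e ∈ (RingHom.ker ψ.toRingHom).map (algebraMap A₀ (A₀ ⊗[R₂] B)) := by
    have := h3 e ((hker e).2 (Ideal.subset_span rfl))
    rw [Ideal.smul_top_eq_map, Submodule.restrictScalars_mem] at this
    refine Ideal.map_mono (fun x hx => ?_) this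
    show g₂ (Ideal.Quotient.mk I x) = 0
    rw [Ideal.Quotient.eq_zero_iff_mem.2 hx, map_zero]
  exact ⟨A₀, inferInstance, inferInstance, ψ, F, inferInstance, inferInstance, φ, s, T, inferInstance, inferInstance,
    M, inferInstance, inferInstance, hflat, hsurj, IsNoetherian.noetherian _, h1, h2, hff,
    exists_split_of_bialgEquiv eM, e, he, hker, heI⟩

/-- A model over the completion at a point whose fibre is of multiplicative type. -/
theorem exists_completion_model {R₂ : Type u} [CommRing R₂] [IsNoetherianRing R₂] {B : Type u} [CommRing B]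
    [HopfAlgebra R₂ B] [Module.Flat R₂ B] [Algebra.FiniteType R₂ B] {K : Type u} [Field K] [Algebra R₂ K]
    {N : Type u} [CommGroup N] (E : Split R₂ B (Additive N) K) :
    ∃ (A₀ : Type u) (_ : CommRing A₀) (_ : Algebra R₂ A₀) (ψ : A₀ →ₐ[R₂] K)
      (F : Type u) (_ : CommRing F) (_ : HopfAlgebra A₀ F) (φ : A₀ ⊗[R₂] B →ₐc[A₀] F) (s : A₀ ⊗[R₂] B)
      (T : Type u) (_ : CommRing T) (_ : Algebra A₀ T) (M : Type u) (_ : CommGroup M),
      Module.Flat R₂ A₀ ∧ Module.Flat A₀ F ∧ Function.Surjective φ ∧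
      (RingHom.ker ((φ : A₀ ⊗[R₂] B →ₐ[A₀] F).toRingHom)).FG ∧
      IsUnit (Coalgebra.counit (R := A₀) s) ∧ (∀ x, φ x = 0 → s * x = 0) ∧
      Module.FaithfullyFlat A₀ T ∧ Nonempty (Split A₀ F (Additive M) T) ∧
      ∃ e : A₀ ⊗[R₂] B, IsIdempotentElem e ∧ (∀ x, φ x = 0 ↔ x ∈ Ideal.span {e}) ∧
        e ∈ (RingHom.ker ψ.toRingHom).map (algebraMap A₀ (A₀ ⊗[R₂] B)) :=
  exists_completion_model_of_flatAt E fun A₀ _ _ Q _ _ => Module.Flat.trans A₀ (A₀ ⊗[R₂] B) _

end Groth.Agent.HomLift
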