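import Groth.Agent.FlatLib.OpenFP
import Groth.Agent.SweepSix.FlatCancel
import Groth.Agent.HomLiftLib.GeomConn
import Mathlib.RingTheory.Spectrum.Prime.Jacobson
import Mathlib.RingTheory.HopfAlgebra.Convolution
import Mathlib.RingTheory.HopfAlgebra.TensorProduct

set_option autoImplicit false

/-!
A group with connected fibres which is flat along the unit section is flat.
-/

noncomputable section

universe u

open scoped TensorProduct
open WithConv

namespace Groth.Agent.HomLift

variable {R : Type u} [CommRing R] {C : Type u} [CommRing C] [HopfAlgebra R C]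

/-- The prime below a point with values in a field. -/
def pointPrime {L : Type u} [Field L] [Algebra R L] (x : WithConv (C →ₐ[R] L)) : PrimeSpectrum C :=
  ⟨RingHom.ker x.ofConv.toRingHom, RingHom.ker_isPrime _⟩

theorem mem_flatLocus_iff (q : PrimeSpectrum C) :
    q ∈ FlatLib.flatLocus R C C ↔ Module.Flat R (Localization.AtPrime q.asIdeal) := by
  let e : LocalizedModule q.asIdeal.primeCompl C ≃ₗ[C] Localization.AtPrime q.asIdeal :=
    IsLocalizedModule.iso q.asIdeal.primeCompl (Algebra.linearMap C (Localization.AtPrime q.asIdeal))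
  exact ⟨fun h => @Module.Flat.of_linearEquiv _ _ _ _ _ _ _ _ h (e.restrictScalars R).symm,
    fun h => @Module.Flat.of_linearEquiv _ _ _ _ _ _ _ _ h (e.restrictScalars R)⟩

/-- Flatness descends along a flat local homomorphism. -/
theorem flat_of_localHom {R A B : Type u} [CommRing R] [CommRing A] [CommRing B] [Algebra R A]
    [Algebra R B] [IsLocalRing A] [IsLocalRing B] (g : A →+* B) [IsLocalHom g] (hg : g.Flat)
    (hc : ∀ t, g (algebraMap R A t) = algebraMap R B t) (hB : Module.Flat R B) : Module.Flat R A := by
  letI : Algebra A B := g.toAlgebra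
  haveI : Module.Flat A B := hg
  haveI : IsLocalHom (algebraMap A B) := ‹IsLocalHom g›
  haveI : Module.FaithfullyFlat A B := Module.FaithfullyFlat.of_flat_of_isLocalHom
  haveI : IsScalarTower R A B := IsScalarTower.of_algebraMap_eq fun t => (hc t).symm
  exact SweepSix.flat_of_faithfullyFlat (B := A) (C := B)

/-- The flat locus is stable under multiplication of points. -/
theorem flat_mul {L : Type u} [Field L] [Algebra R L] (x y : WithConv (C →ₐ[R] L))
    (hx : Module.Flat R (Localization.AtPrime (pointPrime x).asIdeal))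
    (hy : Module.Flat R (Localization.AtPrime (pointPrime y).asIdeal)) :
    Module.Flat R (Localization.AtPrime (pointPrime (x * y)).asIdeal) := by
  let U := Localization.AtPrime (pointPrime x).asIdeal
  let V := Localization.AtPrime (pointPrime y).asIdeal
  let iU : C →ₐ[R] U := IsScalarTower.toAlgHom R C U
  let iV : C →ₐ[R] V := IsScalarTower.toAlgHom R C V
  let xU : U →ₐ[R] L := IsLocalization.liftAlgHom (M := (pointPrime x).asIdeal.primeCompl) (f := x.ofConv)
    fun s => isUnit_iff_ne_zero.2 fun h => s.2 h
  let yV : V →ₐ[R] L := IsLocalization.liftAlgHom (M := (pointPrime y).asIdeal.primeCompl) (f := y.ofConv)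
    fun s => isUnit_iff_ne_zero.2 fun h => s.2 h
  have hxU : ∀ c, xU (iU c) = x.ofConv c := fun c => by simp [xU, iU]
  have hyV : ∀ c, yV (iV c) = y.ofConv c := fun c => by simp [yV, iV]
  -- the multiplication is flat
  let iL : U →ₐ[R] U ⊗[R] C := Algebra.TensorProduct.includeLeft
  let a : WithConv (C →ₐ[R] U ⊗[R] C) := toConv (iL.comp iU)
  let r : WithConv (C →ₐ[R] U ⊗[R] C) := toConv Algebra.TensorProduct.includeRight
  let ai : WithConv (C →ₐ[R] U ⊗[R] C) := toConv ((iL.comp iU).comp (HopfAlgebra.antipodeAlgHom R C))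
  let push : WithConv (C →ₐ[R] C) →* WithConv (C →ₐ[R] U ⊗[R] C) :=
    { toFun := fun w => toConv ((iL.comp iU).comp w.ofConv)
      map_one' := by
        apply WithConv.ofConv_injective
        apply AlgHom.ext
        intro c
        simp [AlgHom.convOne_def, iL, iU, ← IsScalarTower.algebraMap_apply]
      map_mul' := fun w w' => by rw [AlgHom.comp_convMul_distrib] }
  have hainv : ai * a = 1 ∧ a * ai = 1 := by
    have e1 := congrArg push (inv_mul_cancel (toConv (AlgHom.id R C)))
    have e2 := congrArg push (mul_inv_cancel (toConv (AlgHom.id R C)))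
    rw [map_mul, map_one] at e1 e2
    exact ⟨e1, e2⟩
  let σ : WithConv (C →ₐ[R] U ⊗[R] C) → (U ⊗[R] C →ₐ[U] U ⊗[R] C) := fun w =>
    Algebra.TensorProduct.lift (Algebra.ofId U _) w.ofConv fun _ _ => Commute.all _ _
  have hσ : ∀ w z, toConv (((σ w).restrictScalars R).comp (z : WithConv (C →ₐ[R] U ⊗[R] C)).ofConv) = z →
      toConv (((σ w).restrictScalars R).comp (z * r).ofConv) = z * w := fun w z hz => by
    rw [AlgHom.comp_convMul_distrib, toConv_ofConv]
    congr 1
    apply WithConv.ofConv_injective
    apply AlgHom.ext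
    intro c
    simp [σ, r]
  have hfix : ∀ w, toConv (((σ w).restrictScalars R).comp a.ofConv) = a := fun w => by
    apply WithConv.ofConv_injective
    apply AlgHom.ext
    intro c
    simp [σ, a, iL]
    rfl
  have hfix' : ∀ w, toConv (((σ w).restrictScalars R).comp ai.ofConv) = ai := fun w => by
    apply WithConv.ofConv_injective
    apply AlgHom.ext
    intro c
    show σ w (a.ofConv (HopfAlgebra.antipode R c)) = a.ofConv (HopfAlgebra.antipode R c)
    simp [σ, a, iL]
    rfl
  have hcomp : ∀ w w', (∀ c : C, σ w' (w.ofConv c) = (1 : U) ⊗ₜ c) → ∀ z, σ w' (σ w z) = z := by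
    intro w w' h z
    induction z using TensorProduct.induction_on with
    | zero => simp
    | add p q hp hq => simp only [map_add, hp, hq]
    | tmul u c =>
      rw [show u ⊗ₜ[R] c = u • ((1 : U) ⊗ₜ[R] c) by rw [TensorProduct.smul_tmul', smul_eq_mul, mul_one],
        map_smul, map_smul]
      congr 1
      simp only [σ, Algebra.TensorProduct.lift_tmul, map_one, one_mul]
      exact h c
  have h1 : ∀ z, σ (ai * r) (σ (a * r) z) = z := hcomp _ _ fun c => by
    have := congrArg (fun w => w.ofConv c) (hσ (ai * r) a (hfix _))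
    exact this.trans (congrArg (fun w => w.ofConv c) ((mul_assoc a ai r).symm.trans ((congrArg (· * r) hainv.2).trans (one_mul r))))
  have h2 : ∀ z, σ (a * r) (σ (ai * r) z) = z := hcomp _ _ fun c => by
    have := congrArg (fun w => w.ofConv c) (hσ (a * r) ai (hfix' _))
    exact this.trans (congrArg (fun w => w.ofConv c) ((mul_assoc ai a r).symm.trans ((congrArg (· * r) hainv.1).trans (one_mul r))))
  have hσflat : (σ (a * r)).toRingHom.Flat :=
    RingHom.Flat.of_bijective (Function.bijective_iff_has_inverse.2 ⟨σ (ai * r), h1, h2⟩)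
  let incl : C →ₐ[R] U ⊗[R] C :=
    (Algebra.TensorProduct.map (Algebra.ofId R U) (AlgHom.id R C)).comp (Algebra.TensorProduct.lid R C).symm.toAlgHom
  have hincl : incl.toRingHom.Flat := by
    refine RingHom.Flat.comp (RingHom.Flat.of_bijective (Algebra.TensorProduct.lid R C).symm.bijective) ?_
    exact RingHom.Flat.tensorProductMap (RingHom.flat_algebraMap_iff.2 hx) (RingHom.Flat.id C)
  let W₀ := U ⊗[R] V
  let m : C →ₐ[R] W₀ := (Algebra.TensorProduct.map iU iV).comp (Bialgebra.comulAlgHom R C)
  have hiV : iV.toRingHom.Flat := RingHom.flat_algebraMap_iff.2 (IsLocalization.flat V (pointPrime y).asIdeal.primeCompl)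
  have hm : m.toRingHom.Flat := by
    have e : m.toRingHom = ((Algebra.TensorProduct.lTensor (S := U) U iV).toRingHom.comp (σ (a * r)).toRingHom).comp
        incl.toRingHom := by
      refine RingHom.ext fun c => ?_
      show Algebra.TensorProduct.map iU iV (Coalgebra.comul (R := R) c) =
        Algebra.TensorProduct.lTensor (S := U) U iV (σ (a * r) (incl c))
      rw [show incl c = (1 : U) ⊗ₜ[R] c by simp [incl]]
      simp only [σ, Algebra.TensorProduct.lift_tmul, map_one, one_mul]
      rw [AlgHom.convMul_apply]
      generalize Coalgebra.comul (R := R) c = z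
      induction z using TensorProduct.induction_on with
      | zero => simp
      | add p q hp hq => simp only [map_add, hp, hq]
      | tmul p q => simp [a, r, iL]
    rw [e]
    exact hincl.comp (hσflat.comp (RingHom.Flat.lTensor _ hiV))
  -- localize at the point
  let l : W₀ →ₐ[R] L := Algebra.TensorProduct.lift xU yV fun _ _ => Commute.all _ _
  let P := RingHom.ker l.toRingHom
  haveI : P.IsPrime := RingHom.ker_isPrime _
  have hP : P.comap m.toRingHom = (pointPrime (x * y)).asIdeal := by
    ext c
    show l (Algebra.TensorProduct.map iU iV (Coalgebra.comul (R := R) c)) = 0 ↔ (x * y).ofConv c = 0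
    rw [AlgHom.convMul_apply]
    generalize Coalgebra.comul (R := R) c = z
    refine Iff.of_eq (congrArg (· = 0) ?_)
    induction z using TensorProduct.induction_on with
    | zero => simp
    | add p q hp hq => simp only [map_add, hp, hq]
    | tmul p q => rw [Algebra.TensorProduct.map_tmul, Algebra.TensorProduct.lift_tmul, hxU, hyV]; simp
  let W := Localization.AtPrime P
  let Q := (pointPrime (x * y)).asIdeal
  haveI : Q.IsPrime := (pointPrime (x * y)).isPrime
  let g : Localization.AtPrime Q →+* W := Localization.localRingHom Q P m.toRingHom hP.symm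
  haveI : IsLocalHom g := Localization.isLocalHom_localRingHom Q P _ hP.symm
  haveI : Module.Flat R U := hx
  haveI : Module.Flat R V := hy
  haveI : Module.Flat R W₀ := inferInstance
  haveI : Module.Flat W₀ W := IsLocalization.flat W P.primeCompl
  refine flat_of_localHom (A := Localization.AtPrime Q) (B := W) g (RingHom.Flat.localRingHom hm P Q hP.symm)
    (fun t => ?_) (by exact Module.Flat.trans R W₀ W)
  rw [IsScalarTower.algebraMap_apply R C (Localization.AtPrime Q)]
  show g (algebraMap C _ (algebraMap R C t)) = _
  rw [Localization.localRingHom_to_map]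
  show algebraMap W₀ W (m (algebraMap R C t)) = _
  rw [AlgHom.commutes, ← IsScalarTower.algebraMap_apply R W₀ W]

/-- Flatness along the unit section and connected fibres give flatness. -/
theorem flat_of_fibres_connected [Algebra.FinitePresentation R C]
    (he : ∀ (p : Ideal R) [p.IsPrime],
      Module.Flat R (Localization.AtPrime (p.comap (Bialgebra.counitAlgHom R C).toRingHom)))
    (hconn : ∀ (p : Ideal R) [p.IsPrime], ConnectedSpace (PrimeSpectrum (p.ResidueField ⊗[R] C))) :
    Module.Flat R C := by
  have key : ∀ q : PrimeSpectrum C, q ∈ FlatLib.flatLocus R C C := by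
    intro q
    let p := q.asIdeal.comap (algebraMap R C)
    haveI := hconn p
    let L := AlgebraicClosure p.ResidueField
    haveI hc0 := connectedSpace_tensor (k := p.ResidueField) (H := p.ResidueField ⊗[R] C) L
    let eC : L ⊗[p.ResidueField] (p.ResidueField ⊗[R] C) ≃ₐ[L] L ⊗[R] C :=
      Algebra.TensorProduct.cancelBaseChange R p.ResidueField L L C
    let H := L ⊗[R] C
    haveI : ConnectedSpace (PrimeSpectrum H) :=
      Function.Surjective.connectedSpace (f := PrimeSpectrum.comap eC.symm.toRingEquiv.toRingHom)
        (fun P => ⟨PrimeSpectrum.comap eC.toRingEquiv.toRingHom P, by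
          rw [← PrimeSpectrum.comap_comp_apply,
            show eC.toRingEquiv.toRingHom.comp eC.symm.toRingEquiv.toRingHom = RingHom.id _ from
              RingHom.ext fun z => eC.apply_symm_apply z]
          rfl⟩) (PrimeSpectrum.continuous_comap _)
    haveI : Algebra.FiniteType L H := Algebra.FiniteType.baseChange (A := C) L
    haveI : IsJacobsonRing H := isJacobsonRing_of_finiteType (A := L) (B := H)
    let iC : C →ₐ[R] H := Algebra.TensorProduct.includeRight
    let U : Set (PrimeSpectrum H) := PrimeSpectrum.comap iC.toRingHom ⁻¹' FlatLib.flatLocus R C C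
    have hU : IsOpen U := FlatLib.isOpen_flatLocus_fp.preimage (PrimeSpectrum.continuous_comap _)
    let res : WithConv (H →ₐ[L] L) →* WithConv (C →ₐ[R] L) :=
      { toFun := fun z => toConv ((z.ofConv.restrictScalars R).comp iC)
        map_one' := by
          apply WithConv.ofConv_injective
          apply AlgHom.ext
          intro c
          show (1 : WithConv (H →ₐ[L] L)).ofConv ((1 : L) ⊗ₜ[R] c) = _
          simp [AlgHom.convOne_def]
          exact (TensorProduct.counit_tmul (S := L) (1 : L) c).trans (by simp [Algebra.smul_def])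
        map_mul' := fun z z' => by
          apply WithConv.ofConv_injective
          apply AlgHom.ext
          intro c
          show (z * z').ofConv (1 ⊗ₜ c) = _
          rw [AlgHom.convMul_apply, AlgHom.convMul_apply, TensorProduct.comul_tmul, CommSemiring.comul_apply]
          generalize Coalgebra.comul (R := R) c = w
          induction w using TensorProduct.induction_on with
          | zero => simp
          | add a b ha hb => simp only [TensorProduct.tmul_add, map_add, ha, hb]
          | tmul a b => simp [iC]; rfl }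
    let pt : WithConv (H →ₐ[L] L) → PrimeSpectrum H := fun z =>
      ⟨RingHom.ker z.ofConv.toRingHom, RingHom.ker_isPrime _⟩
    have hmem : ∀ z, pt z ∈ U ↔
        Module.Flat R (Localization.AtPrime (pointPrime (res z)).asIdeal) := fun z =>
      mem_flatLocus_iff (R := R) (pointPrime (res z))
    have hclosed : ∀ P ∈ closedPoints (PrimeSpectrum H), ∃ z, pt z = P := by
      intro P hP
      haveI hM : P.asIdeal.IsMaximal := (PrimeSpectrum.isClosed_singleton_iff_isMaximal P).1 hP
      letI := Ideal.Quotient.field P.asIdeal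
      haveI : Module.Finite L (H ⧸ P.asIdeal) := finite_of_finite_type_of_isJacobsonRing L (H ⧸ P.asIdeal)
      let i : H ⧸ P.asIdeal →ₐ[L] L := IsAlgClosed.lift
      refine ⟨toConv (i.comp (Ideal.Quotient.mkₐ L P.asIdeal)), PrimeSpectrum.ext (Ideal.ext fun h => ?_)⟩
      show i (Ideal.Quotient.mk P.asIdeal h) = 0 ↔ h ∈ P.asIdeal
      rw [map_eq_zero_iff i i.toRingHom.injective, Ideal.Quotient.eq_zero_iff_mem]
    have hone : pt 1 ∈ U := by
      rw [hmem, map_one]
      let p' := RingHom.ker (algebraMap R L)
      haveI : p'.IsPrime := RingHom.ker_isPrime _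
      have h := he p'
      convert! h using 3
    have hUc : IsClosed U := by
      rw [← closure_subset_iff_isClosed]
      by_contra hne
      obtain ⟨P, ⟨hP₁, hP₂⟩, hP₃⟩ := nonempty_inter_closedPoints (Z := closure U \ U)
        (Set.diff_nonempty.2 hne) (isClosed_closure.isLocallyClosed.inter hU.isClosed_compl.isLocallyClosed)
      obtain ⟨g, rfl⟩ := hclosed P hP₃
      -- translate the neighbourhood of the unit
      let ρ : H →ₐ[L] H :=
        ((toConv (AlgHom.id L H))⁻¹ * toConv ((Algebra.ofId L H).comp g.ofConv)).ofConv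
      have hρ : ∀ z : WithConv (H →ₐ[L] L), toConv (z.ofConv.comp ρ) = z⁻¹ * g := fun z => by
        rw [AlgHom.comp_convMul_distrib, toConv_ofConv, ofConv_toConv,
          show z.ofConv.comp ((Algebra.ofId L H).comp g.ofConv) = g.ofConv from AlgHom.ext fun h => by simp]
        rfl
      have hV : IsOpen (PrimeSpectrum.comap ρ.toRingHom ⁻¹' U) := hU.preimage (PrimeSpectrum.continuous_comap _)
      have hpt : ∀ z, PrimeSpectrum.comap ρ.toRingHom (pt z) = pt (z⁻¹ * g) := fun z => by
        rw [← hρ]
        rfl
      have hgV : pt g ∈ PrimeSpectrum.comap ρ.toRingHom ⁻¹' U := by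
        rw [Set.mem_preimage, hpt, inv_mul_cancel]
        exact hone
      obtain ⟨P', hP'⟩ := (mem_closure_iff.1 hP₁) _ hV hgV
      obtain ⟨P'', ⟨hP''₁, hP''₂⟩, hP''₃⟩ := nonempty_inter_closedPoints (X := PrimeSpectrum H)
        ⟨P', hP'⟩ ((hV.inter hU).isLocallyClosed)
      obtain ⟨z, rfl⟩ := hclosed P'' hP''₃
      rw [Set.mem_preimage, hpt] at hP''₁
      apply hP₂
      have h := flat_mul _ _ ((hmem z).1 hP''₂) ((hmem _).1 hP''₁)
      rw [← map_mul, mul_inv_cancel_left] at h
      exact (hmem g).2 h
    have huniv : U = Set.univ := (isClopen_iff.1 ⟨hUc, hU⟩).resolve_left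
      (Set.nonempty_iff_ne_empty.1 ⟨_, hone⟩)
    -- a point over the given prime
    let κ := q.asIdeal.ResidueField
    let ι : p.ResidueField →ₐ[R] κ := Ideal.ResidueField.mapₐ p q.asIdeal (Algebra.ofId R C) rfl
    letI : Algebra p.ResidueField κ := ι.toRingHom.toAlgebra
    haveI : IsScalarTower R p.ResidueField κ := IsScalarTower.of_algebraMap_eq fun t => (ι.commutes t).symm
    haveI : Nontrivial (L ⊗[p.ResidueField] κ) := Module.FaithfullyFlat.rTensor_nontrivial p.ResidueField κ L
    obtain ⟨m, hm⟩ := Ideal.exists_maximal (L ⊗[p.ResidueField] κ)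
    letI := Ideal.Quotient.field m
    let fL : L →ₐ[R] (L ⊗[p.ResidueField] κ) ⧸ m := (Ideal.Quotient.mkₐ R m).comp
      ((Algebra.TensorProduct.includeLeft : L →ₐ[p.ResidueField] _).restrictScalars R)
    let fκ : κ →ₐ[R] (L ⊗[p.ResidueField] κ) ⧸ m := (Ideal.Quotient.mkₐ R m).comp
      ((Algebra.TensorProduct.includeRight : κ →ₐ[p.ResidueField] _).restrictScalars R)
    let h : H →ₐ[R] (L ⊗[p.ResidueField] κ) ⧸ m :=
      Algebra.TensorProduct.lift fL (fκ.comp (IsScalarTower.toAlgHom R C κ)) fun _ _ => Commute.all _ _
    have hin : (⟨RingHom.ker h.toRingHom, RingHom.ker_isPrime _⟩ : PrimeSpectrum H) ∈ U := huniv ▸ Set.mem_univ _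
    convert! (show PrimeSpectrum.comap iC.toRingHom _ ∈ FlatLib.flatLocus R C C from hin) using 1
    apply PrimeSpectrum.ext
    ext c
    show c ∈ q.asIdeal ↔ h ((1 : L) ⊗ₜ[R] c) = 0
    rw [Algebra.TensorProduct.lift_tmul, map_one, one_mul, AlgHom.comp_apply,
      map_eq_zero_iff fκ fκ.toRingHom.injective]
    exact (Ideal.algebraMap_residueField_eq_zero).symm
  exact Module.flat_of_isLocalized_maximal (R := R) C C _ (fun _ _ => LocalizedModule.mkLinearMap _ _)
    fun J hJ => (key ⟨J, hJ.isPrime⟩)

end Groth.Agent.HomLift
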