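import Mathlib.RingTheory.Flat.Tensor
import Mathlib.RingTheory.LocalProperties.Submodule
import Mathlib.RingTheory.Localization.AtPrime.Basic
import Mathlib.RingTheory.Localization.BaseChange
import Mathlib.RingTheory.Flat.Basic

set_option autoImplicit false

/-!
Reductions of algebras flat along a closed subscheme.
-/

noncomputable section

universe u

open scoped TensorProduct

namespace Groth.Agent.HomLift

variable {A : Type u} [CommRing A] {C : Type u} [CommRing C] [Algebra A C] {I J : Ideal A}

/-- The reduction modulo an ideal with the radical bound is flat. -/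
theorem flat_quotient (hJ : ∃ n, I ^ n ≤ J)
    (hfl : ∀ (q : Ideal C) [q.IsPrime], Ideal.map (algebraMap A C) I ≤ q → Module.Flat A (Localization.AtPrime q)) :
    Module.Flat (A ⧸ J) ((A ⧸ J) ⊗[A] C) := by
  classical
  rw [Module.Flat.iff_rTensor_injective']
  intro K
  let f : C ⊗[A] K →ₗ[C] C ⊗[A] (A ⧸ J) :=
    TensorProduct.AlgebraTensorModule.lTensor C C (K.subtype.restrictScalars A)
  have hf : Function.Injective f := by
    rw [injective_iff_map_eq_zero]
    intro x hx
    refine Module.eq_of_localization_maximal
      (fun (P : Ideal C) (_ : P.IsMaximal) => Localization.AtPrime P ⊗[A] K)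
      (fun (P : Ideal C) (_ : P.IsMaximal) =>
        TensorProduct.AlgebraTensorModule.rTensor A K (Algebra.linearMap C (Localization.AtPrime P))) x 0 ?_
    intro P hP
    rw [map_zero]
    let L := Localization.AtPrime P
    by_cases hIP : I.map (algebraMap A C) ≤ P
    · haveI : Module.Flat A L := hfl P hIP
      apply Module.Flat.lTensor_preserves_injective_linearMap (M := L) (K.subtype.restrictScalars A)
        Subtype.val_injective
      rw [map_zero]
      have e : ∀ y : C ⊗[A] K, (K.subtype.restrictScalars A).lTensor L
          (TensorProduct.AlgebraTensorModule.rTensor A K (Algebra.linearMap C L) y) =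
            TensorProduct.AlgebraTensorModule.rTensor A (A ⧸ J) (Algebra.linearMap C L) (f y) := fun y => by
        induction y using TensorProduct.induction_on with
        | zero => simp
        | add p q hp hq => simp only [map_add, hp, hq]
        | tmul c k => simp [f]
      rw [e, hx, map_zero]
    · obtain ⟨n, hn⟩ := hJ
      have hJP : ¬ J.map (algebraMap A C) ≤ P := fun h => hIP (hP.isPrime.le_of_pow_le (n := n)
        (by rw [← Ideal.map_pow]; exact (Ideal.map_mono hn).trans h))
      obtain ⟨s, hs, hsP⟩ : ∃ a ∈ J, algebraMap A C a ∉ P := by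
        by_contra hne
        push Not at hne
        exact hJP (Ideal.map_le_iff_le_comap.2 fun a ha => hne a ha)
      suffices h : ∀ y : L ⊗[A] K, y = 0 from h _
      intro y
      induction y using TensorProduct.induction_on with
      | zero => rfl
      | add p q hp hq => rw [hp, hq, add_zero]
      | tmul l k =>
        obtain ⟨v, hv⟩ := (IsLocalization.map_units L (M := P.primeCompl) ⟨algebraMap A C s, hsP⟩)
        have e : l = s • (↑v⁻¹ * l) := by
          rw [Algebra.smul_def, IsScalarTower.algebraMap_apply A C L, ← hv, ← mul_assoc, Units.mul_inv, one_mul]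
        have h0 : s • k = 0 := Subtype.ext (by
          show s • (k : A ⧸ J) = 0
          rw [Algebra.smul_def]
          show Ideal.Quotient.mk J s * _ = 0
          rw [Ideal.Quotient.eq_zero_iff_mem.2 hs, zero_mul])
        rw [e, TensorProduct.smul_tmul, h0, TensorProduct.tmul_zero]
  let α : K ⊗[A ⧸ J] ((A ⧸ J) ⊗[A] C) ≃ₗ[A] C ⊗[A] K :=
    (((TensorProduct.AlgebraTensorModule.cancelBaseChange A (A ⧸ J) (A ⧸ J) K C).restrictScalars A).trans (TensorProduct.comm A K C))
  let β : (A ⧸ J) ⊗[A ⧸ J] ((A ⧸ J) ⊗[A] C) ≃ₗ[A] C ⊗[A] (A ⧸ J) :=
    (((TensorProduct.AlgebraTensorModule.cancelBaseChange A (A ⧸ J) (A ⧸ J) (A ⧸ J) C).restrictScalars A).trans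
      (TensorProduct.comm A (A ⧸ J) C))
  have e : ∀ z, β (K.subtype.rTensor _ z) = f (α z) := fun z => by
    induction z using TensorProduct.induction_on with
    | zero => simp
    | add p q hp hq => simp only [map_add, hp, hq]
    | tmul k z =>
      induction z using TensorProduct.induction_on with
      | zero => simp
      | add p q hp hq => simp only [TensorProduct.tmul_add, map_add, hp, hq]
      | tmul r c => simp [α, β, f]
  intro a b h
  exact α.injective (hf (by rw [← e, ← e, h]))

end Groth.Agent.HomLift
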