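import Groth.Agent.HomLiftLib.Nil
import Groth.Agent.HomLiftLib.FlatMod
import Groth.Agent.FlatLiftLib.Main

set_option autoImplicit false

/-!
The infinitesimal neighbourhoods of a quasi-isotrivial reduction.
-/

noncomputable section

universe u

open scoped TensorProduct
open Groth.Agent.TorusField Groth.Agent.DiagHopf

namespace Groth.Agent.HomLift

variable {A : Type u} [CommRing A] {I J : Ideal A} {C : Type u} [CommRing C] [HopfAlgebra A C]

theorem hasSplits_of_isotrivial (h : SGA3b.IsIsotrivial A C) (J : Ideal A) :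
    HasSplits (A ⧸ J) ((A ⧸ J) ⊗[A] C) := by
  obtain ⟨T, _, _, het, hfin, hff, N, _, ⟨e⟩⟩ := h
  haveI := hff
  obtain ⟨E⟩ := exists_split_of_bialgEquiv e
  obtain ⟨E', -⟩ := exists_split_push E (Algebra.TensorProduct.includeRight : T →ₐ[A] (A ⧸ J) ⊗[A] T)
  obtain ⟨E''⟩ := exists_split_transfer' (R' := A ⧸ J) E'
  refine ⟨PUnit.{u + 1}, inferInstance, fun _ => (A ⧸ J) ⊗[A] T, fun _ => inferInstance, fun _ => inferInstance,
    fun _ => N, fun _ => inferInstance, ?_, fun _ => ⟨E''⟩⟩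
  exact Module.FaithfullyFlat.of_linearEquiv _ _
    (LinearEquiv.funUnique PUnit.{u + 1} (A ⧸ J) ((A ⧸ J) ⊗[A] T))

theorem hasSplits_level (hJI : J ≤ I) (hpow : ∃ n, I ^ n ≤ J)
    (hfl : ∀ (q : Ideal C) [q.IsPrime], Ideal.map (algebraMap A C) I ≤ q → Module.Flat A (Localization.AtPrime q))
    (h0 : SGA3b.IsQuasiIsotrivial (A ⧸ I) ((A ⧸ I) ⊗[A] C)) :
    HasSplits (A ⧸ J) ((A ⧸ J) ⊗[A] C) := by
  classical
  obtain ⟨s₀, hs₀, H⟩ := h0
  obtain ⟨t, hts, ht⟩ := (Ideal.span_eq_top_iff_finite _).1 hs₀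
  haveI : Module.Flat (A ⧸ J) ((A ⧸ J) ⊗[A] C) := flat_quotient hpow hfl
  let In : Ideal (A ⧸ J) := I.map (Ideal.Quotient.mk J)
  have hIn : IsNilpotent In := by
    obtain ⟨n, hn⟩ := hpow
    refine ⟨n, ?_⟩
    rw [← Ideal.map_pow, Ideal.zero_eq_bot, Ideal.map_eq_bot_iff_le_ker, Ideal.mk_ker]
    exact hn
  have key : ∀ f : (t : Set (A ⧸ I)), ∃ (U : Type u) (_ : CommRing U) (_ : Algebra (A ⧸ J) U) (N : Type u)
      (_ : CommGroup N), Module.Flat (A ⧸ J) U ∧ Nonempty (Split (A ⧸ J) ((A ⧸ J) ⊗[A] C) (Additive N) U) ∧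
        ∀ m : Ideal (A ⧸ J), m.IsMaximal →
          (∃ a : A, Ideal.Quotient.mk I a = f.1 ∧ Ideal.Quotient.mk J a ∉ m) →
          m • (⊤ : Submodule (A ⧸ J) U) ≠ ⊤ := by
    intro f
    obtain ⟨S, _, _, hetS, hffS, N, _, ⟨e⟩⟩ := H f.1 (hts f.2)
    haveI := hetS; haveI := hffS
    let R₀ := Localization.Away f.1
    haveI : Algebra.Etale (A ⧸ I) R₀ := Algebra.Etale.of_isLocalizationAway f.1
    letI : Algebra (A ⧸ I) S := ((algebraMap R₀ S).comp (algebraMap (A ⧸ I) R₀)).toAlgebra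
    haveI : IsScalarTower (A ⧸ I) R₀ S := IsScalarTower.of_algebraMap_eq fun _ => rfl
    haveI : Algebra.Etale (A ⧸ I) S := Algebra.Etale.comp (A ⧸ I) R₀ S
    letI : Algebra A S := ((algebraMap (A ⧸ I) S).comp (Ideal.Quotient.mk I)).toAlgebra
    haveI : IsScalarTower A (A ⧸ I) S := IsScalarTower.of_algebraMap_eq fun _ => rfl
    obtain ⟨T, _, _, hetT, φ, hφ, hker⟩ := HenselLib.exists_etale_lift (A := A) I S
    haveI := hetT
    obtain ⟨E₀⟩ := exists_split_of_bialgEquiv e
    obtain ⟨E₁⟩ := exists_split_transfer E₀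
    obtain ⟨E₂⟩ := exists_split_transfer E₁
    let g : A ⧸ J →ₐ[A] S :=
      ((Algebra.ofId (A ⧸ I) S).restrictScalars A).comp (Ideal.Quotient.factorₐ A hJI)
    let U := (A ⧸ J) ⊗[A] T
    let ψ : U →ₐ[A] S := Algebra.TensorProduct.lift g φ fun _ _ => Commute.all _ _
    letI : Algebra (A ⧸ J) S := g.toRingHom.toAlgebra
    haveI : IsScalarTower A (A ⧸ J) S := IsScalarTower.of_algebraMap_eq fun x => (g.commutes x).symm
    let ψ' : U →ₐ[A ⧸ J] S := Algebra.TensorProduct.lift (Algebra.ofId (A ⧸ J) S) φ fun _ _ => Commute.all _ _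
    have hψy : ∀ y, ψ' (1 ⊗ₜ y) = φ y := fun y =>
      (Algebra.TensorProduct.lift_tmul _ _ _ _ _).trans (by rw [map_one, one_mul])
    have hψ : Function.Surjective ψ' := fun x => by
      obtain ⟨y, rfl⟩ := hφ x
      exact ⟨1 ⊗ₜ y, hψy y⟩
    have hkerψ : RingHom.ker ψ' = In.map (algebraMap (A ⧸ J) U) := by
      refine le_antisymm (fun z hz => ?_) (Ideal.map_le_iff_le_comap.2 fun z hz => ?_)
      · obtain ⟨y, rfl⟩ := Algebra.TensorProduct.includeRight_surjective T Ideal.Quotient.mk_surjective z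
        have hy : y ∈ I.map (algebraMap A T) := by
          rw [← hker]
          exact (hψy y).symm.trans hz
        have h := Ideal.mem_map_of_mem (Algebra.TensorProduct.includeRight : T →ₐ[A] U) hy
        rw [show Ideal.map (Algebra.TensorProduct.includeRight : T →ₐ[A] U) (I.map (algebraMap A T)) =
          In.map (algebraMap (A ⧸ J) U) from by
            rw [show In = I.map (Ideal.Quotient.mk J) from rfl, Ideal.map_map]
            show Ideal.map (Algebra.TensorProduct.includeRight : T →ₐ[A] U).toRingHom (I.map (algebraMap A T)) = _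
            rw [Ideal.map_map]
            exact congrArg (fun r => Ideal.map r I) (RingHom.ext fun x =>
              (AlgHom.commutes (Algebra.TensorProduct.includeRight : T →ₐ[A] U) x).trans rfl)] at h
        exact h
      · obtain ⟨a, ha, rfl⟩ := (Ideal.mem_map_iff_of_surjective _ Ideal.Quotient.mk_surjective).1 hz
        show ψ' (algebraMap (A ⧸ J) U (Ideal.Quotient.mk J a)) = 0
        rw [AlgHom.commutes]
        show g (Ideal.Quotient.mk J a) = 0
        show algebraMap (A ⧸ I) S (Ideal.Quotient.mk I a) = 0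
        rw [Ideal.Quotient.eq_zero_iff_mem.2 ha, map_zero]
    obtain ⟨E₃⟩ := exists_split_transfer' (R' := A ⧸ J) E₂
    refine ⟨U, inferInstance, inferInstance, N, inferInstance, inferInstance,
      FlatLift.exists_split_lift hIn ψ' hψ hkerψ E₃, fun m hm ha htop => ?_⟩
    obtain ⟨a, haf, ham⟩ := ha
    have hIm : In ≤ m := by
      obtain ⟨n, hn⟩ := hIn
      exact hm.isPrime.le_of_pow_le (n := n) (by rw [hn, Ideal.zero_eq_bot]; exact bot_le)
    let π : A ⧸ J →+* A ⧸ I := Ideal.Quotient.factor hJI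
    have hπ : Function.Surjective π := Ideal.Quotient.factor_surjective hJI
    have hkπ : RingHom.ker π ≤ m := by
      rw [show RingHom.ker π = In from Ideal.Quotient.factor_ker hJI]
      exact hIm
    haveI hm₁ : (m.map π).IsMaximal := Ideal.IsMaximal.map_of_surjective_of_ker_le hπ hkπ
    have hfm : f.1 ∉ m.map π := fun hf => ham (by
      rw [← haf] at hf
      have h := Ideal.mem_comap.2 (show π (Ideal.Quotient.mk J a) ∈ m.map π from hf)
      rwa [Ideal.comap_map_of_surjective _ hπ, sup_eq_left.2 (by rw [← RingHom.ker_eq_comap_bot]; exact hkπ)] at h)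
    have hm₀ : (m.map π).map (algebraMap (A ⧸ I) R₀) ≠ ⊤ :=
      (IsLocalization.map_algebraMap_ne_top_iff_disjoint (Submonoid.powers f.1) R₀ _).2
        ((Ideal.disjoint_powers_iff_notMem_of_isPrime f.1).2 hfm)
    obtain ⟨M', hM', hle⟩ := Ideal.exists_le_maximal _ hm₀
    refine Module.FaithfullyFlat.submodule_ne_top (M := S) hM' ?_
    rw [Ideal.smul_top_eq_map, Submodule.restrictScalars_eq_top_iff] at htop ⊢
    rw [eq_top_iff]
    refine le_trans (le_of_eq ?_) (Ideal.map_mono hle)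
    rw [← Ideal.map_top ψ'.toRingHom, ← htop, Ideal.map_map, Ideal.map_map, Ideal.map_map]
    exact congrArg (fun r => m.map r) (RingHom.ext fun x => ψ'.commutes x)
  choose U i1 i2 N i3 hflat hE hmax using key
  refine ⟨(t : Set (A ⧸ I)), inferInstance, U, i1, i2, N, i3, @faithfullyFlat_pi _ _ _ _ U i1 i2 hflat
    fun m hm => ?_, hE⟩
  have hIm : In ≤ m := by
    obtain ⟨n, hn⟩ := hIn
    exact hm.isPrime.le_of_pow_le (n := n) (by rw [hn, Ideal.zero_eq_bot]; exact bot_le)
  let π : A ⧸ J →+* A ⧸ I := Ideal.Quotient.factor hJI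
  have hπ : Function.Surjective π := Ideal.Quotient.factor_surjective hJI
  have hkπ : RingHom.ker π ≤ m := by
    rw [show RingHom.ker π = In from Ideal.Quotient.factor_ker hJI]
    exact hIm
  haveI hm₁ : (m.map π).IsMaximal := Ideal.IsMaximal.map_of_surjective_of_ker_le hπ hkπ
  obtain ⟨f, hft, hfm⟩ : ∃ f ∈ t, f ∉ m.map π := by
    by_contra hne
    push Not at hne
    exact hm₁.ne_top (top_le_iff.1 (ht ▸ Ideal.span_le.2 fun f hf => hne f hf))
  obtain ⟨a, rfl⟩ := Ideal.Quotient.mk_surjective f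
  exact ⟨⟨_, hft⟩, hmax ⟨_, hft⟩ m hm ⟨a, rfl, fun h => hfm (Ideal.mem_map_of_mem π h)⟩⟩

end Groth.Agent.HomLift
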