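import Groth.Agent.HomLiftLib.RespHom
import Groth.Agent.HomLiftLib.Levels
import Groth.Agent.AdicRingLib.AR
import Groth.Agent.DiagHopfLib.Coord

set_option autoImplicit false

/-!
Homomorphisms from an isotrivial group over a complete ring.
-/

noncomputable section

universe u

open scoped TensorProduct
open Groth.Agent.TorusField Groth.Agent.DiagHopf

namespace Groth.Agent.HomLift

variable {A : Type u} [CommRing A] {I : Ideal A}

theorem red_eq_zero {U : Type u} [CommRing U] [Algebra A U] {J : Ideal A} (x : U) :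
    HopfDesc.red J U x = 0 ↔ x ∈ J • (⊤ : Submodule A U) := by
  rw [Ideal.smul_top_eq_map, Submodule.restrictScalars_mem]
  exact HopfDesc.red_eq_zero_iff x

theorem eq_zero_of_forall_red [IsNoetherianRing A] [IsAdicComplete I A] {U : Type u} [CommRing U] [Algebra A U]
    [Module.Finite A U] (x : U) (h : ∀ n, HopfDesc.red (I ^ (n + 1)) U x = 0) : x = 0 := by
  haveI := (AdicRingLib.hasAR_of_isNoetherianRing I).isAdicComplete U
  refine IsHausdorff.haus (I := I) inferInstance x fun n => ?_
  rw [SModEq.zero]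
  exact Submodule.smul_mono (Ideal.pow_le_pow_right n.le_succ) le_rfl ((red_eq_zero x).1 (h n))

variable {B : Type u} [CommRing B] [HopfAlgebra A B] {N : Type u} [AddCommGroup N]

/-- The levels over an algebra are commutative rings. -/
instance instCommRingLevel (J : Ideal A) (U : Type u) [CommRing U] [Algebra A U] :
    CommRing (HopfDesc.B J U ⊗[A] B) :=
  Algebra.TensorProduct.instCommRing

theorem tensor_eq_zero_of_forall_red [IsNoetherianRing A] [IsAdicComplete I A] {U : Type u} [CommRing U] [Algebra A U]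
    [Module.Finite A U] (E : Split A B N U) (z : U ⊗[A] B)
    (h : ∀ n, push (HopfDesc.red (I ^ (n + 1)) U) z = 0) : z = 0 := by
  refine E.e.ext_elem fun m => ?_
  rw [map_zero, Finsupp.zero_apply]
  refine eq_zero_of_forall_red (I := I) _ fun n => ?_
  obtain ⟨E', hE'⟩ := exists_split_push E (HopfDesc.red (I ^ (n + 1)) U)
  rw [← repr_push E E' _ hE', h n, map_zero, Finsupp.zero_apply]

theorem coord_injective {S : Type u} [CommRing S] [Algebra A S] (E : Split A B N S) :
    Function.Injective (coord E) := by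
  intro x y h
  simp only [coord, LinearMap.comp_apply, LinearEquiv.coe_coe] at h
  exact (TensorProduct.AlgebraTensorModule.assoc A A S S B B).symm.injective
    ((TensorProduct.AlgebraTensorModule.cancelBaseChange A S S (S ⊗[A] B) B).symm.injective
      ((TensorProduct.congr E.e.repr E.e.repr).injective ((finsuppTensorFinsupp' S N N).injective h)))

theorem coord_pairMap {S : Type u} [CommRing S] [Algebra A S] (E : Split A B N S) {C : Type u} [CommRing C]
    [HopfAlgebra A C] (ψ : C →ₐ[A] S ⊗[A] B) (s : Finset (C × C)) (a b : N) :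
    coord E (pairMap ψ (∑ p ∈ s, p.1 ⊗ₜ p.2)) (a, b) = ∑ p ∈ s, E.e.repr (ψ p.1) a * E.e.repr (ψ p.2) b := by
  simp only [map_sum, pairMap_tmul, Finsupp.finsetSum_apply, coord_mul, finsuppTensorFinsupp'_apply_apply]

/-- Finite support from orthogonality. -/
theorem finite_support {T : Type u} [CommRing T] [IsNoetherianRing T] {ι : Type u} [DecidableEq ι]
    {κ : Type u} [Fintype κ] (t : ι → T) (a b : ι → κ → T)
    (h : ∀ m m', (if m = m' then t m else 0) = ∑ k, a m k * b m' k) : {m | t m ≠ 0}.Finite := by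
  classical
  obtain ⟨_, ⟨s, rfl⟩, hmax⟩ := set_has_maximal_iff_noetherian.2 inferInstance
    (Set.range fun s : Finset ι => Submodule.span T (b '' (s : Set ι))) ⟨_, ∅, rfl⟩
  refine s.finite_toSet.subset fun m hm => ?_
  by_contra hms
  refine hm ?_
  have hb : b m ∈ Submodule.span T (b '' (s : Set ι)) := by
    by_contra hne
    refine hmax _ ⟨insert m s, rfl⟩ (SetLike.lt_iff_le_and_exists.2
      ⟨Submodule.span_mono (Set.image_mono (by simp)), b m, Submodule.subset_span ⟨m, by simp, rfl⟩, hne⟩)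
  let ℓ : (κ → T) →ₗ[T] T := ∑ k, a m k • LinearMap.proj k
  have hℓ : ∀ v, ℓ v = ∑ k, a m k * v k := fun v => by simp [ℓ, LinearMap.sum_apply]
  have h0 : ∀ v ∈ Submodule.span T (b '' (s : Set ι)), ℓ v = 0 := by
    intro v hv
    induction hv using Submodule.span_induction with
    | mem w hw =>
      obtain ⟨m', hm', rfl⟩ := hw
      rw [hℓ, ← h, if_neg]
      rintro rfl
      exact hms hm'
    | zero => simp
    | add x y _ _ hx hy => rw [map_add, hx, hy, add_zero]
    | smul c x _ hx => rw [map_smul, hx, smul_zero]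
  have h1 := h0 _ hb
  rw [hℓ, ← h, if_pos rfl] at h1
  exact h1

variable {C : Type u} [CommRing C] [HopfAlgebra A C]

theorem respD_one_tmul (φ : C →ₐc[A] B) (S : Type u) [CommRing S] [Algebra A S] :
    RespD ((Algebra.TensorProduct.includeRight : B →ₐ[A] S ⊗[A] B).comp (φ : C →ₐ[A] B)) := by
  refine ⟨fun c => ?_, fun c => ?_⟩
  · show D A B S ((1 : S) ⊗ₜ φ c) = _
    rw [D, Algebra.TensorProduct.map_tmul, AlgHom.id_apply, Bialgebra.comulAlgHom_apply, Bialgebra.comulAlgHom_apply,
      ← CoalgHomClass.map_comp_comul_apply φ]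
    generalize CoalgebraStruct.comul (R := A) c = z
    induction z using TensorProduct.induction_on with
    | zero => simp
    | add p q hp hq => simp only [TensorProduct.tmul_add, map_add, hp, hq]
    | tmul p q => simp [pairMap_tmul, J₁, J₂, Algebra.TensorProduct.tmul_mul_tmul]
  · show ev1 A B S ((1 : S) ⊗ₜ φ c) = _
    simp [ev1, CoalgHomClass.counit_comp_apply]

theorem push_includeRight (φ : C →ₐ[A] B) {S S' : Type u} [CommRing S] [Algebra A S] [CommRing S'] [Algebra A S']
    (f : S →ₐ[A] S') : (push f).comp ((Algebra.TensorProduct.includeRight : B →ₐ[A] S ⊗[A] B).comp φ) =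
      (Algebra.TensorProduct.includeRight : B →ₐ[A] S' ⊗[A] B).comp φ :=
  AlgHom.ext fun c => by simp [push]

variable [IsNoetherianRing A] [IsAdicComplete I A]

/-- The level inclusion. -/
theorem level_facts (n : ℕ) : I ^ (n + 1) ≤ I ∧ (∃ k, I ^ k ≤ I ^ (n + 1)) :=
  ⟨Ideal.pow_le_self n.succ_ne_zero, n + 1, le_rfl⟩

theorem bialgHom_eq_of_isotrivial (hG : SGA3b.IsIsotrivial A B)
    (hfl : ∀ (q : Ideal C) [q.IsPrime], Ideal.map (algebraMap A C) I ≤ q → Module.Flat A (Localization.AtPrime q))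
    (h0 : SGA3b.IsQuasiIsotrivial (A ⧸ I) ((A ⧸ I) ⊗[A] C)) (φ ψ : C →ₐc[A] B)
    (h : ∀ c : C, (1 : A ⧸ I) ⊗ₜ[A] (φ c) = (1 : A ⧸ I) ⊗ₜ[A] (ψ c)) : φ = ψ := by
  obtain ⟨T, _, _, -, hfin, hff, M, _, ⟨e⟩⟩ := id hG
  haveI := hfin; haveI := hff
  obtain ⟨EB⟩ := exists_split_of_bialgEquiv e
  refine BialgHom.ext fun c => Module.FaithfullyFlat.tensorProduct_mk_injective (A := A) (B := T) B ?_
  show (1 : T) ⊗ₜ[A] φ c = (1 : T) ⊗ₜ[A] ψ c
  rw [← sub_eq_zero]
  refine tensor_eq_zero_of_forall_red (I := I) EB _ fun n => ?_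
  let π : A ⧸ I ^ (n + 1) →ₐ[A] A ⧸ I := Ideal.Quotient.factorₐ A (level_facts (I := I) n).1
  have hn := respD_eq π (Ideal.Quotient.factor_surjective (level_facts (I := I) n).1) (fun x hx => ?_)
    (hasSplits_level (level_facts n).1 (level_facts n).2 hfl h0) (hasSplits_of_isotrivial hG _)
    (respD_one_tmul φ _) (respD_one_tmul ψ _) (by
      rw [push_includeRight, push_includeRight]
      exact AlgHom.ext h)
  · rw [map_sub, sub_eq_zero]
    have h' := congrArg (push (Algebra.TensorProduct.includeLeft : A ⧸ I ^ (n + 1) →ₐ[A] HopfDesc.B (I ^ (n + 1)) T))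
      (DFunLike.congr_fun hn c)
    simpa [push, HopfDesc.red, Algebra.TensorProduct.one_def] using h'
  · obtain ⟨a, rfl⟩ := Ideal.Quotient.mk_surjective x
    refine ⟨n + 1, ?_⟩
    rw [← map_pow, Ideal.Quotient.eq_zero_iff_mem]
    exact Ideal.pow_mem_pow (Ideal.Quotient.eq_zero_iff_mem.1 hx) _

theorem exists_bialgHom_of_isotrivial (hG : SGA3b.IsIsotrivial A B)
    (hfl : ∀ (q : Ideal C) [q.IsPrime], Ideal.map (algebraMap A C) I ≤ q → Module.Flat A (Localization.AtPrime q))
    (h0 : SGA3b.IsQuasiIsotrivial (A ⧸ I) ((A ⧸ I) ⊗[A] C))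
    (φ₀ : ((A ⧸ I) ⊗[A] C) →ₐc[A ⧸ I] ((A ⧸ I) ⊗[A] B)) :
    ∃ φ : C →ₐc[A] B, ∀ c : C, φ₀ ((1 : A ⧸ I) ⊗ₜ[A] c) = (1 : A ⧸ I) ⊗ₜ[A] (φ c) := by
  classical
  obtain ⟨T, _, _, -, hfin, hff, M, _, ⟨e⟩⟩ := id hG
  haveI := hfin; haveI := hff
  haveI := (AdicRingLib.hasAR_of_isNoetherianRing I).isAdicComplete T
  haveI : IsNoetherianRing T := isNoetherian_of_tower A (inferInstance : IsNoetherian A T)
  obtain ⟨EB⟩ := exists_split_of_bialgEquiv e
  let ψ₀ : C →ₐ[A] (A ⧸ I) ⊗[A] B :=
    ((φ₀ : (A ⧸ I) ⊗[A] C →ₐ[A ⧸ I] (A ⧸ I) ⊗[A] B).restrictScalars A).comp Algebra.TensorProduct.includeRight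
  have hψ₀ : RespD ψ₀ := respD_of_bialgHom φ₀
  let π : ∀ n : ℕ, A ⧸ I ^ (n + 1) →ₐ[A] A ⧸ I := fun n => Ideal.Quotient.factorₐ A (level_facts (I := I) n).1
  have hπ : ∀ n, Function.Surjective (π n) := fun n => Ideal.Quotient.factor_surjective (level_facts (I := I) n).1
  have hnil : ∀ n x, π n x = 0 → IsNilpotent x := fun n x hx => by
    obtain ⟨a, rfl⟩ := Ideal.Quotient.mk_surjective x
    refine ⟨n + 1, ?_⟩
    rw [← map_pow, Ideal.Quotient.eq_zero_iff_mem]
    exact Ideal.pow_mem_pow (Ideal.Quotient.eq_zero_iff_mem.1 hx) _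
  have hCn := fun n => hasSplits_level (C := C) (level_facts (I := I) n).1 (level_facts n).2 hfl h0
  have hBn := fun n => hasSplits_of_isotrivial (C := B) hG (I ^ (n + 1))
  choose ψ hψ hψπ using fun n => exists_respD_lift (π n) (hπ n) (hnil n) (hCn n) (hBn n) hψ₀
  let σ : ∀ n : ℕ, A ⧸ I ^ (n + 2) →ₐ[A] A ⧸ I ^ (n + 1) := fun n =>
    Ideal.Quotient.factorₐ A (Ideal.pow_le_pow_right (Nat.le_succ (n + 1)))
  have hcompat : ∀ n, (push (σ n)).comp (ψ (n + 1)) = ψ n := fun n => by
    refine respD_eq (π n) (hπ n) (hnil n) (hCn n) (hBn n) ((hψ (n + 1)).push _) (hψ n) ?_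
    rw [hψπ, ← hψπ (n + 1)]
    refine AlgHom.ext fun c => ?_
    simp only [AlgHom.comp_apply]
    generalize ψ (n + 1) c = z
    induction z using TensorProduct.induction_on with
    | zero => simp
    | add p q hp hq => simp only [map_add, hp, hq]
    | tmul k b =>
      obtain ⟨a, rfl⟩ := Ideal.Quotient.mk_surjective k
      rfl
  -- the levels over the splitting ring
  let ι : ∀ n : ℕ, A ⧸ I ^ (n + 1) →ₐ[A] HopfDesc.B (I ^ (n + 1)) T := fun n => Algebra.TensorProduct.includeLeft
  let τ : ∀ n : ℕ, HopfDesc.B (I ^ (n + 2)) T →ₐ[A] HopfDesc.B (I ^ (n + 1)) T := fun n =>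
    Algebra.TensorProduct.map (σ n) (AlgHom.id A T)
  choose En hEn using fun n => exists_split_push EB (HopfDesc.red (I ^ (n + 1)) T)
  let χ : ∀ n : ℕ, C →ₐ[A] HopfDesc.B (I ^ (n + 1)) T ⊗[A] B := fun n => (push (ι n)).comp (ψ n)
  have hχ : ∀ n, RespD (χ n) := fun n => (hψ n).push _
  have hlim : ∀ c m, ∃ L : T, ∀ n, HopfDesc.red (I ^ (n + 1)) T L = (En n).e.repr (χ n c) m := by
    intro c m
    choose f hf using fun n => HopfDesc.red_surjective (I := I ^ (n + 1)) T ((En n).e.repr (χ n c) m)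
    have hstep : ∀ n, HopfDesc.red (I ^ (n + 1)) T (f (n + 1)) = HopfDesc.red (I ^ (n + 1)) T (f n) := fun n => by
      have e1 : ∀ x, τ n (HopfDesc.red (I ^ (n + 2)) T x) = HopfDesc.red (I ^ (n + 1)) T x := fun x => by
        simp [τ, HopfDesc.red]
      rw [← e1, hf (n + 1), hf n]
      have e2 : ∀ a, (En n).e a = push (τ n) ((En (n + 1)).e a) := fun a => by
        rw [hEn, hEn]
        generalize EB.e a = z
        induction z using TensorProduct.induction_on with
        | zero => simp
        | add p q hp hq => simp only [map_add, hp, hq]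
        | tmul s b => simp [push, τ, HopfDesc.red]
      rw [← repr_push (En (n + 1)) (En n) (τ n) e2]
      congr 2
      simp only [χ, AlgHom.comp_apply, ← hcompat n]
      generalize ψ (n + 1) c = z
      induction z using TensorProduct.induction_on with
      | zero => simp
      | add p q hp hq => simp only [map_add, hp, hq]
      | tmul k b => simp [push, τ, ι]
    have hsucc : ∀ n, f n ≡ f (n + 1) [SMOD (I ^ n • ⊤ : Submodule A T)] := fun n => by
      refine (SModEq.sub_mem.2 ?_)
      refine Submodule.smul_mono (Ideal.pow_le_pow_right n.le_succ) le_rfl ((red_eq_zero _).1 ?_)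
      rw [map_sub, hstep, sub_self]
    obtain ⟨L, hL⟩ := IsPrecomplete.prec (I := I) inferInstance (f := f) fun {a b} hab => by
      induction b, hab using Nat.le_induction with
      | base => rfl
      | succ b hab ih => exact ih.trans ((hsucc b).mono (Submodule.smul_mono (Ideal.pow_le_pow_right hab) le_rfl))
    refine ⟨L, fun n => ?_⟩
    rw [← hf n, ← hstep n, eq_comm, ← sub_eq_zero, ← map_sub, red_eq_zero]
    exact SModEq.sub_mem.1 (hL (n + 1))
  choose L hL using hlim
  have horth : ∀ (c : C) (s : Finset (C × C)), Bialgebra.comulAlgHom A C c = ∑ p ∈ s, p.1 ⊗ₜ p.2 → ∀ a b,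
      (if a = b then L c a else 0) = ∑ p ∈ s, L p.1 a * L p.2 b := by
    intro c s hs a b
    refine sub_eq_zero.1 (eq_zero_of_forall_red (I := I) _ fun n => ?_)
    have h1 := congrArg (fun z => coord (En n) z (a, b)) ((hχ n).1 c)
    simp only [coord_D, hs, coord_pairMap, ← hL, ← map_mul] at h1
    rw [map_sub, map_sum, ← h1, apply_ite (HopfDesc.red (I ^ (n + 1)) T), map_zero, sub_self]
  have hfs : ∀ c, {m | L c m ≠ 0}.Finite := fun c => by
    obtain ⟨s, hs⟩ := TensorProduct.exists_finset (Bialgebra.comulAlgHom A C c)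
    refine finite_support (κ := s) (L c) (fun m p => L p.1.1 m) (fun m p => L p.1.2 m) fun m m' => ?_
    rw [horth c s hs, ← Finset.sum_coe_sort s]
  let z : C → T ⊗[A] B := fun c => ∑ m ∈ (hfs c).toFinset, L c m • EB.e m
  have hz : ∀ c n, push (HopfDesc.red (I ^ (n + 1)) T) (z c) = χ n c := fun c n => by
    refine (En n).e.ext_elem fun m => ?_
    rw [repr_push EB (En n) _ (hEn n), ← hL]
    congr 1
    simp only [z, map_sum, map_smul, Module.Basis.repr_self, Finsupp.finsetSum_apply, Finsupp.smul_apply,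
      Finsupp.single_apply, smul_eq_mul, mul_ite, mul_one, mul_zero, Finset.sum_ite_eq', Set.Finite.mem_toFinset,
      Set.mem_ofPred_eq]
    by_cases hm : L c m = 0 <;> simp [hm]
  have hsep : ∀ x y : T ⊗[A] B, (∀ n, push (HopfDesc.red (I ^ (n + 1)) T) x =
      push (HopfDesc.red (I ^ (n + 1)) T) y) → x = y := fun x y h =>
    sub_eq_zero.1 (tensor_eq_zero_of_forall_red (I := I) EB _ fun n => by rw [map_sub, h n, sub_self])
  let Z : C →ₐ[A] T ⊗[A] B :=
    { toFun := z
      map_one' := hsep _ _ fun n => by rw [hz, map_one, map_one]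
      map_mul' := fun x y => hsep _ _ fun n => by rw [hz, map_mul, map_mul, hz, hz]
      map_zero' := hsep _ _ fun n => by rw [hz, map_zero, map_zero]
      map_add' := fun x y => hsep _ _ fun n => by rw [hz, map_add, map_add, hz, hz]
      commutes' := fun r => hsep _ _ fun n => by rw [hz, AlgHom.commutes, AlgHom.commutes] }
  have hZ : RespD Z := by
    refine ⟨fun c => coord_injective EB (Finsupp.ext fun p => ?_), fun c => ?_⟩
    · obtain ⟨s, hs⟩ := TensorProduct.exists_finset (Bialgebra.comulAlgHom A C c)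
      have hr : ∀ c m, EB.e.repr (Z c) m = L c m := fun c m => by
        simp only [Z, z, AlgHom.coe_mk, RingHom.coe_mk, MonoidHom.coe_mk, OneHom.coe_mk, map_sum, map_smul,
          Module.Basis.repr_self, Finsupp.finsetSum_apply, Finsupp.smul_apply, Finsupp.single_apply, smul_eq_mul,
          mul_ite, mul_one, mul_zero, Finset.sum_ite_eq', Set.Finite.mem_toFinset, Set.mem_ofPred_eq]
        by_cases hm : L c m = 0 <;> simp [hm]
      obtain ⟨a, b⟩ := p
      rw [coord_D, hs, coord_pairMap]
      simp only [hr]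
      exact horth c s hs a b
    · refine sub_eq_zero.1 (eq_zero_of_forall_red (I := I) _ fun n => ?_)
      rw [map_sub, push_ev1, AlgHom.commutes, sub_eq_zero]
      exact (congrArg _ (hz c n)).trans ((hχ n).2 c)
  -- descent
  have hdesc : ∀ c, ∃ b : B, (1 : T) ⊗ₜ[A] b = Z c := by
    intro c
    refine exists_of_coface_eq ?_
    obtain ⟨E₂, -⟩ := exists_split_push EB (Algebra.TensorProduct.includeLeft : T →ₐ[A] T ⊗[A] T)
    refine sub_eq_zero.1 (tensor_eq_zero_of_forall_red (I := I) E₂ _ fun n => ?_)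
    rw [map_sub, sub_eq_zero]
    have e : ∀ (f : T →ₐ[A] T ⊗[A] T), push (HopfDesc.red (I ^ (n + 1)) (T ⊗[A] T)) (push f (z c)) =
        push (Algebra.TensorProduct.includeLeft : A ⧸ I ^ (n + 1) →ₐ[A] HopfDesc.B (I ^ (n + 1)) (T ⊗[A] T))
          (ψ n c) := by
      intro f
      have e1 : ∀ w, push (HopfDesc.red (I ^ (n + 1)) (T ⊗[A] T)) (push f w) =
          push (Algebra.TensorProduct.map (AlgHom.id A (A ⧸ I ^ (n + 1))) f)
            (push (HopfDesc.red (I ^ (n + 1)) T) w) := fun w => by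
        rw [← push_comp' (A := B), ← push_comp' (A := B)]
        exact DFunLike.congr_fun (congrArg push (AlgHom.ext fun u => by simp [HopfDesc.red])) w
      rw [e1, hz]
      simp only [χ, AlgHom.comp_apply]
      generalize ψ n c = w
      induction w using TensorProduct.induction_on with
      | zero => simp
      | add p q hp hq => simp only [map_add, hp, hq]
      | tmul u b => simp [push, ι]
    exact (e _).trans (e _).symm
  choose f hf using hdesc
  have hinj := Module.FaithfullyFlat.tensorProduct_mk_injective (A := A) (B := T) B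
  have hinj2 := Module.FaithfullyFlat.tensorProduct_mk_injective (A := A) (B := T) (B ⊗[A] B)
  have hone : ∀ x y : B, (1 : T) ⊗ₜ[A] x = 1 ⊗ₜ y → x = y := fun x y h => hinj h
  let F : C →ₐ[A] B :=
    { toFun := f
      map_one' := hone _ _ (by rw [hf, map_one]; rfl)
      map_mul' := fun x y => hone _ _ (by
        rw [hf, map_mul, ← hf, ← hf, Algebra.TensorProduct.tmul_mul_tmul, one_mul])
      map_zero' := hone _ _ (by rw [hf, map_zero, TensorProduct.tmul_zero])
      map_add' := fun x y => hone _ _ (by rw [hf, map_add, ← hf, ← hf, TensorProduct.tmul_add])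
      commutes' := fun r => hone _ _ (by
        rw [hf, AlgHom.commutes, Algebra.algebraMap_eq_smul_one, Algebra.algebraMap_eq_smul_one,
          TensorProduct.tmul_smul, ← Algebra.TensorProduct.one_def]) }
  have hF : (Algebra.TensorProduct.includeRight : B →ₐ[A] T ⊗[A] B).comp F = Z := AlgHom.ext hf
  have hcomul : (Algebra.TensorProduct.map F F).comp (Bialgebra.comulAlgHom A C) =
      (Bialgebra.comulAlgHom A B).comp F := AlgHom.ext fun c => hinj2 (by
    show (1 : T) ⊗ₜ[A] _ = (1 : T) ⊗ₜ[A] _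
    have h := hZ.1 c
    rw [← hF] at h
    simp only [D, AlgHom.comp_apply, Algebra.TensorProduct.includeRight_apply, Algebra.TensorProduct.map_tmul,
      AlgHom.id_apply] at h ⊢
    rw [h]
    generalize Bialgebra.comulAlgHom A C c = w
    induction w using TensorProduct.induction_on with
    | zero => simp
    | add p q hp hq => simp only [TensorProduct.tmul_add, map_add, hp, hq]
    | tmul p q => simp [pairMap_tmul, J₁, J₂, Algebra.TensorProduct.tmul_mul_tmul])
  have hcounit : (Bialgebra.counitAlgHom A B).comp F = Bialgebra.counitAlgHom A C := AlgHom.ext fun c => by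
    have h := hZ.2 c
    rw [← hF] at h
    refine FaithfulSMul.algebraMap_injective A T ?_
    simpa [ev1] using h
  refine ⟨BialgHom.ofAlgHom F hcounit hcomul, fun c => ?_⟩
  show ψ₀ c = (1 : A ⧸ I) ⊗ₜ[A] f c
  -- compare at the bottom level after extension to the splitting ring
  have hlev : ∀ x y : (A ⧸ I ^ (0 + 1)) ⊗[A] B, push (ι 0) x = push (ι 0) y → x = y := fun x y h => by
    let μ : ((A ⧸ I ^ (0 + 1)) ⊗[A] T) ⊗[A] B ≃ₐ[A] T ⊗[A] ((A ⧸ I ^ (0 + 1)) ⊗[A] B) :=
      (Algebra.TensorProduct.congr (Algebra.TensorProduct.comm A (A ⧸ I ^ (0 + 1)) T) AlgEquiv.refl).trans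
        (Algebra.TensorProduct.assoc A A A T (A ⧸ I ^ (0 + 1)) B)
    have e : ∀ w, μ (push (ι 0) w) = (1 : T) ⊗ₜ[A] w := fun w => by
      induction w using TensorProduct.induction_on with
      | zero => simp
      | add p q hp hq => simp only [TensorProduct.tmul_add, map_add, hp, hq]
      | tmul u b => simp [push, ι, μ]
    have h' := congrArg μ h
    rw [e, e] at h'
    exact Module.FaithfullyFlat.tensorProduct_mk_injective (A := A) (B := T) _ h'
  have h1 : ψ 0 c = (1 : A ⧸ I ^ (0 + 1)) ⊗ₜ[A] f c := hlev _ _ (by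
    have h2 := hz c 0
    rw [show z c = Z c from rfl, ← hf c] at h2
    refine h2.symm.trans ?_
    simp [push, ι, HopfDesc.red, Algebra.TensorProduct.one_def])
  rw [← hψπ 0, AlgHom.comp_apply, h1]
  simp [push]

end Groth.Agent.HomLift
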