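import Mathlib
import Groth.Agent.RichLib.FlatColimit
import Groth.Agent.RichLib.FlatModel

set_option autoImplicit false

/-!
A flat finitely presented Hopf algebra comes from a flat one over a ring of finite type over `ℤ`.
-/

noncomputable section

universe u

open scoped TensorProduct
open TensorProduct

namespace Groth.Agent.HomLift

section Descend

variable {R₀ R : Type u} [CommRing R₀] [CommRing R] [Algebra R₀ R]
  {A : Type u} [CommRing A] [Algebra R A] [Algebra R₀ A] [IsScalarTower R₀ R A]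
  {B : Type u} [CommRing B] [Algebra R₀ B]

/-- The comparison of tensor squares. -/
def sqMap (j : B →ₐ[R₀] A) : B ⊗[R₀] B →ₐ[R₀] A ⊗[R] A :=
  Algebra.TensorProduct.lift (((Algebra.TensorProduct.includeLeft : A →ₐ[R] A ⊗[R] A).restrictScalars R₀).comp j)
    (((Algebra.TensorProduct.includeRight : A →ₐ[R] A ⊗[R] A).restrictScalars R₀).comp j) fun _ _ => Commute.all _ _

theorem sqMap_tmul (j : B →ₐ[R₀] A) (x y : B) : sqMap (R := R) j (x ⊗ₜ y) = j x ⊗ₜ[R] j y := by
  simp [sqMap, Algebra.TensorProduct.tmul_mul_tmul]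

/-- Tensoring a base change with a module. -/
def bcFst (e : R ⊗[R₀] B ≃ₐ[R] A) (N : Type u) [AddCommGroup N] [Module R₀ N] [Module R N] [IsScalarTower R₀ R N] :
    B ⊗[R₀] N →ₗ[R₀] A ⊗[R] N :=
  TensorProduct.lift
    { toFun := fun b =>
        { toFun := fun n => e (1 ⊗ₜ b) ⊗ₜ[R] n
          map_add' := fun x y => TensorProduct.tmul_add _ _ _
          map_smul' := fun r x => TensorProduct.tmul_smul r _ _ }
      map_add' := fun x y => LinearMap.ext fun n => by simp [TensorProduct.tmul_add, map_add, TensorProduct.add_tmul]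
      map_smul' := fun r x => LinearMap.ext fun n => by
        simp only [LinearMap.coe_mk, AddHom.coe_mk, RingHom.id_apply, LinearMap.smul_apply]
        rw [TensorProduct.tmul_smul, ← algebraMap_smul R r ((1 : R) ⊗ₜ[R₀] x), map_smul, algebraMap_smul,
          TensorProduct.smul_tmul'] }

theorem bcFst_injective (e : R ⊗[R₀] B ≃ₐ[R] A) (N : Type u) [AddCommGroup N] [Module R₀ N] [Module R N]
    [IsScalarTower R₀ R N] : Function.Injective (bcFst e N) := by
  let g : A ⊗[R] N →ₗ[R] N ⊗[R₀] B :=
    (TensorProduct.AlgebraTensorModule.cancelBaseChange R₀ R R N B).toLinearMap ∘ₗ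
      (TensorProduct.comm R (R ⊗[R₀] B) N).toLinearMap ∘ₗ
        (TensorProduct.congr e.symm.toLinearEquiv (LinearEquiv.refl R N)).toLinearMap
  refine Function.Injective.of_comp (f := g) ?_
  convert (TensorProduct.comm R₀ B N).injective
  funext x
  induction x using TensorProduct.induction_on with
  | zero => simp
  | add a b ha hb => simp only [Function.comp_apply] at ha hb ⊢; simp only [map_add, ha, hb]
  | tmul b n => simp [g, bcFst]

theorem injective_pair [Module.Flat R₀ B] (e : R ⊗[R₀] B ≃ₐ[R] A) {X : Type u} [AddCommGroup X] [Module R₀ X]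
    (N : Type u) [AddCommGroup N] [Module R₀ N] [Module R N] [IsScalarTower R₀ R N] (jX : X →ₗ[R₀] N)
    (hX : Function.Injective jX) (F : B ⊗[R₀] X →ₗ[R₀] A ⊗[R] N)
    (hF : ∀ b x, F (b ⊗ₜ x) = e (1 ⊗ₜ b) ⊗ₜ jX x) : Function.Injective F := by
  have : F = bcFst e N ∘ₗ jX.lTensor B := TensorProduct.ext' fun b x => by simp [hF, bcFst]
  rw [this]
  exact (bcFst_injective e N).comp (Module.Flat.lTensor_preserves_injective_linearMap jX hX)

/-- The embedding of a model. -/
def modelMap (e : R ⊗[R₀] B ≃ₐ[R] A) : B →ₐ[R₀] A :=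
  (e.toAlgHom.restrictScalars R₀).comp Algebra.TensorProduct.includeRight

theorem modelMap_apply (e : R ⊗[R₀] B ≃ₐ[R] A) (b : B) : modelMap e b = e (1 ⊗ₜ b) := rfl

theorem modelMap_injective [Module.Flat R₀ B] (hinj : Function.Injective (algebraMap R₀ R))
    (e : R ⊗[R₀] B ≃ₐ[R] A) : Function.Injective (modelMap e) := by
  refine e.injective.comp fun x y h => ?_
  have hi : Function.Injective ((Algebra.linearMap R₀ R).rTensor B) :=
    Module.Flat.rTensor_preserves_injective_linearMap _ hinj
  apply (TensorProduct.lid R₀ B).symm.injective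
  apply hi
  simpa using h

theorem sqMap_injective [Module.Flat R₀ B] (hinj : Function.Injective (algebraMap R₀ R))
    (e : R ⊗[R₀] B ≃ₐ[R] A) : Function.Injective (sqMap (R := R) (modelMap e)) :=
  injective_pair e A (modelMap e).toLinearMap (modelMap_injective hinj e) (sqMap (R := R) (modelMap e)).toLinearMap
    fun b x => sqMap_tmul _ b x

end Descend

section Hopf

variable {R₀ R : Type u} [CommRing R₀] [CommRing R] [Algebra R₀ R]
  {A : Type u} [CommRing A] [HopfAlgebra R A] [Algebra R₀ A] [IsScalarTower R₀ R A]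
  {B : Type u} [CommRing B] [Algebra R₀ B] [Module.Flat R₀ B]

/-- A Hopf algebra structure on a model stable under the operations. -/
theorem exists_hopf_of_stable (hinj : Function.Injective (algebraMap R₀ R)) (e : R ⊗[R₀] B ≃ₐ[R] A)
    (hΔ : ∀ b, Bialgebra.comulAlgHom R A (modelMap e b) ∈ (sqMap (R := R) (modelMap e)).range)
    (hε : ∀ b, Bialgebra.counitAlgHom R A (modelMap e b) ∈ (Algebra.ofId R₀ R).range)
    (hS : ∀ b, HopfAlgebra.antipodeAlgHom R A (modelMap e b) ∈ (modelMap e).range) :
    ∃ (B' : Type u) (_ : CommRing B') (_ : HopfAlgebra R₀ B'), Nonempty (B' ≃ₐ[R₀] B) ∧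
      Nonempty (R ⊗[R₀] B' ≃ₐc[R] A) := by
  let j := modelMap e
  have hj := modelMap_injective hinj e
  have hj₂ := sqMap_injective hinj e
  let j₂ := sqMap (R := R) j
  let Δ : B →ₐ[R₀] B ⊗[R₀] B := (AlgEquiv.ofInjective j₂ hj₂).symm.toAlgHom.comp
    ((((Bialgebra.comulAlgHom R A).restrictScalars R₀).comp j).codRestrict j₂.range hΔ)
  have hΔj : ∀ b, j₂ (Δ b) = Bialgebra.comulAlgHom R A (j b) := fun b => by
    show ((AlgEquiv.ofInjective j₂ hj₂) (Δ b) : A ⊗[R] A) = _
    simp [Δ]
  let ε : B →ₐ[R₀] R₀ := (AlgEquiv.ofInjective (Algebra.ofId R₀ R) hinj).symm.toAlgHom.comp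
    ((((Bialgebra.counitAlgHom R A).restrictScalars R₀).comp j).codRestrict (Algebra.ofId R₀ R).range hε)
  have hεj : ∀ b, algebraMap R₀ R (ε b) = Bialgebra.counitAlgHom R A (j b) := fun b => by
    show ((AlgEquiv.ofInjective (Algebra.ofId R₀ R) hinj) (ε b) : R) = _
    simp [ε]
  let S : B →ₐ[R₀] B := (AlgEquiv.ofInjective j hj).symm.toAlgHom.comp
    ((((HopfAlgebra.antipodeAlgHom R A).restrictScalars R₀).comp j).codRestrict j.range hS)
  have hSj : ∀ b, j (S b) = HopfAlgebra.antipodeAlgHom R A (j b) := fun b => by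
    show ((AlgEquiv.ofInjective j hj) (S b) : A) = _
    simp [S]
  have hcoassoc : (Algebra.TensorProduct.assoc R₀ R₀ R₀ B B B).toAlgHom.comp
      ((Algebra.TensorProduct.map Δ (.id R₀ B)).comp Δ) = (Algebra.TensorProduct.map (.id R₀ B) Δ).comp Δ := by
    let j₃ : B ⊗[R₀] (B ⊗[R₀] B) →ₐ[R₀] A ⊗[R] (A ⊗[R] A) :=
      Algebra.TensorProduct.lift
        (((Algebra.TensorProduct.includeLeft : A →ₐ[R] A ⊗[R] (A ⊗[R] A)).restrictScalars R₀).comp j)
        (((Algebra.TensorProduct.includeRight : A ⊗[R] A →ₐ[R] A ⊗[R] (A ⊗[R] A)).restrictScalars R₀).comp j₂)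
        fun _ _ => Commute.all _ _
    have h3 : ∀ x w, j₃ (x ⊗ₜ w) = j x ⊗ₜ[R] j₂ w := fun x w => by
      simp [j₃, Algebra.TensorProduct.tmul_mul_tmul]
    have hj₃ : Function.Injective j₃ :=
      injective_pair e (A ⊗[R] A) j₂.toLinearMap hj₂ j₃.toLinearMap fun b x => h3 b x
    refine AlgHom.ext fun b => hj₃ ?_
    have h1 : ∀ w : B ⊗[R₀] B, j₃ (Algebra.TensorProduct.assoc R₀ R₀ R₀ B B B
        (Algebra.TensorProduct.map Δ (.id R₀ B) w)) = Algebra.TensorProduct.assoc R R R A A A
          (Algebra.TensorProduct.map (Bialgebra.comulAlgHom R A) (.id R A) (j₂ w)) := by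
      intro w
      induction w using TensorProduct.induction_on with
      | zero => simp
      | add a c ha hc => simp only [map_add, ha, hc]
      | tmul x y =>
        rw [sqMap_tmul]
        simp only [Algebra.TensorProduct.map_tmul, AlgHom.id_apply, ← hΔj]
        generalize Δ x = z
        induction z using TensorProduct.induction_on with
        | zero => simp
        | add a c ha hc => simp only [TensorProduct.add_tmul, map_add, ha, hc]
        | tmul p q => rw [Algebra.TensorProduct.assoc_tmul, sqMap_tmul, Algebra.TensorProduct.assoc_tmul, h3, sqMap_tmul]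
    have h2 : ∀ w : B ⊗[R₀] B, j₃ (Algebra.TensorProduct.map (.id R₀ B) Δ w) =
        Algebra.TensorProduct.map (.id R A) (Bialgebra.comulAlgHom R A) (j₂ w) := by
      intro w
      induction w using TensorProduct.induction_on with
      | zero => simp
      | add a c ha hc => simp only [map_add, ha, hc]
      | tmul x y =>
        rw [sqMap_tmul, Algebra.TensorProduct.map_tmul, Algebra.TensorProduct.map_tmul, h3, hΔj]
        rfl
    simp only [AlgHom.comp_apply, AlgEquiv.coe_toAlgHom, h1, h2, hΔj, Bialgebra.comulAlgHom_apply]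
    exact Coalgebra.coassoc_apply (j b)
  have hl : (Algebra.TensorProduct.map ε (.id R₀ B)).comp Δ = (Algebra.TensorProduct.lid R₀ B).symm := by
    refine AlgHom.ext fun b => (Algebra.TensorProduct.lid R₀ B).injective (hj ?_)
    have h : ∀ w : B ⊗[R₀] B, j (Algebra.TensorProduct.lid R₀ B (Algebra.TensorProduct.map ε (.id R₀ B) w)) =
        Algebra.TensorProduct.lid R A (Algebra.TensorProduct.map (Bialgebra.counitAlgHom R A) (.id R A) (j₂ w)) := by
      intro w
      induction w using TensorProduct.induction_on with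
      | zero => simp
      | add a c ha hc => simp only [map_add, ha, hc]
      | tmul x y =>
        rw [sqMap_tmul]
        simp only [Algebra.TensorProduct.map_tmul, AlgHom.id_apply, Algebra.TensorProduct.lid_tmul, map_smul, ← hεj,
          algebraMap_smul]
    rw [AlgHom.comp_apply, h, hΔj]
    show _ = j ((Algebra.TensorProduct.lid R₀ B) ((Algebra.TensorProduct.lid R₀ B).symm b))
    rw [AlgEquiv.apply_symm_apply]
    have h' : ∀ z : A ⊗[R] A, Algebra.TensorProduct.map (Bialgebra.counitAlgHom R A) (.id R A) z =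
        (Coalgebra.counit (R := R) (A := A)).rTensor A z := fun z => by
      induction z using TensorProduct.induction_on with
      | zero => simp
      | add a c ha hc => simp only [map_add, ha, hc]
      | tmul x y => rfl
    rw [h', Bialgebra.comulAlgHom_apply, Coalgebra.rTensor_counit_comul, Algebra.TensorProduct.lid_tmul, one_smul]
  have hr : (Algebra.TensorProduct.map (.id R₀ B) ε).comp Δ = (Algebra.TensorProduct.rid R₀ R₀ B).symm := by
    refine AlgHom.ext fun b => (Algebra.TensorProduct.rid R₀ R₀ B).injective (hj ?_)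
    have h : ∀ w : B ⊗[R₀] B, j (Algebra.TensorProduct.rid R₀ R₀ B (Algebra.TensorProduct.map (.id R₀ B) ε w)) =
        Algebra.TensorProduct.rid R R A (Algebra.TensorProduct.map (.id R A) (Bialgebra.counitAlgHom R A) (j₂ w)) := by
      intro w
      induction w using TensorProduct.induction_on with
      | zero => simp
      | add a c ha hc => simp only [map_add, ha, hc]
      | tmul x y =>
        rw [sqMap_tmul]
        simp only [Algebra.TensorProduct.map_tmul, AlgHom.id_apply, Algebra.TensorProduct.rid_tmul, map_smul, ← hεj,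
          algebraMap_smul]
    rw [AlgHom.comp_apply, h, hΔj]
    show _ = j ((Algebra.TensorProduct.rid R₀ R₀ B) ((Algebra.TensorProduct.rid R₀ R₀ B).symm b))
    rw [AlgEquiv.apply_symm_apply]
    have h' : ∀ z : A ⊗[R] A, Algebra.TensorProduct.map (.id R A) (Bialgebra.counitAlgHom R A) z =
        (Coalgebra.counit (R := R) (A := A)).lTensor A z := fun z => by
      induction z using TensorProduct.induction_on with
      | zero => simp
      | add a c ha hc => simp only [map_add, ha, hc]
      | tmul x y => rfl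
    rw [h', Bialgebra.comulAlgHom_apply, Coalgebra.lTensor_counit_comul, Algebra.TensorProduct.rid_tmul, one_smul]
  letI hBi : Bialgebra R₀ B := Bialgebra.ofAlgHom Δ ε hcoassoc hl hr
  have hA1 : ∀ b, j (((Algebra.TensorProduct.lift S (.id R₀ B) fun _ ↦ Commute.all _).comp Δ) b) =
      j (algebraMap R₀ B (ε b)) := by
    intro b
    have h : ∀ w : B ⊗[R₀] B, j ((Algebra.TensorProduct.lift S (.id R₀ B) fun _ ↦ Commute.all _) w) =
        (Algebra.TensorProduct.lift (HopfAlgebra.antipodeAlgHom R A) (.id R A) fun _ ↦ Commute.all _) (j₂ w) := by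
      intro w
      induction w using TensorProduct.induction_on with
      | zero => simp
      | add a c ha hc => simp only [map_add, ha, hc]
      | tmul x y =>
        rw [sqMap_tmul]
        simp only [Algebra.TensorProduct.lift_tmul, AlgHom.id_apply, map_mul, hSj]
    rw [AlgHom.comp_apply, h, hΔj, AlgHom.commutes, IsScalarTower.algebraMap_apply R₀ R A, hεj]
    have := LinearMap.congr_fun (HopfAlgebra.mul_antipode_rTensor_comul (R := R) (A := A)) (j b)
    simp only [LinearMap.comp_apply, Bialgebra.comulAlgHom_apply, Bialgebra.counitAlgHom_apply] at this ⊢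
    refine Eq.trans ?_ this
    generalize Coalgebra.comul (R := R) (j b) = z
    induction z using TensorProduct.induction_on with
    | zero => simp
    | add a c ha hc => simp only [map_add, ha, hc]
    | tmul x y => simp
  have hA2 : ∀ b, j (((Algebra.TensorProduct.lift (.id R₀ B) S fun _ _ ↦ Commute.all _ _).comp Δ) b) =
      j (algebraMap R₀ B (ε b)) := by
    intro b
    have h : ∀ w : B ⊗[R₀] B, j ((Algebra.TensorProduct.lift (.id R₀ B) S fun _ _ ↦ Commute.all _ _) w) =
        (Algebra.TensorProduct.lift (.id R A) (HopfAlgebra.antipodeAlgHom R A) fun _ _ ↦ Commute.all _ _) (j₂ w) := by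
      intro w
      induction w using TensorProduct.induction_on with
      | zero => simp
      | add a c ha hc => simp only [map_add, ha, hc]
      | tmul x y =>
        rw [sqMap_tmul]
        simp only [Algebra.TensorProduct.lift_tmul, AlgHom.id_apply, map_mul, hSj]
    rw [AlgHom.comp_apply, h, hΔj, AlgHom.commutes, IsScalarTower.algebraMap_apply R₀ R A, hεj]
    have := LinearMap.congr_fun (HopfAlgebra.mul_antipode_lTensor_comul (R := R) (A := A)) (j b)
    simp only [LinearMap.comp_apply, Bialgebra.comulAlgHom_apply, Bialgebra.counitAlgHom_apply] at this ⊢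
    refine Eq.trans ?_ this
    generalize Coalgebra.comul (R := R) (j b) = z
    induction z using TensorProduct.induction_on with
    | zero => simp
    | add a c ha hc => simp only [map_add, ha, hc]
    | tmul x y => simp
  letI hB : HopfAlgebra R₀ B := HopfAlgebra.ofAlgHom S (AlgHom.ext fun b => hj (hA1 b))
    (AlgHom.ext fun b => hj (hA2 b))
  refine ⟨B, inferInstance, hB, ⟨AlgEquiv.refl⟩, ⟨BialgEquiv.ofBijective (BialgHom.ofAlgHom e.toAlgHom ?_ ?_) e.bijective⟩⟩
  · refine Algebra.TensorProduct.ext (Subsingleton.elim _ _) (AlgHom.ext fun b => ?_)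
    show Bialgebra.counitAlgHom R A (j b) = Coalgebra.counit (R := R) ((1 : R) ⊗ₜ[R₀] b)
    rw [TensorProduct.counit_tmul, ← hεj, CommSemiring.counit_apply, Algebra.smul_def, mul_one]
    rfl
  · refine Algebra.TensorProduct.ext (Subsingleton.elim _ _) (AlgHom.ext fun b => ?_)
    show Algebra.TensorProduct.map e.toAlgHom e.toAlgHom (Coalgebra.comul (R := R) ((1 : R) ⊗ₜ[R₀] b)) =
      Bialgebra.comulAlgHom R A (j b)
    rw [TensorProduct.comul_tmul, CommSemiring.comul_apply, ← hΔj,
      show Coalgebra.comul (R := R₀) b = Δ b from rfl]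
    generalize Δ b = z
    induction z using TensorProduct.induction_on with
    | zero => simp
    | add a c ha hc => simp only [TensorProduct.tmul_add, map_add, ha, hc]
    | tmul p q =>
      rw [sqMap_tmul, TensorProduct.AlgebraTensorModule.tensorTensorTensorComm_tmul]
      rfl

end Hopf


section Main

variable {R : Type u} [CommRing R] {A : Type u} [CommRing A] [Algebra R A]
  {R₁ : Type u} [CommRing R₁] [Algebra R₁ R] [Algebra R₁ A] [IsScalarTower R₁ R A]
  {B : Type u} [CommRing B] [Algebra R₁ B]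

/-- The base change of a model to an intermediate ring. -/
def stageEquiv (e : R ⊗[R₁] B ≃ₐ[R] A) (S : Subalgebra R₁ R) : R ⊗[S] (S ⊗[R₁] B) ≃ₐ[R] A :=
  (Algebra.TensorProduct.cancelBaseChange R₁ S R R B).trans e

theorem stage_apply (e : R ⊗[R₁] B ≃ₐ[R] A) (S : Subalgebra R₁ R) (s : S) (b : B) :
    modelMap (stageEquiv e S) (s ⊗ₜ b) = (s : R) • modelMap e b := by
  rw [modelMap_apply, modelMap_apply, ← map_smul, TensorProduct.smul_tmul', smul_eq_mul, mul_one]
  show e ((Algebra.TensorProduct.cancelBaseChange R₁ S R R B) (1 ⊗ₜ (s ⊗ₜ b))) = _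
  rw [Algebra.TensorProduct.cancelBaseChange_tmul, Algebra.smul_def, mul_one]
  rfl

theorem exists_stage_mem (e : R ⊗[R₁] B ≃ₐ[R] A) (x : A) :
    ∃ S₀ : Subalgebra R₁ R, S₀.FG ∧ ∀ S : Subalgebra R₁ R, S₀ ≤ S → x ∈ (modelMap (stageEquiv e S)).range := by
  classical
  obtain ⟨z, rfl⟩ := e.surjective x
  induction z using TensorProduct.induction_on with
  | zero => exact ⟨⊥, Subalgebra.fg_bot, fun S _ => by rw [map_zero]; exact zero_mem _⟩
  | add a b ha hb =>
    obtain ⟨Sa, h1, h2⟩ := ha
    obtain ⟨Sb, h3, h4⟩ := hb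
    exact ⟨Sa ⊔ Sb, h1.sup h3, fun S hS => by
      rw [map_add]; exact add_mem (h2 S (le_sup_left.trans hS)) (h4 S (le_sup_right.trans hS))⟩
  | tmul r b =>
    refine ⟨Algebra.adjoin R₁ {r}, Subalgebra.fg_def.2 ⟨{r}, Set.finite_singleton r, rfl⟩,
      fun S hS => ⟨(⟨r, hS (Algebra.subset_adjoin rfl)⟩ : S) ⊗ₜ b, ?_⟩⟩
    show modelMap (stageEquiv e S) _ = _
    rw [stage_apply, modelMap_apply, ← map_smul, TensorProduct.smul_tmul', smul_eq_mul, mul_one]

theorem exists_stage_mem_sq (e : R ⊗[R₁] B ≃ₐ[R] A) (w : A ⊗[R] A) :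
    ∃ S₀ : Subalgebra R₁ R, S₀.FG ∧
      ∀ S : Subalgebra R₁ R, S₀ ≤ S → w ∈ (sqMap (R := R) (modelMap (stageEquiv e S))).range := by
  induction w using TensorProduct.induction_on with
  | zero => exact ⟨⊥, Subalgebra.fg_bot, fun S _ => zero_mem _⟩
  | add a b ha hb =>
    obtain ⟨Sa, h1, h2⟩ := ha
    obtain ⟨Sb, h3, h4⟩ := hb
    exact ⟨Sa ⊔ Sb, h1.sup h3, fun S hS => add_mem (h2 S (le_sup_left.trans hS)) (h4 S (le_sup_right.trans hS))⟩
  | tmul x y =>
    obtain ⟨Sx, h1, h2⟩ := exists_stage_mem e x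
    obtain ⟨Sy, h3, h4⟩ := exists_stage_mem e y
    refine ⟨Sx ⊔ Sy, h1.sup h3, fun S hS => ?_⟩
    obtain ⟨p, hp⟩ := h2 S (le_sup_left.trans hS)
    obtain ⟨q, hq⟩ := h4 S (le_sup_right.trans hS)
    refine ⟨p ⊗ₜ q, ?_⟩
    show sqMap (modelMap (stageEquiv e S)) (p ⊗ₜ q) = _
    rw [sqMap_tmul]
    exact congrArg₂ (fun a b => a ⊗ₜ[R] b) hp hq

/-- A flat finitely presented Hopf algebra has a flat model over a ring of finite type over `ℤ` inside the base. -/
theorem exists_hopf_model (R : Type u) [CommRing R] (A : Type u) [CommRing A] [HopfAlgebra R A] [Module.Flat R A]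
    (hfp : Algebra.FinitePresentation R A) :
    ∃ (R₂ : Type u) (_ : CommRing R₂) (_ : Algebra R₂ R) (B : Type u) (_ : CommRing B) (_ : HopfAlgebra R₂ B),
      Algebra.FiniteType ℤ R₂ ∧ Function.Injective (algebraMap R₂ R) ∧ Module.Flat R₂ B ∧
      Algebra.FinitePresentation R₂ B ∧ Nonempty (R ⊗[R₂] B ≃ₐc[R] A) := by
  classical
  haveI := hfp
  obtain ⟨A₁, B₁, _, _, hA₁ft, _, hB₁fp, hB₁fl, _, ⟨e₁⟩⟩ := RichLib.FlatModel.exists_flat_model R A
  haveI := hA₁ft; haveI := hB₁fp; haveI := hB₁fl
  letI : Algebra A₁ A := ((algebraMap R A).comp (algebraMap A₁ R)).toAlgebra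
  haveI : IsScalarTower A₁ R A := IsScalarTower.of_algebraMap_eq fun _ => rfl
  obtain ⟨gens, hgens⟩ := (inferInstance : Algebra.FiniteType A₁ B₁).out
  let j₁ := modelMap e₁
  choose SΔ hΔ1 hΔ2 using fun b => exists_stage_mem_sq e₁ (Bialgebra.comulAlgHom R A (j₁ b))
  choose SS hS1 hS2 using fun b => exists_stage_mem e₁ (HopfAlgebra.antipodeAlgHom R A (j₁ b))
  let T : B₁ → Subalgebra A₁ R := fun b => SΔ b ⊔ SS b ⊔ Algebra.adjoin A₁ {Bialgebra.counitAlgHom R A (j₁ b)}
  let S : Subalgebra A₁ R := gens.sup T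
  have hSfg : S.FG := Finset.sup_induction Subalgebra.fg_bot (fun _ h _ h' => h.sup h') fun b _ =>
    ((hΔ1 b).sup (hS1 b)).sup (Subalgebra.fg_def.2 ⟨_, Set.finite_singleton _, rfl⟩)
  let e₂ := stageEquiv e₁ S
  let inc : B₁ →ₐ[A₁] S ⊗[A₁] B₁ := Algebra.TensorProduct.includeRight
  have hinc : ∀ b, modelMap e₂ (inc b) = j₁ b := fun b => by
    show modelMap (stageEquiv e₁ S) ((1 : S) ⊗ₜ b) = _
    rw [stage_apply]
    exact one_smul _ _
  have hspan : ∀ (Q : Subalgebra S (S ⊗[A₁] B₁)), (∀ b ∈ gens, inc b ∈ Q) → ∀ z, z ∈ Q := by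
    intro Q hQ z
    have h1 : ∀ b, inc b ∈ Q := fun b =>
      (show Algebra.adjoin A₁ (gens : Set B₁) ≤ (Q.restrictScalars A₁).comap inc from
        Algebra.adjoin_le fun b hb => hQ b hb) (hgens ▸ Algebra.mem_top : b ∈ Algebra.adjoin A₁ (gens : Set B₁))
    induction z using TensorProduct.induction_on with
    | zero => exact zero_mem _
    | add a b ha hb => exact add_mem ha hb
    | tmul s b =>
      have := Q.smul_mem (h1 b) s
      rwa [show s • inc b = s ⊗ₜ b from by
        simp [inc, TensorProduct.smul_tmul']] at this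
  have hle : ∀ b ∈ gens, SΔ b ≤ S ∧ SS b ≤ S ∧ Bialgebra.counitAlgHom R A (j₁ b) ∈ S := fun b hb =>
    have h : T b ≤ S := Finset.le_sup (f := T) hb
    ⟨le_sup_left.trans (le_sup_left.trans h), le_sup_right.trans (le_sup_left.trans h),
      (le_sup_right.trans h) (Algebra.subset_adjoin rfl)⟩
  obtain ⟨B', _, _, ⟨u⟩, he⟩ := exists_hopf_of_stable (R₀ := S) (R := R) (A := A) (B := S ⊗[A₁] B₁)
    Subtype.val_injective e₂
    (hspan (((sqMap (R := R) (modelMap e₂)).range).comap
        (((Bialgebra.comulAlgHom R A).restrictScalars S).comp (modelMap e₂))) fun b hb => by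
      rw [Subalgebra.mem_comap, AlgHom.comp_apply, hinc]
      exact hΔ2 b S (hle b hb).1)
    (hspan (((Algebra.ofId S R).range).comap
        (((Bialgebra.counitAlgHom R A).restrictScalars S).comp (modelMap e₂))) fun b hb => by
      rw [Subalgebra.mem_comap, AlgHom.comp_apply, hinc]
      exact ⟨⟨_, (hle b hb).2.2⟩, rfl⟩)
    (hspan (((modelMap e₂).range).comap
        (((HopfAlgebra.antipodeAlgHom R A).restrictScalars S).comp (modelMap e₂))) fun b hb => by
      rw [Subalgebra.mem_comap, AlgHom.comp_apply, hinc]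
      exact hS2 b S (hle b hb).2.1)
  haveI : Algebra.FiniteType A₁ S := S.fg_iff_finiteType.mp hSfg
  exact ⟨S, inferInstance, inferInstance, B', inferInstance, inferInstance,
    Algebra.FiniteType.trans (inferInstance : Algebra.FiniteType ℤ A₁) (inferInstance : Algebra.FiniteType A₁ S),
    Subtype.val_injective, Module.Flat.of_linearEquiv u.toLinearEquiv,
    Algebra.FinitePresentation.equiv u.symm, he⟩

end Main

end Groth.Agent.HomLift
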