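import Groth.Agent.HomLiftLib.HopfStage
import Groth.Agent.HomLiftLib.Cancel
import Groth.Agent.RichLib.FlatModel
import Mathlib.RingTheory.Extension.Presentation.Core
import Mathlib.RingTheory.Localization.BaseChange

set_option autoImplicit false

/-!
A finitely presented Hopf algebra, flat away from `g`, has a noetherian model, flat away from a model of `g`.
-/

noncomputable section

universe u

open scoped TensorProduct

namespace Groth.Agent.HomLift

open HopfStage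

theorem flat_away_of_equiv {R X Y : Type u} [CommRing R] [CommRing X] [CommRing Y] [Algebra R X] [Algebra R Y]
    (e : X ≃ₐ[R] Y) {x : X} {y : Y} (h : e x = y) (hy : Module.Flat R (Localization.Away y)) :
    Module.Flat R (Localization.Away x) := by
  haveI := hy
  have H : (Submonoid.powers x).map e.toAlgHom = Submonoid.powers y := by
    rw [Submonoid.map_powers]; exact congrArg Submonoid.powers h
  exact Module.Flat.of_linearEquiv
    (IsLocalization.algEquivOfAlgEquiv (Localization.Away x) (Localization.Away y) e H).toLinearEquiv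

/-- An algebra model compatible with the structure maps is a bialgebra model. -/
theorem exists_bialgEquiv_of_compat {R₃ R : Type u} [CommRing R₃] [CommRing R] [Algebra R₃ R] {A : Type u} [CommRing A]
    [HopfAlgebra R A] [Algebra R₃ A] [IsScalarTower R₃ R A] {B : Type u} [CommRing B] [HopfAlgebra R₃ B]
    (e : R ⊗[R₃] B ≃ₐ[R] A) {j : B →ₐ[R₃] A} (hj : ∀ b, e ((1 : R) ⊗ₜ b) = j b)
    (hm : IsMorph (ofHopf R₃ B) (ofHopf R A) j) : ∃ eB : R ⊗[R₃] B ≃ₐc[R] A, ∀ x, eB x = e x := by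
  refine ⟨BialgEquiv.ofBijective (BialgHom.ofAlgHom e.toAlgHom ?_ ?_) e.bijective, fun _ => rfl⟩
  · refine Algebra.TensorProduct.ext (Subsingleton.elim _ _) (AlgHom.ext fun b => ?_)
    show Bialgebra.counitAlgHom R A (e ((1 : R) ⊗ₜ b)) = Coalgebra.counit (R := R) ((1 : R) ⊗ₜ[R₃] b)
    rw [hj, TensorProduct.counit_tmul, CommSemiring.counit_apply, Algebra.smul_def, mul_one]
    exact (hm.hε b).symm
  · refine Algebra.TensorProduct.ext (Subsingleton.elim _ _) (AlgHom.ext fun b => ?_)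
    show Algebra.TensorProduct.map e.toAlgHom e.toAlgHom (Coalgebra.comul (R := R) ((1 : R) ⊗ₜ[R₃] b)) =
      Bialgebra.comulAlgHom R A (e ((1 : R) ⊗ₜ b))
    rw [hj, TensorProduct.comul_tmul, CommSemiring.comul_apply]
    refine Eq.trans ?_ (hm.hΔ b)
    show _ = HopfStage.sq j (Coalgebra.comul (R := R₃) b)
    generalize Coalgebra.comul (R := R₃) b = z
    induction z using TensorProduct.induction_on with
    | zero => simp
    | add a c ha hc => simp only [TensorProduct.tmul_add, map_add, ha, hc]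
    | tmul p q =>
      rw [HopfStage.sq_tmul, ← hj, ← hj, TensorProduct.AlgebraTensorModule.tensorTensorTensorComm_tmul]
      rfl

/-- From structure maps at some level to a model. -/
theorem exists_hopf_model_of_pre {R : Type u} [CommRing R] {A : Type u} [CommRing A] [HopfAlgebra R A]
    {R₂ : Type u} [CommRing R₂] [Algebra R₂ R] [Algebra R₂ A] [IsScalarTower R₂ R A] (hR₂ : Algebra.FiniteType ℤ R₂)
    {B₂ : Type u} [CommRing B₂] [Algebra R₂ B₂] [Algebra.FinitePresentation R₂ B₂] (e₂ : R ⊗[R₂] B₂ ≃ₐ[R] A)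
    {P₂ : Pre R₂ B₂}
    (hP₂ : IsMorph P₂ (ofHopf R A) ((e₂.toAlgHom.restrictScalars R₂).comp Algebra.TensorProduct.includeRight))
    (g : A) (g₂ : B₂) (hg₂ : e₂ (1 ⊗ₜ g₂) = g) (hg : Module.Flat R (Localization.Away g)) :
    ∃ (R₃ : Type u) (_ : CommRing R₃) (_ : Algebra R₃ R) (B : Type u) (_ : CommRing B) (_ : HopfAlgebra R₃ B)
      (e : R ⊗[R₃] B ≃ₐc[R] A) (g₃ : B),
      Algebra.FiniteType ℤ R₃ ∧ Algebra.FinitePresentation R₃ B ∧ e (1 ⊗ₜ g₃) = g ∧
      Module.Flat R₃ (Localization.Away g₃) := by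
  classical
  obtain ⟨T₃, hT₃, hHopf⟩ := exists_stage_isHopf e₂ hP₂
  -- flatness at a stage
  let Bg := Localization.Away g₂
  haveI : Algebra.FinitePresentation B₂ Bg := IsLocalization.Away.finitePresentation g₂
  haveI : Algebra.FinitePresentation R₂ Bg := Algebra.FinitePresentation.trans R₂ B₂ Bg
  have hflat : Module.Flat R (R ⊗[R₂] Bg) := by
    haveI := flat_away_of_equiv e₂ hg₂ hg
    exact Module.Flat.of_linearEquiv (IsLocalization.Away.tensorProductEquivTMulRight R₂ R g₂ Bg).toLinearEquiv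
  obtain ⟨⟨T₄, hT₄⟩, hi⟩ := (RichLib.FlatColimit.flat_iff_exists_stage
    (fun S : {S : Subalgebra R₂ R // S.FG} => S.1) (fun _ _ h => Subalgebra.inclusion h) R
    (RichLib.FlatModel.isDirectedColimitRing_fg R₂ R) (B₀ := Bg) Bg).mp hflat
  let R₃ : Subalgebra R₂ R := T₃ ⊔ T₄
  let P₃ := baseChange P₂ R₃
  have hP₃ : P₃.IsHopf := hHopf R₃ le_sup_left
  letI : Bialgebra R₃ (R₃ ⊗[R₂] B₂) := Bialgebra.ofAlgHom P₃.Δ P₃.ε hP₃.coass
    (AlgHom.ext fun b => (Algebra.TensorProduct.lid R₃ (R₃ ⊗[R₂] B₂)).injective <| by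
      show P₃.counL b = Algebra.TensorProduct.lid R₃ (R₃ ⊗[R₂] B₂) ((Algebra.TensorProduct.lid R₃ (R₃ ⊗[R₂] B₂)).symm b)
      rw [AlgEquiv.apply_symm_apply, hP₃.counL]; rfl)
    (AlgHom.ext fun b => (Algebra.TensorProduct.rid R₃ R₃ (R₃ ⊗[R₂] B₂)).injective <| by
      show P₃.counR b = Algebra.TensorProduct.rid R₃ R₃ (R₃ ⊗[R₂] B₂) ((Algebra.TensorProduct.rid R₃ R₃ (R₃ ⊗[R₂] B₂)).symm b)
      rw [AlgEquiv.apply_symm_apply, hP₃.counR]; rfl)
  letI : HopfAlgebra R₃ (R₃ ⊗[R₂] B₂) := HopfAlgebra.ofAlgHom P₃.S hP₃.antL hP₃.antR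
  let e₃ : R ⊗[R₃] (R₃ ⊗[R₂] B₂) ≃ₐ[R] A := (Algebra.TensorProduct.cancelBaseChange R₂ R₃ R R B₂).trans e₂
  let i₂ : B₂ →ₐ[R₂] (R₃ ⊗[R₂] B₂) := Algebra.TensorProduct.includeRight
  let j₃ : (R₃ ⊗[R₂] B₂) →ₐ[R₃] A := (e₃.toAlgHom.restrictScalars R₃).comp Algebra.TensorProduct.includeRight
  have hm := isMorph_baseChange P₂ R₃
  have hj : ∀ b, j₃ (i₂ b) = e₂ ((1 : R) ⊗ₜ b) := fun b => by
    show e₂ ((Algebra.TensorProduct.cancelBaseChange R₂ R₃ R R B₂) (1 ⊗ₜ ((1 : R₃) ⊗ₜ b))) = e₂ (1 ⊗ₜ b)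
    simp
  have hext : ∀ {Y : Type u} [CommRing Y] [Algebra R₃ Y] (f g : (R₃ ⊗[R₂] B₂) →ₐ[R₃] Y),
      (∀ b, f (i₂ b) = g (i₂ b)) → ∀ z, f z = g z := fun {Y} _ _ f g hfg z => by
    induction z using TensorProduct.induction_on with
    | zero => simp
    | add a b ha hb => simp only [map_add, ha, hb]
    | tmul s b =>
      rw [show s ⊗ₜ[R₂] b = s • i₂ b by simp [i₂, TensorProduct.smul_tmul'], map_smul, map_smul, hfg]
  have hm₃ : IsMorph P₃ (ofHopf R A) j₃ := by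
    refine ⟨?_, ?_, ?_⟩
    · refine hext ((sq (R := R) j₃).comp P₃.Δ) (((Bialgebra.comulAlgHom R A).restrictScalars R₃).comp j₃) fun b => ?_
      show sq (R := R) j₃ (P₃.Δ (i₂ b)) = (ofHopf R A).Δ (j₃ (i₂ b))
      rw [hj, ← hm.hΔ]
      refine Eq.trans ?_ (hP₂.hΔ b)
      generalize P₂.Δ b = w
      induction w using TensorProduct.induction_on with
      | zero => simp
      | add a c ha hc => simp only [map_add, ha, hc]
      | tmul p q => rw [HopfStage.sq_tmul, HopfStage.sq_tmul, HopfStage.sq_tmul, hj, hj]; rfl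
    · refine hext ((Algebra.ofId R₃ R).comp P₃.ε) (((Bialgebra.counitAlgHom R A).restrictScalars R₃).comp j₃) fun b => ?_
      show algebraMap R₃ R (P₃.ε (i₂ b)) = (ofHopf R A).ε (j₃ (i₂ b))
      rw [hj, ← hm.hε, ← IsScalarTower.algebraMap_apply]
      exact hP₂.hε b
    · refine hext (j₃.comp P₃.S) (((HopfAlgebra.antipodeAlgHom R A).restrictScalars R₃).comp j₃) fun b => ?_
      show j₃ (P₃.S (i₂ b)) = (ofHopf R A).S (j₃ (i₂ b))
      rw [hj, ← hm.hS, hj]
      exact hP₂.hS b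
  obtain ⟨eB, heB⟩ := exists_bialgEquiv_of_compat e₃ (j := j₃) (fun _ => rfl) ⟨hm₃.hΔ, hm₃.hε, hm₃.hS⟩
  haveI : Algebra.FiniteType R₂ R₃ := R₃.fg_iff_finiteType.mp (hT₃.sup hT₄)
  refine ⟨R₃, inferInstance, inferInstance, (R₃ ⊗[R₂] B₂), inferInstance, inferInstance, eB, i₂ g₂,
    Algebra.FiniteType.trans hR₂ (inferInstance : Algebra.FiniteType R₂ R₃),
    Algebra.FinitePresentation.baseChange (A := B₂) R₃, (heB _).trans ((hj g₂).trans hg₂), ?_⟩
  have h3 : Module.Flat R₃ (R₃ ⊗[R₂] Bg) := by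
    letI : Algebra T₄ R₃ := (Subalgebra.inclusion (le_sup_right : T₄ ≤ R₃)).toRingHom.toAlgebra
    haveI : IsScalarTower R₂ T₄ R₃ := IsScalarTower.of_algebraMap_eq fun _ => rfl
    haveI : Module.Flat T₄ (T₄ ⊗[R₂] Bg) := hi
    exact Module.Flat.of_linearEquiv
      (TensorProduct.AlgebraTensorModule.cancelBaseChange R₂ T₄ R₃ R₃ Bg).symm
  haveI := h3
  exact Module.Flat.of_linearEquiv (IsLocalization.Away.tensorProductEquivTMulRight R₂ R₃ g₂ Bg).symm.toLinearEquiv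

/-- From an algebra model to a Hopf model. -/
theorem exists_hopf_model_of_algebra {R : Type u} [CommRing R] {A : Type u} [CommRing A] [HopfAlgebra R A]
    {A₀ : Type u} [CommRing A₀] [Algebra A₀ R] [Algebra A₀ A] [IsScalarTower A₀ R A] [Algebra.FiniteType ℤ A₀]
    {B₀ : Type u} [CommRing B₀] [Algebra A₀ B₀] [Algebra.FinitePresentation A₀ B₀] (e₀ : R ⊗[A₀] B₀ ≃ₐ[R] A)
    (g : A) (hg : Module.Flat R (Localization.Away g)) :
    ∃ (R₂ : Type u) (_ : CommRing R₂) (_ : Algebra R₂ R) (B : Type u) (_ : CommRing B) (_ : HopfAlgebra R₂ B)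
      (e : R ⊗[R₂] B ≃ₐc[R] A) (g₂ : B),
      Algebra.FiniteType ℤ R₂ ∧ Algebra.FinitePresentation R₂ B ∧ e (1 ⊗ₜ g₂) = g ∧
      Module.Flat R₂ (Localization.Away g₂) := by
  classical
  obtain ⟨T₁, hT₁, hpre⟩ := exists_stage_pre e₀
  obtain ⟨T₂, hT₂, z, hz⟩ := exists_stage_elem (R := R) (e₀.symm g)
  obtain ⟨R₂, hR₂le, hR₂le', hR₂fg⟩ : ∃ T : Subalgebra A₀ R, T₁ ≤ T ∧ T₂ ≤ T ∧ T.FG :=
    ⟨T₁ ⊔ T₂, le_sup_left, le_sup_right, hT₁.sup hT₂⟩
  obtain ⟨P₂, hP₂⟩ := hpre R₂ hR₂le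
  let e₂ : R ⊗[R₂] (R₂ ⊗[A₀] B₀) ≃ₐ[R] A := (Algebra.TensorProduct.cancelBaseChange A₀ R₂ R R B₀).trans e₀
  let g₂ : (R₂ ⊗[A₀] B₀) := toStage B₀ hR₂le' z
  have hg₂ : e₂ (1 ⊗ₜ g₂) = g := by
    have h : ∀ w : (R₂ ⊗[A₀] B₀), Algebra.TensorProduct.cancelBaseChange A₀ R₂ R R B₀ (1 ⊗ₜ w) = toLim B₀ R₂ w := fun w => by
      induction w using TensorProduct.induction_on with
      | zero => simp
      | add a b ha hb => simp only [TensorProduct.tmul_add, map_add, ha, hb]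
      | tmul s b => simp [toLim, Algebra.smul_def]
    show e₀ ((Algebra.TensorProduct.cancelBaseChange A₀ R₂ R R B₀) (1 ⊗ₜ g₂)) = g
    rw [h]
    exact (congrArg e₀ ((toLim_toStage (X := B₀) hR₂le' z).trans hz)).trans (e₀.apply_symm_apply g)
  haveI : Algebra.FiniteType A₀ R₂ := R₂.fg_iff_finiteType.mp hR₂fg
  haveI hR₂ : Algebra.FiniteType ℤ R₂ :=
    Algebra.FiniteType.trans (inferInstance : Algebra.FiniteType ℤ A₀) (inferInstance : Algebra.FiniteType A₀ R₂)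
  haveI : Algebra.FinitePresentation R₂ (R₂ ⊗[A₀] B₀) := Algebra.FinitePresentation.baseChange (A := B₀) R₂
  exact exists_hopf_model_of_pre hR₂ e₂ hP₂ g g₂ hg₂ hg

theorem exists_hopf_model_fp {R : Type u} [CommRing R] {A : Type u} [CommRing A] [HopfAlgebra R A]
    (hfp : Algebra.FinitePresentation R A) (g : A) (hg : Module.Flat R (Localization.Away g)) :
    ∃ (R₂ : Type u) (_ : CommRing R₂) (_ : Algebra R₂ R) (B : Type u) (_ : CommRing B) (_ : HopfAlgebra R₂ B)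
      (e : R ⊗[R₂] B ≃ₐc[R] A) (g₂ : B),
      Algebra.FiniteType ℤ R₂ ∧ Algebra.FinitePresentation R₂ B ∧ e (1 ⊗ₜ g₂) = g ∧
      Module.Flat R₂ (Localization.Away g₂) := by
  classical
  haveI := hfp
  let P := Algebra.Presentation.ofFinitePresentation R A
  let A₀ := P.Core
  let B₀ := P.ModelOfHasCoeffs A₀
  haveI : IsNoetherianRing A₀ := Algebra.FiniteType.isNoetherianRing ℤ A₀
  haveI : Algebra.FiniteType A₀ B₀ := inferInstance
  haveI : Algebra.FinitePresentation A₀ B₀ := Algebra.FinitePresentation.of_finiteType.mp inferInstance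
  let e₀ : R ⊗[A₀] B₀ ≃ₐ[R] A := P.tensorModelOfHasCoeffsEquiv A₀
  letI : Algebra A₀ A := ((algebraMap R A).comp (algebraMap A₀ R)).toAlgebra
  haveI : IsScalarTower A₀ R A := IsScalarTower.of_algebraMap_eq fun _ => rfl
  exact exists_hopf_model_of_algebra e₀ g hg

end Groth.Agent.HomLift
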