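import Mathlib.RingTheory.TensorProduct.DirectLimitFG
import Mathlib.RingTheory.HopfAlgebra.Basic
import Mathlib.RingTheory.Bialgebra.TensorProduct
import Mathlib.RingTheory.HopfAlgebra.TensorProduct
import Mathlib.RingTheory.FinitePresentation
import Mathlib.RingTheory.Bialgebra.Equiv
import Mathlib.RingTheory.HopfAlgebra.Convolution

set_option autoImplicit false

/-!
Finitely presented Hopf algebras descend to subrings of finite type of the base; flatness is not needed.
-/

noncomputable section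

universe u

open scoped TensorProduct

namespace Groth.Agent.HomLift.HopfStage

/-- Maps out of a tensor product into a commutative ring. -/
def liftC {R S A B C : Type u} [CommRing R] [CommRing S] [CommRing A] [CommRing B] [CommRing C] [Algebra R S]
    [Algebra R A] [Algebra S A] [IsScalarTower R S A] [Algebra R B] [Algebra R C] [Algebra S C] [IsScalarTower R S C]
    (f : A →ₐ[S] C) (g : B →ₐ[R] C) : A ⊗[R] B →ₐ[S] C :=
  Algebra.TensorProduct.lift f g fun _ _ => Commute.all _ _

theorem liftC_tmul {R S A B C : Type u} [CommRing R] [CommRing S] [CommRing A] [CommRing B] [CommRing C] [Algebra R S]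
    [Algebra R A] [Algebra S A] [IsScalarTower R S A] [Algebra R B] [Algebra R C] [Algebra S C] [IsScalarTower R S C]
    (f : A →ₐ[S] C) (g : B →ₐ[R] C) (a : A) (b : B) : liftC f g (a ⊗ₜ b) = f a * g b :=
  Algebra.TensorProduct.lift_tmul _ _ _ _ _

section Stage

variable {R₁ R : Type u} [CommRing R₁] [CommRing R] [Algebra R₁ R] {X : Type u} [CommRing X] [Algebra R₁ X]

/-- The map from a stage to the limit. -/
def toLim (X : Type u) [CommRing X] [Algebra R₁ X] (S : Subalgebra R₁ R) : S ⊗[R₁] X →ₐ[R₁] R ⊗[R₁] X :=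
  Algebra.TensorProduct.map S.val (AlgHom.id R₁ X)

/-- The map between stages. -/
def toStage (X : Type u) [CommRing X] [Algebra R₁ X] {S T : Subalgebra R₁ R} (h : S ≤ T) :
    S ⊗[R₁] X →ₐ[R₁] T ⊗[R₁] X :=
  Algebra.TensorProduct.map (Subalgebra.inclusion h) (AlgHom.id R₁ X)

theorem toLim_toStage {S T : Subalgebra R₁ R} (h : S ≤ T) (z : S ⊗[R₁] X) :
    toLim X T (toStage X h z) = toLim X S z := by
  induction z using TensorProduct.induction_on with
  | zero => simp
  | add a b ha hb => simp only [map_add, ha, hb]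
  | tmul a b => rfl

theorem toStage_toStage {S T U : Subalgebra R₁ R} (h : S ≤ T) (h' : T ≤ U) (z : S ⊗[R₁] X) :
    toStage X h' (toStage X h z) = toStage X (h.trans h') z := by
  induction z using TensorProduct.induction_on with
  | zero => simp
  | add a b ha hb => simp only [map_add, ha, hb]
  | tmul a b => rfl

theorem exists_kill_one {S : Subalgebra R₁ R} (hS : S.FG) (z : S ⊗[R₁] X) (hz : toLim X S z = 0) :
    ∃ (T : Subalgebra R₁ R) (h : S ≤ T), T.FG ∧ toStage X h z = 0 := by
  have := TensorProduct.Algebra.eq_of_fg_of_subtype_eq hS (t := z) (t' := 0) (by rw [map_zero]; exact hz)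
  obtain ⟨T, h, hT, h0⟩ := this
  exact ⟨T, h, hT, by rw [map_zero] at h0; exact h0⟩

theorem exists_kill {S : Subalgebra R₁ R} (hS : S.FG) (s : Finset (S ⊗[R₁] X))
    (hs : ∀ z ∈ s, toLim X S z = 0) :
    ∃ (T : Subalgebra R₁ R) (h : S ≤ T), T.FG ∧ ∀ z ∈ s, toStage X h z = 0 := by
  classical
  induction s using Finset.induction_on with
  | empty => exact ⟨S, le_rfl, hS, by simp⟩
  | insert a s _ ih =>
    obtain ⟨T, h, hT, hk⟩ := ih fun z hz => hs z (Finset.mem_insert_of_mem hz)
    obtain ⟨U, h', hU, hk'⟩ := exists_kill_one (X := X) hT (toStage X h a)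
      (by rw [toLim_toStage]; exact hs a (Finset.mem_insert_self a s))
    refine ⟨U, h.trans h', hU, fun z hz => ?_⟩
    rw [← toStage_toStage h h']
    rcases Finset.mem_insert.1 hz with rfl | hz
    · exact hk'
    · rw [hk z hz, map_zero]

theorem exists_stage_elem (z : R ⊗[R₁] X) :
    ∃ S : Subalgebra R₁ R, S.FG ∧ ∃ w, toLim X S w = z := by
  obtain ⟨S, hS, w, hw⟩ := TensorProduct.Algebra.exists_of_fg z
  exact ⟨S, hS, w, hw⟩

/-- A map out of a finitely presented algebra is defined at a stage. -/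
theorem exists_stage_hom {B : Type u} [CommRing B] [Algebra R₁ B] [Algebra.FinitePresentation R₁ B]
    (f : B →ₐ[R₁] R ⊗[R₁] X) :
    ∃ S₀ : Subalgebra R₁ R, S₀.FG ∧ ∀ S, S₀ ≤ S → ∃ g : B →ₐ[R₁] S ⊗[R₁] X, ∀ b, toLim X S (g b) = f b := by
  classical
  obtain ⟨n, π, hπ, hker⟩ := Algebra.FinitePresentation.out (R := R₁) (A := B)
  choose T hT w hw using fun i => exists_stage_elem (f (π (MvPolynomial.X i)))
  let U : Subalgebra R₁ R := Finset.univ.sup T
  have hU : U.FG := Finset.sup_induction Subalgebra.fg_bot (fun _ h _ h' => h.sup h') fun i _ => hT i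
  have hTU : ∀ i, T i ≤ U := fun i => Finset.le_sup (Finset.mem_univ i)
  let v : MvPolynomial (Fin n) R₁ →ₐ[R₁] U ⊗[R₁] X := MvPolynomial.aeval fun i => toStage X (hTU i) (w i)
  have hv : (toLim X U).comp v = f.comp π := MvPolynomial.algHom_ext fun i => by
    simp only [AlgHom.comp_apply, v, MvPolynomial.aeval_X, toLim_toStage, hw]
  obtain ⟨s, hs⟩ := hker
  obtain ⟨V, hUV, hV, hk⟩ := exists_kill hU (s.image v) fun z hz => by
    obtain ⟨r, hr, rfl⟩ := Finset.mem_image.1 hz
    have h0 : π r = 0 := hs.le (Ideal.subset_span hr)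
    have := AlgHom.congr_fun hv r
    simp only [AlgHom.comp_apply, h0, map_zero] at this
    exact this
  refine ⟨V, hV, fun S hS => ?_⟩
  let ψ : MvPolynomial (Fin n) R₁ →ₐ[R₁] S ⊗[R₁] X := (toStage X (hUV.trans hS)).comp v
  have hle : RingHom.ker π ≤ RingHom.ker ψ := by
    intro x hx
    have hx' : x ∈ RingHom.ker π.toRingHom := hx
    rw [← hs] at hx'
    refine Ideal.span_le.mpr (fun r hr => show r ∈ RingHom.ker ψ from ?_) hx'
    show toStage X (hUV.trans hS) (v r) = 0
    rw [← toStage_toStage hUV hS, hk _ (Finset.mem_image_of_mem v hr), map_zero]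
  refine ⟨AlgHom.liftOfSurjective π hπ ψ hle, fun b => ?_⟩
  obtain ⟨p, rfl⟩ := hπ b
  rw [AlgHom.liftOfSurjective_apply]
  show toLim X S (toStage X (hUV.trans hS) (v p)) = _
  rw [toLim_toStage]
  exact AlgHom.congr_fun hv p

/-- Finitely many elements dying in the limit die at a stage. -/
theorem exists_stage_zero (s : Finset X) (hs : ∀ d ∈ s, (1 : R) ⊗ₜ[R₁] d = 0) :
    ∃ S₀ : Subalgebra R₁ R, S₀.FG ∧ ∀ S, S₀ ≤ S → ∀ d ∈ s, (1 : S) ⊗ₜ[R₁] d = 0 := by
  classical
  obtain ⟨T, hT, hTfg, hk⟩ := exists_kill (S := (⊥ : Subalgebra R₁ R)) Subalgebra.fg_bot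
    (s.image fun d => (1 : (⊥ : Subalgebra R₁ R)) ⊗ₜ[R₁] d) fun z hz => by
      obtain ⟨d, hd, rfl⟩ := Finset.mem_image.1 hz
      exact hs d hd
  refine ⟨T, hTfg, fun S hS d hd => ?_⟩
  have := congrArg (toStage X hS) (hk _ (Finset.mem_image_of_mem _ hd))
  rw [map_zero] at this
  exact this

end Stage

section Pre

/-- The data of a Hopf algebra without the axioms. -/
structure Pre (R A : Type u) [CommRing R] [CommRing A] [Algebra R A] where
  Δ : A →ₐ[R] A ⊗[R] A
  ε : A →ₐ[R] R
  S : A →ₐ[R] A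

variable {R A : Type u} [CommRing R] [CommRing A] [Algebra R A] (P : Pre R A)

namespace Pre

def coassL : A →ₐ[R] A ⊗[R] (A ⊗[R] A) :=
  (Algebra.TensorProduct.assoc R R R A A A).toAlgHom.comp ((Algebra.TensorProduct.map P.Δ (.id R A)).comp P.Δ)

def coassR : A →ₐ[R] A ⊗[R] (A ⊗[R] A) := (Algebra.TensorProduct.map (.id R A) P.Δ).comp P.Δ

def counL : A →ₐ[R] A :=
  (Algebra.TensorProduct.lid R A).toAlgHom.comp ((Algebra.TensorProduct.map P.ε (.id R A)).comp P.Δ)

def counR : A →ₐ[R] A :=
  (Algebra.TensorProduct.rid R R A).toAlgHom.comp ((Algebra.TensorProduct.map (.id R A) P.ε).comp P.Δ)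

def antL : A →ₐ[R] A := (Algebra.TensorProduct.lift P.S (.id R A) fun _ => Commute.all _).comp P.Δ

def antR : A →ₐ[R] A := (Algebra.TensorProduct.lift (.id R A) P.S fun _ _ => Commute.all _ _).comp P.Δ

def unit : A →ₐ[R] A := (Algebra.ofId R A).comp P.ε

/-- The Hopf axioms. -/
structure IsHopf : Prop where
  coass : P.coassL = P.coassR
  counL : P.counL = AlgHom.id R A
  counR : P.counR = AlgHom.id R A
  antL : P.antL = P.unit
  antR : P.antR = P.unit

end Pre

/-- The data of a Hopf algebra. -/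
def ofHopf (R A : Type u) [CommRing R] [CommRing A] [HopfAlgebra R A] : Pre R A :=
  ⟨Bialgebra.comulAlgHom R A, Bialgebra.counitAlgHom R A, HopfAlgebra.antipodeAlgHom R A⟩

theorem isHopf_ofHopf (R A : Type u) [CommRing R] [CommRing A] [HopfAlgebra R A] : (ofHopf R A).IsHopf where
  coass := AlgHom.ext fun a => by
    simp only [Pre.coassL, Pre.coassR, ofHopf, AlgHom.comp_apply, AlgEquiv.coe_toAlgHom, Bialgebra.comulAlgHom_apply]
    exact Coalgebra.coassoc_apply a
  counL := AlgHom.ext fun a => by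
    have h' : ∀ z : A ⊗[R] A, Algebra.TensorProduct.map (Bialgebra.counitAlgHom R A) (.id R A) z =
        (Coalgebra.counit (R := R) (A := A)).rTensor A z := fun z => by
      induction z using TensorProduct.induction_on with
      | zero => simp
      | add a c ha hc => simp only [map_add, ha, hc]
      | tmul x y => rfl
    simp only [Pre.counL, ofHopf, AlgHom.comp_apply, AlgEquiv.coe_toAlgHom, Bialgebra.comulAlgHom_apply, h',
      Coalgebra.rTensor_counit_comul, Algebra.TensorProduct.lid_tmul, one_smul, AlgHom.id_apply]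
  counR := AlgHom.ext fun a => by
    have h' : ∀ z : A ⊗[R] A, Algebra.TensorProduct.map (.id R A) (Bialgebra.counitAlgHom R A) z =
        (Coalgebra.counit (R := R) (A := A)).lTensor A z := fun z => by
      induction z using TensorProduct.induction_on with
      | zero => simp
      | add a c ha hc => simp only [map_add, ha, hc]
      | tmul x y => rfl
    simp only [Pre.counR, ofHopf, AlgHom.comp_apply, AlgEquiv.coe_toAlgHom, Bialgebra.comulAlgHom_apply, h',
      Coalgebra.lTensor_counit_comul, Algebra.TensorProduct.rid_tmul, one_smul, AlgHom.id_apply]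
  antL := AlgHom.ext fun a => by
    have := LinearMap.congr_fun (HopfAlgebra.mul_antipode_rTensor_comul (R := R) (A := A)) a
    simp only [Pre.antL, Pre.unit, ofHopf, LinearMap.comp_apply, AlgHom.comp_apply, Bialgebra.comulAlgHom_apply,
      Bialgebra.counitAlgHom_apply] at this ⊢
    refine Eq.trans ?_ this
    generalize Coalgebra.comul (R := R) a = z
    induction z using TensorProduct.induction_on with
    | zero => simp
    | add a c ha hc => simp only [map_add, ha, hc]
    | tmul x y => simp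
  antR := AlgHom.ext fun a => by
    have := LinearMap.congr_fun (HopfAlgebra.mul_antipode_lTensor_comul (R := R) (A := A)) a
    simp only [Pre.antR, Pre.unit, ofHopf, LinearMap.comp_apply, AlgHom.comp_apply, Bialgebra.comulAlgHom_apply,
      Bialgebra.counitAlgHom_apply] at this ⊢
    refine Eq.trans ?_ this
    generalize Coalgebra.comul (R := R) a = z
    induction z using TensorProduct.induction_on with
    | zero => simp
    | add a c ha hc => simp only [map_add, ha, hc]
    | tmul x y => simp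

end Pre

section Hom

variable {R₁ R : Type u} [CommRing R₁] [CommRing R] [Algebra R₁ R] {B : Type u} [CommRing B] [Algebra R₁ B]
  {A : Type u} [CommRing A] [Algebra R A] [Algebra R₁ A] [IsScalarTower R₁ R A]

/-- The square of a map. -/
def sq (j : B →ₐ[R₁] A) : B ⊗[R₁] B →ₐ[R₁] A ⊗[R] A :=
  Algebra.TensorProduct.lift (((Algebra.TensorProduct.includeLeft : A →ₐ[R] A ⊗[R] A).restrictScalars R₁).comp j)
    (((Algebra.TensorProduct.includeRight : A →ₐ[R] A ⊗[R] A).restrictScalars R₁).comp j) fun _ _ => Commute.all _ _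

theorem sq_tmul (j : B →ₐ[R₁] A) (x y : B) : sq (R := R) j (x ⊗ₜ y) = j x ⊗ₜ[R] j y := by
  simp [sq, Algebra.TensorProduct.tmul_mul_tmul]

/-- The cube of a map. -/
def cube (j : B →ₐ[R₁] A) : B ⊗[R₁] (B ⊗[R₁] B) →ₐ[R₁] A ⊗[R] (A ⊗[R] A) :=
  Algebra.TensorProduct.lift
    (((Algebra.TensorProduct.includeLeft : A →ₐ[R] A ⊗[R] (A ⊗[R] A)).restrictScalars R₁).comp j)
    (((Algebra.TensorProduct.includeRight : A ⊗[R] A →ₐ[R] A ⊗[R] (A ⊗[R] A)).restrictScalars R₁).comp (sq (R := R) j))
    fun _ _ => Commute.all _ _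

theorem cube_tmul (j : B →ₐ[R₁] A) (x : B) (w : B ⊗[R₁] B) :
    cube (R := R) j (x ⊗ₜ w) = j x ⊗ₜ[R] sq (R := R) j w := by
  simp [cube, Algebra.TensorProduct.tmul_mul_tmul]

/-- A morphism of data. -/
structure IsMorph (P : Pre R₁ B) (Q : Pre R A) (j : B →ₐ[R₁] A) : Prop where
  hΔ : ∀ b, sq (R := R) j (P.Δ b) = Q.Δ (j b)
  hε : ∀ b, algebraMap R₁ R (P.ε b) = Q.ε (j b)
  hS : ∀ b, j (P.S b) = Q.S (j b)

variable {P : Pre R₁ B} {Q : Pre R A} {j : B →ₐ[R₁] A} (h : IsMorph P Q j)

include h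

theorem coassL_apply (b : B) : cube (R := R) j (P.coassL b) = Q.coassL (j b) := by
  have h1 : ∀ w : B ⊗[R₁] B, cube (R := R) j (Algebra.TensorProduct.assoc R₁ R₁ R₁ B B B
      (Algebra.TensorProduct.map P.Δ (.id R₁ B) w)) = Algebra.TensorProduct.assoc R R R A A A
        (Algebra.TensorProduct.map Q.Δ (.id R A) (sq (R := R) j w)) := by
    intro w
    induction w using TensorProduct.induction_on with
    | zero => simp
    | add a c ha hc => simp only [map_add, ha, hc]
    | tmul x y =>
      rw [sq_tmul]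
      simp only [Algebra.TensorProduct.map_tmul, AlgHom.id_apply, ← h.hΔ]
      generalize P.Δ x = z
      induction z using TensorProduct.induction_on with
      | zero => simp
      | add a c ha hc => simp only [TensorProduct.add_tmul, map_add, ha, hc]
      | tmul p q =>
        rw [Algebra.TensorProduct.assoc_tmul, sq_tmul, Algebra.TensorProduct.assoc_tmul, cube_tmul, sq_tmul]
  simp only [Pre.coassL, AlgHom.comp_apply, AlgEquiv.coe_toAlgHom, h1, h.hΔ]

theorem coassR_apply (b : B) : cube (R := R) j (P.coassR b) = Q.coassR (j b) := by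
  have h2 : ∀ w : B ⊗[R₁] B, cube (R := R) j (Algebra.TensorProduct.map (.id R₁ B) P.Δ w) =
      Algebra.TensorProduct.map (.id R A) Q.Δ (sq (R := R) j w) := by
    intro w
    induction w using TensorProduct.induction_on with
    | zero => simp
    | add a c ha hc => simp only [map_add, ha, hc]
    | tmul x y => rw [sq_tmul, Algebra.TensorProduct.map_tmul, Algebra.TensorProduct.map_tmul, cube_tmul, h.hΔ]; rfl
  simp only [Pre.coassR, AlgHom.comp_apply, h2, h.hΔ]

theorem counL_apply (b : B) : j (P.counL b) = Q.counL (j b) := by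
  have h1 : ∀ w : B ⊗[R₁] B, j (Algebra.TensorProduct.lid R₁ B (Algebra.TensorProduct.map P.ε (.id R₁ B) w)) =
      Algebra.TensorProduct.lid R A (Algebra.TensorProduct.map Q.ε (.id R A) (sq (R := R) j w)) := by
    intro w
    induction w using TensorProduct.induction_on with
    | zero => simp
    | add a c ha hc => simp only [map_add, ha, hc]
    | tmul x y =>
      rw [sq_tmul]
      simp only [Algebra.TensorProduct.map_tmul, AlgHom.id_apply, Algebra.TensorProduct.lid_tmul, map_smul, ← h.hε,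
        algebraMap_smul]
  simp only [Pre.counL, AlgHom.comp_apply, AlgEquiv.coe_toAlgHom, h1, h.hΔ]

theorem counR_apply (b : B) : j (P.counR b) = Q.counR (j b) := by
  have h1 : ∀ w : B ⊗[R₁] B, j (Algebra.TensorProduct.rid R₁ R₁ B (Algebra.TensorProduct.map (.id R₁ B) P.ε w)) =
      Algebra.TensorProduct.rid R R A (Algebra.TensorProduct.map (.id R A) Q.ε (sq (R := R) j w)) := by
    intro w
    induction w using TensorProduct.induction_on with
    | zero => simp
    | add a c ha hc => simp only [map_add, ha, hc]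
    | tmul x y =>
      rw [sq_tmul]
      simp only [Algebra.TensorProduct.map_tmul, AlgHom.id_apply, Algebra.TensorProduct.rid_tmul, map_smul, ← h.hε,
        algebraMap_smul]
  simp only [Pre.counR, AlgHom.comp_apply, AlgEquiv.coe_toAlgHom, h1, h.hΔ]

theorem antL_apply (b : B) : j (P.antL b) = Q.antL (j b) := by
  have h1 : ∀ w : B ⊗[R₁] B, j ((Algebra.TensorProduct.lift P.S (.id R₁ B) fun _ => Commute.all _) w) =
      (Algebra.TensorProduct.lift Q.S (.id R A) fun _ => Commute.all _) (sq (R := R) j w) := by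
    intro w
    induction w using TensorProduct.induction_on with
    | zero => simp
    | add a c ha hc => simp only [map_add, ha, hc]
    | tmul x y => rw [sq_tmul]; simp only [Algebra.TensorProduct.lift_tmul, AlgHom.id_apply, map_mul, h.hS]
  simp only [Pre.antL, AlgHom.comp_apply, h1, h.hΔ]

theorem antR_apply (b : B) : j (P.antR b) = Q.antR (j b) := by
  have h1 : ∀ w : B ⊗[R₁] B, j ((Algebra.TensorProduct.lift (.id R₁ B) P.S fun _ _ => Commute.all _ _) w) =
      (Algebra.TensorProduct.lift (.id R A) Q.S fun _ _ => Commute.all _ _) (sq (R := R) j w) := by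
    intro w
    induction w using TensorProduct.induction_on with
    | zero => simp
    | add a c ha hc => simp only [map_add, ha, hc]
    | tmul x y => rw [sq_tmul]; simp only [Algebra.TensorProduct.lift_tmul, AlgHom.id_apply, map_mul, h.hS]
  simp only [Pre.antR, AlgHom.comp_apply, h1, h.hΔ]

theorem unit_apply (b : B) : j (P.unit b) = Q.unit (j b) := by
  simp only [Pre.unit, AlgHom.comp_apply, Algebra.ofId_apply, AlgHom.commutes,
    IsScalarTower.algebraMap_apply R₁ R A, h.hε]

end Hom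

section BaseChange

variable {R₁ : Type u} [CommRing R₁] {B : Type u} [CommRing B] [Algebra R₁ B]

/-- Base change of the data. -/
def baseChange (P : Pre R₁ B) (S : Type u) [CommRing S] [Algebra R₁ S] : Pre S (S ⊗[R₁] B) :=
  ⟨Algebra.TensorProduct.lift (Algebra.ofId S _)
      ((sq (R := S) (Algebra.TensorProduct.includeRight : B →ₐ[R₁] S ⊗[R₁] B)).comp P.Δ) fun _ _ => Commute.all _ _,
    Algebra.TensorProduct.lift (Algebra.ofId S _) ((Algebra.ofId R₁ S).comp P.ε) fun _ _ => Commute.all _ _,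
    Algebra.TensorProduct.map (AlgHom.id S S) P.S⟩

theorem isMorph_baseChange (P : Pre R₁ B) (S : Type u) [CommRing S] [Algebra R₁ S] :
    IsMorph P (baseChange P S) (Algebra.TensorProduct.includeRight : B →ₐ[R₁] S ⊗[R₁] B) where
  hΔ b := by simp [baseChange, ← Algebra.TensorProduct.one_def]
  hε b := by simp [baseChange]
  hS b := by simp [baseChange]

/-- The relations on generators make a base change a Hopf algebra. -/
theorem isHopf_baseChange (P : Pre R₁ B) (S : Type u) [CommRing S] [Algebra R₁ S] {G : Finset B}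
    (hG : Algebra.adjoin R₁ (G : Set B) = ⊤)
    (hk : ∀ b ∈ G, (1 : S) ⊗ₜ[R₁] (P.coassL b - P.coassR b) = 0 ∧ (1 : S) ⊗ₜ[R₁] (P.counL b - b) = 0 ∧
      (1 : S) ⊗ₜ[R₁] (P.counR b - b) = 0 ∧ (1 : S) ⊗ₜ[R₁] (P.antL b - P.unit b) = 0 ∧
      (1 : S) ⊗ₜ[R₁] (P.antR b - P.unit b) = 0) : (baseChange P S).IsHopf := by
  let i : B →ₐ[R₁] S ⊗[R₁] B := Algebra.TensorProduct.includeRight
  have hmS := isMorph_baseChange P S
  have hext : ∀ {Y : Type u} [CommRing Y] [Algebra S Y] (f g : S ⊗[R₁] B →ₐ[S] Y),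
      (∀ b ∈ G, f (i b) = g (i b)) → f = g := fun {Y} _ _ f g hfg => by
    letI : Algebra R₁ Y := ((algebraMap S Y).comp (algebraMap R₁ S)).toAlgebra
    haveI : IsScalarTower R₁ S Y := IsScalarTower.of_algebraMap_eq fun _ => rfl
    refine Algebra.TensorProduct.ext (Subsingleton.elim _ _) ?_
    exact AlgHom.ext_of_adjoin_eq_top hG fun b hb => hfg b hb
  let lift3 : S ⊗[R₁] (B ⊗[R₁] (B ⊗[R₁] B)) →ₐ[S] (S ⊗[R₁] B) ⊗[S] ((S ⊗[R₁] B) ⊗[S] (S ⊗[R₁] B)) :=
    liftC (Algebra.ofId S _) (cube (R := S) i)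
  have hc : ∀ x, cube (R := S) i x = lift3 (1 ⊗ₜ x) := fun x => by simp [lift3, liftC_tmul, ← Algebra.TensorProduct.one_def]
  have h1 : ∀ x y : B, (1 : S) ⊗ₜ[R₁] (x - y) = 0 → i x = i y := fun x y h => by
    rw [TensorProduct.tmul_sub, sub_eq_zero] at h
    exact h
  constructor
  · refine hext _ _ fun b hb => ?_
    rw [← coassL_apply hmS, ← coassR_apply hmS, hc, hc]
    have := (hk b hb).1
    rw [TensorProduct.tmul_sub, sub_eq_zero] at this
    rw [this]
  all_goals refine hext _ _ fun b hb => ?_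
  · rw [← counL_apply hmS, AlgHom.id_apply]
    exact h1 _ _ (hk b hb).2.1
  · rw [← counR_apply hmS, AlgHom.id_apply]
    exact h1 _ _ (hk b hb).2.2.1
  · rw [← antL_apply hmS, ← unit_apply hmS]
    exact h1 _ _ (hk b hb).2.2.2.1
  · rw [← antR_apply hmS, ← unit_apply hmS]
    exact h1 _ _ (hk b hb).2.2.2.2


variable {R : Type u} [CommRing R] [Algebra R₁ R] {A : Type u} [CommRing A] [HopfAlgebra R A] [Algebra R₁ A]
  [IsScalarTower R₁ R A]

/-- Finitely many relations make a base change of the data a Hopf algebra. -/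
theorem exists_stage_isHopf [Algebra.FiniteType R₁ B] (e : R ⊗[R₁] B ≃ₐ[R] A) {P : Pre R₁ B}
    (hm : IsMorph P (ofHopf R A) ((e.toAlgHom.restrictScalars R₁).comp Algebra.TensorProduct.includeRight)) :
    ∃ S₀ : Subalgebra R₁ R, S₀.FG ∧ ∀ S : Subalgebra R₁ R, S₀ ≤ S → (baseChange P S).IsHopf := by
  classical
  obtain ⟨G, hG⟩ := (inferInstance : Algebra.FiniteType R₁ B).out
  let j := (e.toAlgHom.restrictScalars R₁).comp (Algebra.TensorProduct.includeRight : B →ₐ[R₁] R ⊗[R₁] B)
  have hH := isHopf_ofHopf R A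
  let inB : B →ₐ[R₁] R ⊗[R₁] B := Algebra.TensorProduct.includeRight
  have hsymm : ∀ x : B, e.symm (j x) = inB x := fun x => e.symm_apply_apply _
  -- back maps
  let inX : B ⊗[R₁] (B ⊗[R₁] B) →ₐ[R₁] R ⊗[R₁] (B ⊗[R₁] (B ⊗[R₁] B)) := Algebra.TensorProduct.includeRight
  let c₁ : B →ₐ[R₁] B ⊗[R₁] (B ⊗[R₁] B) := Algebra.TensorProduct.includeLeft
  let c₂₃ : B ⊗[R₁] B →ₐ[R₁] B ⊗[R₁] (B ⊗[R₁] B) := Algebra.TensorProduct.includeRight
  let c₂ : B →ₐ[R₁] B ⊗[R₁] (B ⊗[R₁] B) := c₂₃.comp Algebra.TensorProduct.includeLeft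
  let c₃ : B →ₐ[R₁] B ⊗[R₁] (B ⊗[R₁] B) := c₂₃.comp Algebra.TensorProduct.includeRight
  let mk : (B →ₐ[R₁] B ⊗[R₁] (B ⊗[R₁] B)) → (A →ₐ[R] R ⊗[R₁] (B ⊗[R₁] (B ⊗[R₁] B))) := fun c =>
    (Algebra.TensorProduct.map (AlgHom.id R R) c).comp e.symm.toAlgHom
  let back : A ⊗[R] (A ⊗[R] A) →ₐ[R] R ⊗[R₁] (B ⊗[R₁] (B ⊗[R₁] B)) :=
    liftC (R := R) (S := R) (A := A) (B := A ⊗[R] A) (C := R ⊗[R₁] (B ⊗[R₁] (B ⊗[R₁] B))) (mk c₁)
      (liftC (R := R) (S := R) (A := A) (B := A) (C := R ⊗[R₁] (B ⊗[R₁] (B ⊗[R₁] B))) (mk c₂) (mk c₃))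
  have hback : ∀ x, back (cube (R := R) j x) = inX x := fun x => by
    induction x using TensorProduct.induction_on with
    | zero => simp
    | add a b ha hb => simp only [map_add, ha, hb]
    | tmul p w =>
      induction w using TensorProduct.induction_on with
      | zero => simp
      | add a b ha hb => simp only [TensorProduct.tmul_add, map_add, ha, hb]
      | tmul q r =>
        rw [cube_tmul, sq_tmul]
        simp only [back, mk, liftC_tmul, AlgHom.comp_apply, AlgEquiv.coe_toAlgHom, hsymm]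
        simp [inX, inB, c₁, c₂, c₃, c₂₃, Algebra.TensorProduct.tmul_mul_tmul]
  have hinj : ∀ x y : B, j x = j y → inB (x - y) = 0 := fun x y hxy => by
    rw [map_sub, ← hsymm, ← hsymm, hxy, sub_self]
  obtain ⟨T₁, hT₁, hk₁⟩ := exists_stage_zero (R := R) (G.image fun b => P.coassL b - P.coassR b) fun d hd => by
    obtain ⟨b, -, rfl⟩ := Finset.mem_image.1 hd
    show inX _ = 0
    rw [map_sub, ← hback, ← hback, coassL_apply hm, coassR_apply hm, hH.coass, sub_self]
  obtain ⟨T₂, hT₂, hk₂⟩ := exists_stage_zero (R := R)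
    (G.image (fun b => P.counL b - b) ∪ G.image (fun b => P.counR b - b) ∪
      G.image (fun b => P.antL b - P.unit b) ∪ G.image (fun b => P.antR b - P.unit b)) fun d hd => by
    simp only [Finset.mem_union, Finset.mem_image] at hd
    rcases hd with ((⟨b, -, rfl⟩ | ⟨b, -, rfl⟩) | ⟨b, -, rfl⟩) | ⟨b, -, rfl⟩ <;> refine hinj _ _ ?_
    · rw [counL_apply hm, hH.counL]; rfl
    · rw [counR_apply hm, hH.counR]; rfl
    · rw [antL_apply hm, unit_apply hm, hH.antL]
    · rw [antR_apply hm, unit_apply hm, hH.antR]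
  refine ⟨T₁ ⊔ T₂, hT₁.sup hT₂, fun S hS => isHopf_baseChange P S hG fun b hb => ?_⟩
  refine ⟨hk₁ S (le_sup_left.trans hS) _ (Finset.mem_image_of_mem _ hb), ?_, ?_, ?_, ?_⟩ <;>
    refine hk₂ S (le_sup_right.trans hS) _ ?_ <;> simp only [Finset.mem_union, Finset.mem_image]
  · exact .inl (.inl (.inl ⟨b, hb, rfl⟩))
  · exact .inl (.inl (.inr ⟨b, hb, rfl⟩))
  · exact .inl (.inr ⟨b, hb, rfl⟩)
  · exact .inr ⟨b, hb, rfl⟩

/-- Data compatible with a Hopf algebra exist at a stage. -/
theorem exists_stage_pre [Algebra.FinitePresentation R₁ B] (e : R ⊗[R₁] B ≃ₐ[R] A) :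
    ∃ S₀ : Subalgebra R₁ R, S₀.FG ∧ ∀ S : Subalgebra R₁ R, S₀ ≤ S → ∃ P : Pre S (S ⊗[R₁] B),
      IsMorph P (ofHopf R A) (((Algebra.TensorProduct.cancelBaseChange R₁ S R R B).trans e).toAlgHom.restrictScalars S |>.comp
        Algebra.TensorProduct.includeRight) := by
  classical
  let inB : B →ₐ[R₁] R ⊗[R₁] B := Algebra.TensorProduct.includeRight
  let j := (e.toAlgHom.restrictScalars R₁).comp inB
  let mk : (B →ₐ[R₁] B ⊗[R₁] B) → (A →ₐ[R] R ⊗[R₁] (B ⊗[R₁] B)) := fun c =>
    (Algebra.TensorProduct.map (AlgHom.id R R) c).comp e.symm.toAlgHom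
  let back : A ⊗[R] A →ₐ[R] R ⊗[R₁] (B ⊗[R₁] B) :=
    Algebra.TensorProduct.lift (mk Algebra.TensorProduct.includeLeft) (mk Algebra.TensorProduct.includeRight)
      fun _ _ => Commute.all _ _
  let fwd : R ⊗[R₁] (B ⊗[R₁] B) →ₐ[R] A ⊗[R] A :=
    Algebra.TensorProduct.lift (Algebra.ofId R _) (sq (R := R) j) fun _ _ => Commute.all _ _
  have hfb : fwd.comp back = AlgHom.id R _ := by
    have key : ∀ z : R ⊗[R₁] B,
        fwd (Algebra.TensorProduct.map (AlgHom.id R R) Algebra.TensorProduct.includeLeft z) = e z ⊗ₜ[R] (1 : A) ∧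
        fwd (Algebra.TensorProduct.map (AlgHom.id R R) Algebra.TensorProduct.includeRight z) = (1 : A) ⊗ₜ[R] e z := by
      intro z
      induction z using TensorProduct.induction_on with
      | zero => simp
      | add a b ha hb => simp only [map_add, ha.1, ha.2, hb.1, hb.2, TensorProduct.add_tmul, TensorProduct.tmul_add, and_self]
      | tmul r b =>
        have hr : r ⊗ₜ[R₁] b = r • ((1 : R) ⊗ₜ[R₁] b) := by rw [TensorProduct.smul_tmul', smul_eq_mul, mul_one]
        rw [hr, map_smul, map_smul, map_smul, map_smul, map_smul, TensorProduct.tmul_smul, ← TensorProduct.smul_tmul']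
        constructor <;> congr 1 <;> simp [fwd, sq_tmul, j, inB, ← Algebra.TensorProduct.one_def]
    refine Algebra.TensorProduct.ext' fun x y => ?_
    simp only [AlgHom.comp_apply, back, Algebra.TensorProduct.lift_tmul, map_mul, mk, AlgEquiv.coe_toAlgHom,
      (key _).1, (key _).2, e.apply_symm_apply, Algebra.TensorProduct.tmul_mul_tmul, mul_one, one_mul, AlgHom.id_apply]
  obtain ⟨T₁, hT₁, hg₁⟩ := exists_stage_hom (R := R)
    ((back.restrictScalars R₁).comp (((Bialgebra.comulAlgHom R A).restrictScalars R₁).comp j))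
  obtain ⟨T₂, hT₂, hg₂⟩ := exists_stage_hom (R := R)
    ((e.symm.toAlgHom.restrictScalars R₁).comp (((HopfAlgebra.antipodeAlgHom R A).restrictScalars R₁).comp j))
  obtain ⟨T₃, hT₃, hg₃⟩ := exists_stage_hom (R := R)
    (((Algebra.TensorProduct.rid R₁ R R).symm.toAlgHom.restrictScalars R₁).comp
      (((Bialgebra.counitAlgHom R A).restrictScalars R₁).comp j))
  refine ⟨T₁ ⊔ T₂ ⊔ T₃, (hT₁.sup hT₂).sup hT₃, fun S hS => ?_⟩
  obtain ⟨g₁, hg₁⟩ := hg₁ S (le_sup_left.trans (le_sup_left.trans hS))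
  obtain ⟨g₂, hg₂⟩ := hg₂ S (le_sup_right.trans (le_sup_left.trans hS))
  obtain ⟨g₃, hg₃⟩ := hg₃ S (le_sup_right.trans hS)
  let iS : B →ₐ[R₁] S ⊗[R₁] B := Algebra.TensorProduct.includeRight
  let up : S ⊗[R₁] (B ⊗[R₁] B) →ₐ[S] (S ⊗[R₁] B) ⊗[S] (S ⊗[R₁] B) :=
    liftC (Algebra.ofId S _) (sq (R := S) iS)
  let P : Pre S (S ⊗[R₁] B) :=
    ⟨liftC (Algebra.ofId S _) ((up.restrictScalars R₁).comp g₁),
      Algebra.TensorProduct.lift (Algebra.ofId S _)
        (((Algebra.TensorProduct.rid R₁ S S).toAlgHom.restrictScalars R₁).comp g₃) fun _ _ => Commute.all _ _,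
      Algebra.TensorProduct.lift (Algebra.ofId S _) g₂ fun _ _ => Commute.all _ _⟩
  refine ⟨P, ?_⟩
  let eS := (Algebra.TensorProduct.cancelBaseChange R₁ S R R B).trans e
  let jS : S ⊗[R₁] B →ₐ[S] A := (eS.toAlgHom.restrictScalars S).comp Algebra.TensorProduct.includeRight
  have hjS : ∀ z, jS z = e (toLim B S z) := fun z => by
    induction z using TensorProduct.induction_on with
    | zero => simp
    | add a b ha hb => simp only [map_add, ha, hb]
    | tmul s b =>
      simp [jS, eS, toLim, Algebra.smul_def]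
      show (Algebra.TensorProduct.cancelBaseChange R₁ S R R B) ((1 : R) ⊗ₜ (s ⊗ₜ b)) = _
      simp [Algebra.smul_def]
  have hji : ∀ b, jS (iS b) = j b := fun b => by rw [hjS]; rfl
  have hup : ∀ z, sq (R := R) jS (up z) = fwd (toLim (B ⊗[R₁] B) S z) := fun z => by
    induction z using TensorProduct.induction_on with
    | zero => simp
    | add a b ha hb => simp only [map_add, ha, hb]
    | tmul s w =>
      have hl : toLim (B ⊗[R₁] B) S (s ⊗ₜ w) = (s : R) ⊗ₜ w := rfl
      rw [hl]
      simp only [up, fwd, liftC_tmul, Algebra.TensorProduct.lift_tmul, map_mul]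
      congr 1
      · rw [Algebra.ofId_apply, AlgHom.commutes, Algebra.ofId_apply, IsScalarTower.algebraMap_apply S R]
        rfl
      · clear hl
        induction w using TensorProduct.induction_on with
        | zero => simp
        | add a b ha hb => simp only [map_add, ha, hb]
        | tmul p q => rw [sq_tmul, sq_tmul, sq_tmul, hji, hji]
  have hsplit : ∀ {Y : Type u} [CommRing Y] [Algebra S Y] (f g : S ⊗[R₁] B →ₐ[S] Y),
      (∀ b, f (iS b) = g (iS b)) → ∀ z, f z = g z := fun {Y} _ _ f g hfg z => by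
    induction z using TensorProduct.induction_on with
    | zero => simp
    | add a b ha hb => simp only [map_add, ha, hb]
    | tmul s b =>
      rw [show s ⊗ₜ[R₁] b = s • iS b by simp [iS, TensorProduct.smul_tmul'], map_smul, map_smul, hfg]
  refine ⟨?_, ?_, ?_⟩
  · refine hsplit ((sq (R := R) jS).comp P.Δ) (((Bialgebra.comulAlgHom R A).restrictScalars S).comp jS) fun b => ?_
    simp only [AlgHom.comp_apply, AlgHom.coe_restrictScalars', hji]
    rw [show P.Δ (iS b) = up (g₁ b) by simp [P, iS, liftC_tmul, ← Algebra.TensorProduct.one_def], hup, hg₁]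
    show (fwd.comp back) _ = _
    rw [hfb]
    exact (congrArg (Bialgebra.comulAlgHom R A) (hji b)).symm
  · refine hsplit ((Algebra.ofId S R).comp P.ε) (((Bialgebra.counitAlgHom R A).restrictScalars S).comp jS) fun b => ?_
    simp only [AlgHom.comp_apply, AlgHom.coe_restrictScalars', hji, Algebra.ofId_apply]
    have hr : ∀ z : S ⊗[R₁] R₁, algebraMap S R (Algebra.TensorProduct.rid R₁ S S z) =
        Algebra.TensorProduct.rid R₁ R R (toLim R₁ S z) := fun z => by
      induction z using TensorProduct.induction_on with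
      | zero => simp
      | add a b ha hb => simp only [map_add, ha, hb]
      | tmul s r =>
        simp [toLim, Algebra.smul_def]
    rw [show P.ε (iS b) = Algebra.TensorProduct.rid R₁ S S (g₃ b) by simp [P, iS], hr, hg₃]
    simp [j]
  · refine hsplit (jS.comp P.S) (((HopfAlgebra.antipodeAlgHom R A).restrictScalars S).comp jS) fun b => ?_
    simp only [AlgHom.comp_apply, AlgHom.coe_restrictScalars', hji]
    rw [show P.S (iS b) = g₂ b by simp [P, iS, ← Algebra.TensorProduct.one_def], hjS, hg₂]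
    simp

end BaseChange

end Groth.Agent.HomLift.HopfStage
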