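import Groth.Agent.HomLiftLib.HopfModel
import Groth.Agent.HomLiftLib.Types
import Groth.Agent.FppfLib.Local
import Groth.Agent.DiagHopfLib.Descent
import Mathlib.RingTheory.Smooth.NoetherianDescent

set_option autoImplicit false

/-!
Splittings over étale algebras of a local ring spread to a basic open.
-/

noncomputable section

universe u

open scoped TensorProduct
open Groth.Agent.TorusField Groth.Agent.DiagHopf

namespace Groth.Agent.HomLift

/-- A map into a local ring lifts to a basic open, compatibly. -/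
theorem exists_lift_away_compat {F C : Type u} [CommRing F] [CommRing C] [Algebra F C]
    [Algebra.FinitePresentation F C] (q : Ideal F) [q.IsPrime] (τ : C →ₐ[F] Localization.AtPrime q) :
    ∃ (t : F) (_ : t ∉ q) (ψ : C →ₐ[F] Localization.Away t) (ρ : Localization.Away t →ₐ[F] Localization.AtPrime q),
      ρ.comp ψ = τ := by
  classical
  obtain ⟨n, f, hf, G, hG⟩ := Algebra.FinitePresentation.out (R := F) (A := C)
  let O := Localization.AtPrime q
  obtain ⟨⟨s, hs⟩, hsy⟩ := IsLocalization.exist_integer_multiples q.primeCompl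
    (Finset.univ : Finset (Fin n)) fun i ↦ τ (f (MvPolynomial.X i))
  choose a ha using fun i ↦ hsy i (Finset.mem_univ i)
  let L := Localization.Away s
  let ψ : MvPolynomial (Fin n) F →ₐ[F] L :=
    MvPolynomial.aeval fun i ↦ IsLocalization.mk' L (a i) (⟨s, 1, pow_one s⟩ : Submonoid.powers s)
  let res : L →ₐ[F] O := IsLocalization.liftAlgHom (M := Submonoid.powers s)
    (f := Algebra.ofId F O) (by
      rintro ⟨_, k, rfl⟩
      rw [map_pow]
      exact (IsLocalization.map_units O (⟨s, hs⟩ : q.primeCompl)).pow k)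
  have hres : res.comp ψ = τ.comp f := by
    refine MvPolynomial.algHom_ext fun i ↦ ?_
    rw [AlgHom.comp_apply, AlgHom.comp_apply]
    show res (ψ (MvPolynomial.X i)) = _
    rw [MvPolynomial.aeval_X]
    apply (IsLocalization.map_units O (⟨s, hs⟩ : q.primeCompl)).mul_left_cancel
    have h1 := congrArg res (IsLocalization.mk'_spec' L (a i)
      (⟨s, 1, pow_one s⟩ : Submonoid.powers s))
    rw [map_mul, AlgHom.commutes, AlgHom.commutes] at h1
    rw [h1, ha i, Algebra.smul_def]
  have hG' : ∀ k ∈ G, ∃ u ∉ q, ∀ (L' : Type u) [CommRing L'] [Algebra F L'] (e : L →ₐ[F] L'),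
      IsUnit (algebraMap F L' u) → e (ψ k) = 0 := by
    intro k hk
    have h0 : res (ψ k) = 0 := by
      have : k ∈ RingHom.ker f.toRingHom := hG ▸ Ideal.subset_span hk
      rw [← AlgHom.comp_apply, hres, AlgHom.comp_apply, show f k = 0 from this, map_zero]
    obtain ⟨⟨b, m⟩, hb⟩ := IsLocalization.surj (Submonoid.powers s) (ψ k)
    have h1 : algebraMap F O b = 0 := by
      rw [← AlgHom.commutes res, ← hb, map_mul, h0, zero_mul]
    obtain ⟨⟨u, hu⟩, hub⟩ := (IsLocalization.map_eq_zero_iff q.primeCompl O b).mp h1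
    refine ⟨u, hu, fun L' _ _ e hu' ↦ ?_⟩
    have h2 : algebraMap F L' b = 0 := by
      refine hu'.mul_right_eq_zero.mp ?_
      rw [← map_mul, hub, map_zero]
    have h3 := congrArg e hb
    rw [map_mul, AlgHom.commutes, AlgHom.commutes, h2] at h3
    have hmu : IsUnit (algebraMap F L' (m : F)) := by
      rw [← AlgHom.commutes e]
      exact (IsLocalization.map_units L m).map e
    exact hmu.mul_left_eq_zero.mp h3
  choose u hu hu0 using hG'
  let t := s * ∏ k : G, u k.1 k.2
  have ht : t ∉ q := by
    intro h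
    rcases Ideal.IsPrime.mem_or_mem inferInstance h with h | h
    · exact hs h
    · obtain ⟨k, -, hk⟩ := Ideal.IsPrime.prod_mem_iff.mp h
      exact hu k.1 k.2 hk
  let L' := Localization.Away t
  have hunit : IsUnit (algebraMap F L' t) := IsLocalization.Away.algebraMap_isUnit t
  rw [map_mul, IsUnit.mul_iff, map_prod] at hunit
  let e : L →ₐ[F] L' := IsLocalization.liftAlgHom (M := Submonoid.powers s)
    (f := Algebra.ofId F L') (by
      rintro ⟨_, k, rfl⟩
      rw [map_pow]
      exact hunit.1.pow k)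
  let res' : L' →ₐ[F] O := IsLocalization.liftAlgHom (M := Submonoid.powers t)
    (f := Algebra.ofId F O) (by
      rintro ⟨_, k, rfl⟩
      rw [map_pow]
      exact (IsLocalization.map_units O (⟨t, ht⟩ : q.primeCompl)).pow k)
  have hker : RingHom.ker f.toRingHom ≤ RingHom.ker (e.comp ψ).toRingHom := by
    rw [← hG, Ideal.span_le]
    intro k hk
    exact hu0 k hk L' e ((IsUnit.prod_univ_iff.mp hunit.2) ⟨k, hk⟩)
  refine ⟨t, ht, AlgHom.liftOfSurjective (A := MvPolynomial (Fin n) F) f hf (e.comp ψ) hker, res',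
    AlgHom.ext fun c => ?_⟩
  obtain ⟨x, rfl⟩ := hf c
  have he : res'.comp e = res :=
    IsLocalization.algHom_ext (Submonoid.powers s) (Subsingleton.elim _ _)
  show res' (AlgHom.liftOfSurjective (A := MvPolynomial (Fin n) F) f hf (e.comp ψ) hker (f x)) = τ (f x)
  rw [show τ (f x) = res (ψ x) from (DFunLike.congr_fun hres x).symm, ← he]
  simp

section Descend

variable {R₀ : Type u} [CommRing R₀] {B : Type u} [CommRing B] [HopfAlgebra R₀ B] [Module.Flat R₀ B]

/-- A splitting whose basis and coordinates are defined over a subring is defined over it. -/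
theorem exists_split_descend {T U : Type u} [CommRing T] [CommRing U] [Algebra R₀ T] [Algebra R₀ U]
    (ι : U →ₐ[R₀] T) (hι : Function.Injective ι) {M : Type u} [AddCommGroup M] (E : Split R₀ B M T)
    (hm : ∀ m, E.e m ∈ (push (A := B) ι).range) (G : Set B) (hG : Algebra.adjoin R₀ G = ⊤)
    (hb : ∀ b ∈ G, ∀ m, E.e.repr ((1 : T) ⊗ₜ[R₀] b) m ∈ ι.range) : Nonempty (Split R₀ B M U) := by
  classical
  have hinj : Function.Injective (push (A := B) ι) := by
    have : (push (A := B) ι : U ⊗[R₀] B → T ⊗[R₀] B) = ι.toLinearMap.rTensor B := by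
      funext z
      induction z using TensorProduct.induction_on with
      | zero => simp
      | add a b ha hb => simp only [map_add, ha, hb]
      | tmul u b => simp [push]
    rw [this]
    exact Module.Flat.rTensor_preserves_injective_linearMap _ hι
  choose y hy using fun m => (AlgHom.mem_range _).1 (hm m)
  have hy0 : y 0 = 1 := hinj (by rw [hy, E.e_zero, map_one])
  have hyadd : ∀ a b, y (a + b) = y a * y b := fun a b => hinj (by rw [hy, E.e_add, map_mul, hy, hy])
  have hygl : ∀ a, IsGL R₀ B U (y a) := fun a => IsGL.of_push ι hι (by rw [hy]; exact E.gl a)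
  have hli : LinearIndependent U y := by
    rw [linearIndependent_iff']
    intro s t hs g hg
    apply hι
    rw [map_zero]
    have h := congrArg (push (A := B) ι) hs
    simp only [map_sum, push_smul, hy, map_zero] at h
    exact linearIndependent_iff'.1 E.e.linearIndependent s (fun i => ι (t i)) h g hg
  have hspan : ⊤ ≤ Submodule.span U (Set.range y) := by
    let P : Submodule U (U ⊗[R₀] B) := Submodule.span U (Set.range y)
    have hone : (1 : U ⊗[R₀] B) ∈ P := Submodule.subset_span ⟨0, hy0⟩
    have hmul : ∀ u v, u ∈ P → v ∈ P → u * v ∈ P := by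
      intro u v hu hv
      have h := Submodule.mul_mem_mul hu hv
      rw [Submodule.span_mul_span] at h
      refine Submodule.span_mono ?_ h
      rintro z ⟨_, ⟨a, rfl⟩, _, ⟨b, rfl⟩, rfl⟩
      exact ⟨a + b, hyadd a b⟩
    let Q := P.toSubalgebra hone hmul
    have hgen : ∀ b ∈ G, (1 : U) ⊗ₜ[R₀] b ∈ P := by
      intro b hbG
      choose c hc using fun m => (AlgHom.mem_range _).1 (hb b hbG m)
      have : (1 : U) ⊗ₜ[R₀] b = ∑ m ∈ (E.e.repr ((1 : T) ⊗ₜ[R₀] b)).support, c m • y m := by
        apply hinj
        simp only [map_sum, push_smul, hy, hc]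
        conv_lhs => rw [show push ι ((1 : U) ⊗ₜ[R₀] b) = (1 : T) ⊗ₜ[R₀] b by simp [push]]
        exact (E.e.linearCombination_repr _).symm
      rw [this]
      exact sum_mem fun m _ => Submodule.smul_mem _ _ (Submodule.subset_span ⟨m, rfl⟩)
    have hA : ∀ b : B, (1 : U) ⊗ₜ[R₀] b ∈ Q := fun b =>
      (show Algebra.adjoin R₀ G ≤ (Q.restrictScalars R₀).comap
          (Algebra.TensorProduct.includeRight : B →ₐ[R₀] U ⊗[R₀] B) from
        Algebra.adjoin_le fun g hg => hgen g hg) (hG ▸ Algebra.mem_top : b ∈ Algebra.adjoin R₀ G)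
    intro z hz
    clear hz
    induction z using TensorProduct.induction_on with
    | zero => exact zero_mem _
    | add p q hp hq => exact add_mem hp hq
    | tmul t a =>
      rw [show t ⊗ₜ[R₀] a = t • ((1 : U) ⊗ₜ[R₀] a) by rw [TensorProduct.smul_tmul', smul_eq_mul, mul_one]]
      exact P.smul_mem t (hA a)
  exact ⟨⟨Module.Basis.mk hli hspan, by rw [Module.Basis.mk_apply, hy0],
    fun a b => by rw [Module.Basis.mk_apply, Module.Basis.mk_apply, Module.Basis.mk_apply, hyadd],
    fun a => by rw [Module.Basis.mk_apply]; exact hygl a⟩⟩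

/-- A splitting over a base change of an étale algebra is defined at a finitely generated stage. -/
theorem exists_split_stage [Algebra.FiniteType R₀ B] {O T : Type u} [CommRing O] [CommRing T]
    [Algebra R₀ O] [Algebra R₀ T] [Algebra O T] [IsScalarTower R₀ O T]
    {A₀ : Type u} [CommRing A₀] [Algebra R₀ A₀] [Algebra.FiniteType R₀ A₀] [Algebra A₀ O]
    [IsScalarTower R₀ A₀ O] [Algebra A₀ T] [IsScalarTower A₀ O T] [IsScalarTower R₀ A₀ T]
    {B₀ : Type u} [CommRing B₀] [Algebra A₀ B₀] [Algebra.Etale A₀ B₀] (e₀ : O ⊗[A₀] B₀ ≃ₐ[O] T)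
    {M : Type u} [AddCommGroup M] [AddGroup.FG M] (E : Split R₀ B M T) :
    ∃ (S : Type u) (_ : CommRing S) (_ : Algebra R₀ S) (v : S →ₐ[R₀] O) (U : Type u) (_ : CommRing U)
      (_ : Algebra R₀ U) (_ : Algebra S U) (_ : IsScalarTower R₀ S U) (ι : U →ₐ[R₀] T),
      Algebra.FiniteType R₀ S ∧ Algebra.Etale S U ∧ (∀ s, ι (algebraMap S U s) = algebraMap O T (v s)) ∧
        Nonempty (Split R₀ B M U) := by
  classical
  -- the finitely many elements needed
  obtain ⟨gens, hgens⟩ := (AddGroup.fg_iff_addMonoid_fg.1 (inferInstance : AddGroup.FG M)).1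
  obtain ⟨G, hG⟩ := (Algebra.FiniteType.out : (⊤ : Subalgebra R₀ B).FG)
  have hel : ∀ z : T ⊗[R₀] B, ∃ S₀ : Subalgebra A₀ O, S₀.FG ∧ ∀ S, S₀ ≤ S →
      z ∈ (push (A := B) ((modelMap (stageEquiv e₀ S)).restrictScalars R₀)).range := by
    intro z
    induction z using TensorProduct.induction_on with
    | zero => exact ⟨⊥, Subalgebra.fg_bot, fun S _ => zero_mem _⟩
    | add a b ha hb =>
      obtain ⟨Sa, h1, h2⟩ := ha
      obtain ⟨Sb, h3, h4⟩ := hb
      exact ⟨Sa ⊔ Sb, h1.sup h3, fun S hS => add_mem (h2 S (le_sup_left.trans hS)) (h4 S (le_sup_right.trans hS))⟩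
    | tmul t b =>
      obtain ⟨S₀, h1, h2⟩ := exists_stage_mem e₀ t
      refine ⟨S₀, h1, fun S hS => ?_⟩
      obtain ⟨w, hw⟩ := h2 S hS
      refine ⟨w ⊗ₜ b, ?_⟩
      show push _ (w ⊗ₜ b) = _
      rw [push, Algebra.TensorProduct.map_tmul]
      exact congrArg (fun a => a ⊗ₜ[R₀] b) hw
  choose SM hSM1 hSM2 using fun m => hel (E.e m)
  choose SC hSC1 hSC2 using fun t => exists_stage_mem e₀ t
  let coef : B → Finset T := fun b =>
    (E.e.repr ((1 : T) ⊗ₜ[R₀] b)).support.image fun m => E.e.repr ((1 : T) ⊗ₜ[R₀] b) m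
  let S : Subalgebra A₀ O := gens.sup SM ⊔ (G.biUnion coef).sup SC
  have hS : S.FG := (Finset.sup_induction Subalgebra.fg_bot (fun _ h _ h' => h.sup h') fun m _ => hSM1 m).sup
    (Finset.sup_induction Subalgebra.fg_bot (fun _ h _ h' => h.sup h') fun t _ => hSC1 t)
  let U := S ⊗[A₀] B₀
  let ι : U →ₐ[R₀] T := (modelMap (stageEquiv e₀ S)).restrictScalars R₀
  have hι : Function.Injective ι := modelMap_injective Subtype.val_injective (stageEquiv e₀ S)
  obtain ⟨EU⟩ := exists_split_descend ι hι E (by
      intro m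
      have hm : m ∈ AddSubmonoid.closure (gens : Set M) := hgens ▸ AddSubmonoid.mem_top m
      induction hm using AddSubmonoid.closure_induction with
      | mem x hx => exact hSM2 x S (le_trans (Finset.le_sup (f := SM) hx) le_sup_left)
      | zero => rw [E.e_zero]; exact one_mem _
      | add a b _ _ ha hb => rw [E.e_add]; exact mul_mem ha hb) (G : Set B) hG (by
      intro b hb m
      by_cases hm : E.e.repr ((1 : T) ⊗ₜ[R₀] b) m = 0
      · rw [hm]; exact zero_mem _
      · exact hSC2 _ S (le_trans (Finset.le_sup (f := SC) (Finset.mem_biUnion.2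
          ⟨b, hb, Finset.mem_image.2 ⟨m, Finsupp.mem_support_iff.2 hm, rfl⟩⟩)) le_sup_right))
  haveI : Algebra.FiniteType A₀ S := S.fg_iff_finiteType.mp hS
  exact ⟨S, inferInstance, inferInstance, (S.val).restrictScalars R₀, U, inferInstance, inferInstance, inferInstance,
    inferInstance, ι, Algebra.FiniteType.trans (inferInstance : Algebra.FiniteType R₀ A₀)
    (inferInstance : Algebra.FiniteType A₀ S), inferInstance,
    fun s => (modelMap (stageEquiv e₀ S)).commutes s, ⟨EU⟩⟩

/-- A splitting over an étale covering of a local ring of an algebra spreads to a basic open. -/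
theorem exists_split_away [IsNoetherianRing R₀] [Algebra.FiniteType R₀ B] {R : Type u} [CommRing R] [Algebra R₀ R]
    (p : Ideal R) [p.IsPrime] {T : Type u} [CommRing T] [Algebra (Localization.AtPrime p) T] [Algebra R₀ T]
    [IsScalarTower R₀ (Localization.AtPrime p) T] [Algebra.Etale (Localization.AtPrime p) T]
    [Module.FaithfullyFlat (Localization.AtPrime p) T] {M : Type u} [AddCommGroup M] [AddGroup.FG M]
    (E : Split R₀ B M T) :
    ∃ f ∉ p, ∃ (S : Type u) (_ : CommRing S) (_ : Algebra (Localization.Away f) S) (_ : Algebra R₀ S)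
      (_ : IsScalarTower R₀ (Localization.Away f) S),
      Module.FaithfullyFlat (Localization.Away f) S ∧ Nonempty (Split R₀ B M S) := by
  obtain ⟨A₀, B₀, _, _, hA₀, hB₀, ⟨e⟩⟩ :=
    Algebra.Etale.exists_subalgebra_fg (R := R₀) (A := Localization.AtPrime p) (B := T)
  haveI := hB₀
  haveI : Algebra.FiniteType R₀ A₀ := A₀.fg_iff_finiteType.mp hA₀
  haveI : IsScalarTower A₀ (Localization.AtPrime p) T := inferInstance
  haveI : IsScalarTower R₀ A₀ T := IsScalarTower.of_algebraMap_eq fun x =>
    IsScalarTower.algebraMap_apply R₀ (Localization.AtPrime p) T x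
  obtain ⟨S, _, _, v, U, _, _, _, _, ι, hSft, hU, hι, ⟨EU⟩⟩ :=
    exists_split_stage (O := Localization.AtPrime p) e.symm E
  haveI := hSft; haveI := hU
  haveI : Algebra.FinitePresentation R₀ S := Algebra.FinitePresentation.of_finiteType.1 inferInstance
  let O := Localization.AtPrime p
  let τ : R ⊗[R₀] S →ₐ[R] O := Algebra.TensorProduct.lift (Algebra.ofId R O)
    v fun _ _ => Commute.all _ _
  obtain ⟨f, hf, ψ, ρ, hρ⟩ := exists_lift_away_compat p τ
  let θ : S →ₐ[R₀] Localization.Away f := (ψ.restrictScalars R₀).comp Algebra.TensorProduct.includeRight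
  have hθ : ∀ s, ρ (θ s) = v s := fun s => by
    have := DFunLike.congr_fun hρ ((1 : R) ⊗ₜ[R₀] s)
    simpa [θ, τ] using this
  -- the covering of the basic open
  letI : Algebra S (Localization.Away f) := θ.toRingHom.toAlgebra
  haveI : IsScalarTower R₀ S (Localization.Away f) := IsScalarTower.of_algebraMap_eq fun x => (θ.commutes x).symm
  let V := Localization.Away f ⊗[S] U
  haveI : Algebra.Etale (Localization.Away f) V := inferInstance
  letI : Algebra S T := ((algebraMap O T).comp v.toRingHom).toAlgebra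
  letI : Algebra (Localization.Away f) T := ((algebraMap O T).comp ρ.toRingHom).toAlgebra
  haveI : IsScalarTower S (Localization.Away f) T := IsScalarTower.of_algebraMap_eq fun s => by
    show algebraMap O T (v s) = algebraMap O T (ρ (θ s))
    rw [hθ]
  let σ : V →ₐ[Localization.Away f] T :=
    Algebra.TensorProduct.lift (Algebra.ofId _ T) { ι with commutes' := hι } fun _ _ => Commute.all _ _
  obtain ⟨Q, hQ⟩ := PrimeSpectrum.comap_surjective_of_faithfullyFlat (A := O) (B := T) (IsLocalRing.closedPoint O)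
  let P := PrimeSpectrum.comap σ.toRingHom Q
  let Af := Localization.Away f
  have hopen : IsOpen (Set.range (PrimeSpectrum.comap (algebraMap Af V))) :=
    (PrimeSpectrum.isOpenMap_comap_of_hasGoingDown_of_finitePresentation (R := Af) (S := V)).isOpen_range
  have hopen' := (PrimeSpectrum.localization_away_isOpenEmbedding Af f).isOpenMap _ hopen
  let x₀ : PrimeSpectrum R := ⟨p, inferInstance⟩
  have hx₀ : x₀ ∈ PrimeSpectrum.comap (algebraMap R Af) '' Set.range (PrimeSpectrum.comap (algebraMap Af V)) := by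
    refine ⟨_, ⟨P, rfl⟩, ?_⟩
    rw [← PrimeSpectrum.comap_comp_apply, ← PrimeSpectrum.comap_comp_apply,
      show σ.toRingHom.comp ((algebraMap Af V).comp (algebraMap R Af)) = (algebraMap O T).comp (algebraMap R O) from
        RingHom.ext fun r => by
          show σ (algebraMap Af V (algebraMap R Af r)) = _
          rw [σ.commutes]
          show algebraMap O T (ρ (algebraMap R Af r)) = _
          rw [ρ.commutes]
          rfl,
      PrimeSpectrum.comap_comp_apply, hQ]
    exact PrimeSpectrum.ext (IsLocalization.AtPrime.comap_maximalIdeal O p)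
  obtain ⟨_, ⟨g, rfl⟩, hgp, hgW⟩ := PrimeSpectrum.isTopologicalBasis_basic_opens.exists_subset_of_mem_open hx₀ hopen'
  let Rg := Localization.Away g
  haveI : IsScalarTower R₀ Af V := inferInstance
  haveI : IsScalarTower R Af V := inferInstance
  haveI : Module.Flat R V := Module.Flat.trans R Af V
  let S' := Rg ⊗[R] V
  letI : CommRing S' := inferInstanceAs (CommRing (Rg ⊗[R] V))
  haveI : IsScalarTower R₀ Rg S' := inferInstance
  have hff : Module.FaithfullyFlat Rg S' := by
    haveI : Module.Flat Rg S' := Module.Flat.baseChange R Rg V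
    refine Module.FaithfullyFlat.of_comap_surjective (A := Rg) (B := S') (fun y => ?_)
    let x := PrimeSpectrum.comap (algebraMap R Rg) y
    have hgx : g ∉ x.asIdeal := fun h => y.2.ne_top (Ideal.eq_top_of_isUnit_mem _ h
      (IsLocalization.Away.algebraMap_isUnit g))
    obtain ⟨_, ⟨Pv, rfl⟩, hPv⟩ := hgW (show x ∈ (PrimeSpectrum.basicOpen g : Set _) from hgx)
    let K := Pv.asIdeal.ResidueField
    have hu : IsUnit (algebraMap R K g) := by
      rw [isUnit_iff_ne_zero, Ne, IsScalarTower.algebraMap_apply R V K, Ideal.algebraMap_residueField_eq_zero]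
      intro h
      apply hgx
      rw [← hPv]
      exact h
    let a : Rg →ₐ[R] K := IsLocalization.liftAlgHom (M := Submonoid.powers g) (f := Algebra.ofId R K) (by
      rintro ⟨_, k, rfl⟩
      rw [map_pow]
      exact hu.pow k)
    let F := Algebra.TensorProduct.lift a (IsScalarTower.toAlgHom R V K) fun _ _ => Commute.all _ _
    refine ⟨⟨RingHom.ker F, RingHom.ker_isPrime _⟩,
      (PrimeSpectrum.localization_away_isOpenEmbedding Rg g).injective ?_⟩
    show PrimeSpectrum.comap (algebraMap R Rg) _ = x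
    rw [← hPv, ← PrimeSpectrum.comap_comp_apply]
    refine PrimeSpectrum.ext (Ideal.ext fun r => ?_)
    show F ((algebraMap Rg S') (algebraMap R Rg r)) = 0 ↔ algebraMap Af V (algebraMap R Af r) ∈ Pv.asIdeal
    rw [← IsScalarTower.algebraMap_apply R Rg S', AlgHom.commutes, IsScalarTower.algebraMap_apply R V K,
      Ideal.algebraMap_residueField_eq_zero]
    rfl
  let j₁ : U →ₐ[R₀] V := (Algebra.TensorProduct.includeRight : U →ₐ[S] V).restrictScalars R₀
  let j₂ : V →ₐ[R₀] S' := (Algebra.TensorProduct.includeRight : V →ₐ[R] S').restrictScalars R₀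
  obtain ⟨ES, -⟩ := exists_split_push EU (j₂.comp j₁)
  exact ⟨g, hgp, S', inferInstance, inferInstance, inferInstance, inferInstance, hff, ⟨ES⟩⟩


end Descend

end Groth.Agent.HomLift
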