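import Groth.Agent.HomLiftLib.Fibre
import Groth.Agent.HomLiftLib.Spread

set_option autoImplicit false

/-!
Flat groups of finite presentation with connected fibres of multiplicative type are of multiplicative type.
-/

noncomputable section

universe u

open scoped TensorProduct
open Groth.Agent.TorusField Groth.Agent.DiagHopf

namespace Groth.Agent.HomLift

/-- Near a prime with fibre of multiplicative type the group splits over an étale covering of the local ring. -/
theorem exists_split_local {R₂ R : Type u} [CommRing R₂] [IsNoetherianRing R₂] [CommRing R] [Algebra R₂ R]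
    {A : Type u} [CommRing A] [HopfAlgebra R A] {B : Type u} [CommRing B] [HopfAlgebra R₂ B]
    [Module.Flat R₂ B] [Algebra.FiniteType R₂ B] (e : R ⊗[R₂] B ≃ₐc[R] A) (p : Ideal R) [p.IsPrime]
    (hp : SGA3b.IsMultType p.ResidueField (p.ResidueField ⊗[R] A))
    (hconn : ∀ (q : Ideal R) [q.IsPrime], ConnectedSpace (PrimeSpectrum (q.ResidueField ⊗[R] A))) :
    ∃ (M : Type u) (_ : CommGroup M) (T : Type u) (_ : CommRing T) (_ : Algebra (Localization.AtPrime p) T)
      (_ : Algebra R₂ T) (_ : IsScalarTower R₂ (Localization.AtPrime p) T),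
      AddGroup.FG (Additive M) ∧ Algebra.Etale (Localization.AtPrime p) T ∧
      Module.FaithfullyFlat (Localization.AtPrime p) T ∧ Nonempty (Split R₂ B (Additive M) T) := by
  classical
  obtain ⟨L, _, _, N, _, ⟨E₀⟩⟩ := exists_field_split hp
  letI : Algebra R L := ((algebraMap p.ResidueField L).comp (algebraMap R p.ResidueField)).toAlgebra
  haveI : IsScalarTower R p.ResidueField L := IsScalarTower.of_algebraMap_eq fun _ => rfl
  letI : Algebra R₂ L := ((algebraMap R L).comp (algebraMap R₂ R)).toAlgebra
  haveI : IsScalarTower R₂ R L := IsScalarTower.of_algebraMap_eq fun _ => rfl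
  have hker : RingHom.ker (algebraMap R L) = p := by
    rw [IsScalarTower.algebraMap_eq R p.ResidueField L, ← RingHom.comap_ker,
      (RingHom.injective_iff_ker_eq_bot _).1 (algebraMap p.ResidueField L).injective, ← RingHom.ker_eq_comap_bot,
      Ideal.ker_algebraMap_residueField]
  obtain ⟨E₁⟩ := exists_split_transfer E₀
  obtain ⟨E₂⟩ := exists_split_equiv e.symm E₁
  obtain ⟨E₃⟩ := exists_split_transfer E₂
  obtain ⟨A₀, _, _, ψ, F, _, _, φ, s, T, _, _, M, _, hfl, hFfl, hsurj, hfg, hεu, hs, hTff, ⟨EF⟩, -⟩ :=
    exists_completion_model E₃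
  haveI := hfl; haveI := hFfl; haveI := hTff
  let O := Localization.AtPrime p
  let R' := O ⊗[R₂] A₀
  letI : Algebra A₀ R' := Algebra.TensorProduct.rightAlgebra
  haveI : IsScalarTower R₂ A₀ R' := IsScalarTower.of_algebraMap_eq fun x => by
    show algebraMap R₂ R' x = Algebra.TensorProduct.includeRight (algebraMap R₂ A₀ x)
    rw [AlgHom.commutes]
  -- the covering is faithfully flat over the local ring
  let a : O →ₐ[R] L := IsLocalization.liftAlgHom (M := p.primeCompl) (f := Algebra.ofId R L) fun y =>
    isUnit_iff_ne_zero.2 fun h => y.2 (hker.le h)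
  let b : R' →ₐ[R₂] L := Algebra.TensorProduct.lift (a.restrictScalars R₂) ψ fun _ _ => Commute.all _ _
  haveI : Module.Flat O R' := Module.Flat.baseChange R₂ O A₀
  have hne : (IsLocalRing.maximalIdeal O).map (algebraMap O R') ≠ ⊤ := by
    intro h
    have h1 : (IsLocalRing.maximalIdeal O).map (algebraMap O R') ≤ RingHom.ker b.toRingHom := by
      rw [Ideal.map_le_iff_le_comap, ← Localization.AtPrime.map_eq_maximalIdeal, Ideal.map_le_iff_le_comap]
      intro x hx
      show b (algebraMap R O x ⊗ₜ[R₂] (1 : A₀)) = 0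
      rw [Algebra.TensorProduct.lift_tmul, map_one, mul_one]
      show a (algebraMap R O x) = 0
      rw [AlgHom.commutes]
      exact hker.ge hx
    exact RingHom.ker_ne_top b.toRingHom (top_le_iff.1 (h ▸ h1))
  haveI hR'ff : Module.FaithfullyFlat O R' := by
    refine ⟨fun {m} hm => ?_⟩
    rw [IsLocalRing.eq_maximalIdeal hm, Ideal.smul_top_eq_map]
    intro h
    exact hne ((Submodule.restrictScalars_eq_top_iff O R' R').1 h)
  -- bijective over the covering
  obtain ⟨ε⟩ := exists_equiv_baseChange φ hsurj hfg hεu hs R' fun K _ _ _ _ => by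
    letI : Algebra O K := ((algebraMap R' K).comp (algebraMap O R')).toAlgebra
    letI : Algebra R K := ((algebraMap O K).comp (algebraMap R O)).toAlgebra
    letI : Algebra R₂ K := ((algebraMap R K).comp (algebraMap R₂ R)).toAlgebra
    haveI : IsScalarTower R₂ R K := IsScalarTower.of_algebraMap_eq fun _ => rfl
    haveI : IsScalarTower R₂ A₀ K := IsScalarTower.of_algebraMap_eq fun x => by
      rw [IsScalarTower.algebraMap_apply A₀ R' K, ← IsScalarTower.algebraMap_apply R₂ A₀ R',
        IsScalarTower.algebraMap_apply R₂ O R', IsScalarTower.algebraMap_apply R₂ R O]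
      rfl
    haveI := connectedSpace_of_fibres e hconn K
    exact connectedSpace_of_ringEquiv
      (Algebra.TensorProduct.cancelBaseChange R₂ A₀ K K B).symm.toRingEquiv
  -- the split over the covering
  let T' := R' ⊗[A₀] T
  letI : CommRing T' := inferInstanceAs (CommRing (R' ⊗[A₀] T))
  haveI : Module.FaithfullyFlat R' T' := inferInstance
  haveI : IsScalarTower O R' T' := inferInstance
  haveI : Module.FaithfullyFlat O T' := Module.FaithfullyFlat.trans O R' T'
  obtain ⟨EF', -⟩ := exists_split_push EF (Algebra.TensorProduct.includeRight : T →ₐ[A₀] T')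
  obtain ⟨EF''⟩ := exists_split_transfer' (R' := R') EF'
  obtain ⟨EC⟩ := exists_split_equiv ε.symm EF''
  obtain ⟨EC'⟩ := exists_split_transfer EC
  haveI : IsScalarTower R₂ O T' := inferInstance
  haveI : IsScalarTower R₂ A₀ T' := IsScalarTower.of_algebraMap_eq fun x =>
    ((IsScalarTower.algebraMap_apply R₂ R' T' x).trans
      (congrArg (algebraMap R' T') (IsScalarTower.algebraMap_apply R₂ A₀ R' x))).trans
      (IsScalarTower.algebraMap_apply A₀ R' T' (algebraMap R₂ A₀ x)).symm
  obtain ⟨EB⟩ := exists_split_transfer EC'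
  obtain ⟨EO⟩ := exists_split_transfer' (R' := O) EB
  haveI : Algebra.FiniteType O (O ⊗[R₂] B) := Algebra.FiniteType.baseChange (A := B) O
  haveI : Nontrivial T' := by
    have h0 := Module.FaithfullyFlat.submodule_ne_top (R := O) (M := T') (IsLocalRing.maximalIdeal.isMaximal O)
    by_contra hT
    rw [not_nontrivial_iff_subsingleton] at hT
    exact h0 (Subsingleton.elim _ _)
  haveI := fg_of_split' EO
  haveI : AddGroup.FG (Additive M) := AddGroup.fg_iff_addMonoid_fg.2 inferInstance
  obtain ⟨T'', _, _, het, hff, ⟨E''⟩⟩ := Groth.Agent.QIso.exists_split_etale EO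
  letI : Algebra R₂ T'' := ((algebraMap O T'').comp (algebraMap R₂ O)).toAlgebra
  haveI : IsScalarTower R₂ O T'' := IsScalarTower.of_algebraMap_eq fun _ => rfl
  exact ⟨M, inferInstance, T'', inferInstance, inferInstance, inferInstance, inferInstance, inferInstance, het, hff,
    exists_split_transfer E''⟩

/-- Flat, finitely presented, with connected fibres of multiplicative type implies multiplicative type. -/
theorem isMultType_of_fibres_connected {R : Type u} [CommRing R] {A : Type u} [CommRing A] [HopfAlgebra R A]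
    [Module.Flat R A] (hfp : Algebra.FinitePresentation R A)
    (hfib : ∀ (p : Ideal R) [p.IsPrime], SGA3b.IsMultType p.ResidueField (p.ResidueField ⊗[R] A) ∧
      ConnectedSpace (PrimeSpectrum (p.ResidueField ⊗[R] A))) :
    SGA3b.IsMultType R A := by
  classical
  obtain ⟨R₂, _, _, B, _, _, hft, -, hfl, hBfp, ⟨e⟩⟩ := exists_hopf_model R A hfp
  haveI := hfl; haveI := hBfp
  haveI : IsNoetherianRing R₂ := Algebra.FiniteType.isNoetherianRing ℤ R₂
  haveI : Algebra.FiniteType R₂ B := inferInstance
  have key : ∀ p : PrimeSpectrum R, ∃ f ∉ p.asIdeal,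
      SGA3b.IsMultTypeConst (Localization.Away f) (Localization.Away f ⊗[R] A) := by
    intro p
    obtain ⟨M, _, T, _, _, _, _, hM, het, hff, ⟨E⟩⟩ :=
      exists_split_local e p.asIdeal (hfib p.asIdeal).1 fun q _ => (hfib q).2
    haveI := hM; haveI := het; haveI := hff
    obtain ⟨f, hf, S, _, _, _, _, hSff, ⟨ES⟩⟩ := exists_split_away p.asIdeal E
    letI : Algebra R S := ((algebraMap (Localization.Away f) S).comp (algebraMap R (Localization.Away f))).toAlgebra
    haveI : IsScalarTower R (Localization.Away f) S := IsScalarTower.of_algebraMap_eq fun _ => rfl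
    haveI : IsScalarTower R₂ R S := IsScalarTower.of_algebraMap_eq fun x => by
      rw [IsScalarTower.algebraMap_apply R₂ (Localization.Away f) S,
        IsScalarTower.algebraMap_apply R₂ R (Localization.Away f)]
      rfl
    obtain ⟨E₁⟩ := exists_split_transfer' (R' := R) ES
    obtain ⟨E₂⟩ := exists_split_equiv e E₁
    obtain ⟨E₃⟩ := exists_split_transfer' (R' := Localization.Away f) E₂
    exact ⟨f, hf, S, inferInstance, inferInstance, hSff, M, inferInstance, exists_bialgEquiv E₃⟩
  choose f hf hmt using key
  refine ⟨Set.range f, ?_, ?_⟩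
  · by_contra h
    obtain ⟨m, hm, hle⟩ := Ideal.exists_le_maximal _ h
    haveI := hm.isPrime
    exact hf ⟨m, inferInstance⟩ (hle (Ideal.subset_span ⟨_, rfl⟩))
  · rintro _ ⟨p, rfl⟩
    exact hmt p

end Groth.Agent.HomLift
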