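import Groth.Agent.HopfDescLib.Transition
import Groth.Agent.DiagHopfLib.Nilp
import Mathlib.LinearAlgebra.TensorProduct.Pi
import Mathlib.RingTheory.Flat.FaithfullyFlat.Algebra

set_option autoImplicit false

/-!
Homomorphisms of groups of multiplicative type lift uniquely along nil ideals.
-/

noncomputable section

universe u

open scoped TensorProduct
open Groth.Agent.TorusField Groth.Agent.DiagHopf Groth.Agent.HopfDesc

namespace Groth.Agent.HomLift

variable {R : Type u} [CommRing R] {C : Type u} [CommRing C] [HopfAlgebra R C] {B : Type u} [CommRing B]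
  [HopfAlgebra R B] {ι : Type u} {T : ι → Type u} [∀ i, CommRing (T i)] [∀ i, Algebra R (T i)]

theorem map_counit {S : Type u} [CommRing S] [Algebra R S] (z : S ⊗[R] B) :
    Algebra.TensorProduct.map (AlgHom.id S S) (Bialgebra.counitAlgHom R B) z = ev1 R B S z ⊗ₜ 1 := by
  induction z using TensorProduct.induction_on with
  | zero => simp
  | add p q hp hq => simp only [map_add, TensorProduct.add_tmul, hp, hq]
  | tmul s a =>
    rw [Algebra.TensorProduct.map_tmul, AlgHom.id_apply, Bialgebra.counitAlgHom_apply,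
      show ev1 R B S (s ⊗ₜ a) = CoalgebraStruct.counit (R := R) a • s by
        simp [ev1, Algebra.smul_def, mul_comm], TensorProduct.smul_tmul, smul_eq_mul, mul_one]

theorem isGL_map (φ : C →ₐc[R] B) {S : Type u} [CommRing S] [Algebra R S] {x : S ⊗[R] C} (hx : IsGL R C S x) :
    IsGL R B S (Algebra.TensorProduct.map (AlgHom.id S S) (φ : C →ₐ[R] B) x) := by
  refine ⟨?_, ?_⟩
  · show Algebra.TensorProduct.map _ (Bialgebra.comulAlgHom R B) _ = _
    rw [← map_id_comp, show (Bialgebra.comulAlgHom R B).comp (φ : C →ₐ[R] B) =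
      (Algebra.TensorProduct.map (φ : C →ₐ[R] B) (φ : C →ₐ[R] B)).comp (Bialgebra.comulAlgHom R C) from
        (AlgHom.ext fun c => CoalgHomClass.map_comp_comul_apply φ c).symm, map_id_comp]
    show Algebra.TensorProduct.map _ _ (D R C S x) = _
    rw [hx.1, map_mul, J₁, J₂, J₁, J₂, ← map_id_comp, ← map_id_comp, ← map_id_comp, ← map_id_comp,
      Algebra.TensorProduct.map_comp_includeLeft, Algebra.TensorProduct.map_comp_includeRight]
  · have h : (Bialgebra.counitAlgHom R B).comp (φ : C →ₐ[R] B) = Bialgebra.counitAlgHom R C :=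
      AlgHom.ext fun c => CoalgHomClass.counit_comp_apply φ c
    have e := map_counit (B := B) (Algebra.TensorProduct.map (AlgHom.id S S) (φ : C →ₐ[R] B) x)
    rw [← map_id_comp, h, map_counit, hx.2] at e
    have e' := congrArg (Algebra.TensorProduct.rid R S S) e
    simpa using e'.symm

variable {M : ι → Type u} [∀ i, AddCommGroup (M i)]

/-- The atlas of a family of splittings. -/
def atlasOfSplits (E : ∀ i, Split R C (M i) (T i)) : Atlas R C T M where
  e i := (E i).e
  e_zero i := (E i).e_zero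
  e_add i := (E i).e_add
  rel i j n := by
    classical
    obtain ⟨E', hE'⟩ := exists_split_push (E i) (Algebra.TensorProduct.includeLeft : T i →ₐ[R] T i ⊗[R] T j)
    have hx := ((E j).gl n).push (Algebra.TensorProduct.includeRight : T j →ₐ[R] T i ⊗[R] T j)
    refine ⟨(E'.e.repr (push Algebra.TensorProduct.includeRight ((E j).e n))).support,
      fun m => E'.e.repr (push Algebra.TensorProduct.includeRight ((E j).e n)) m, exists_coeff E' hx, ?_⟩
    show push _ _ = ∑ m, _ • push _ _
    simp only [← hE']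
    conv_lhs => rw [← E'.e.linearCombination_repr (push Algebra.TensorProduct.includeRight ((E j).e n))]
    rw [Finsupp.linearCombination_apply, Finsupp.sum, ← Finset.sum_coe_sort]

variable (R C) in
/-- There is a faithfully flat finite family of splittings. -/
def HasSplits : Prop :=
  ∃ (ι : Type u) (_ : Fintype ι) (S : ι → Type u) (_ : ∀ i, CommRing (S i)) (_ : ∀ i, Algebra R (S i))
    (N : ι → Type u) (_ : ∀ i, CommGroup (N i)), Module.FaithfullyFlat R (Π i, S i) ∧
      ∀ i, Nonempty (Split R C (Additive (N i)) (S i))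

theorem hasSplits_of_isMultType (h : SGA3b.IsMultType R C) : HasSplits R C := exists_family_split h

/-- Two splittings families have a common refinement. -/
theorem exists_common_family (hC : HasSplits R C) (hB : HasSplits R B) :
    ∃ (κ : Type u) (_ : Fintype κ) (U : κ → Type u) (_ : ∀ q, CommRing (U q)) (_ : ∀ q, Algebra R (U q))
      (N : κ → Type u) (_ : ∀ q, AddCommGroup (N q)) (N' : κ → Type u) (_ : ∀ q, AddCommGroup (N' q)),
      Module.FaithfullyFlat R (Π q, U q) ∧ (∀ q, Nonempty (Split R C (N q) (U q))) ∧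
        ∀ q, Nonempty (Split R B (N' q) (U q)) := by
  classical
  obtain ⟨ι, _, S, _, _, N, _, hS, hE⟩ := hC
  obtain ⟨ι', _, S', _, _, N', _, hS', hE'⟩ := hB
  haveI := hS; haveI := hS'
  let U : (Σ _ : ι, ι') → Type u := fun q => S q.1 ⊗[R] S' q.2
  let e : ((Π i, S i) ⊗[R] (Π k, S' k)) ≃ₗ[R] Π q, U q :=
    (TensorProduct.comm R _ _).trans ((TensorProduct.piRight R R (Π k, S' k) S).trans
      ((LinearEquiv.piCongrRight fun i =>
        (TensorProduct.comm R _ _).trans (TensorProduct.piRight R R (S i) S')).trans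
          (LinearEquiv.piCurry R fun i k => S i ⊗[R] S' k).symm))
  haveI : Module.FaithfullyFlat R ((Π i, S i) ⊗[R] (Π k, S' k)) :=
    Module.FaithfullyFlat.trans R (Π i, S i) _
  refine ⟨Σ _ : ι, ι', inferInstance, U, fun q => inferInstance, fun q => inferInstance,
    fun q => Additive (N q.1), fun q => inferInstance, fun q => Additive (N' q.2), fun q => inferInstance,
    Module.FaithfullyFlat.of_linearEquiv _ _ e.symm, fun q => ?_, fun q => ?_⟩
  · obtain ⟨E⟩ := hE q.1
    exact ⟨(exists_split_push E (Algebra.TensorProduct.includeLeft : S q.1 →ₐ[R] U q)).choose⟩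
  · obtain ⟨E⟩ := hE' q.2
    exact ⟨(exists_split_push E (Algebra.TensorProduct.includeRight : S' q.2 →ₐ[R] U q)).choose⟩

variable {J : Ideal R}

theorem red_nil (hJ : ∀ x ∈ J, IsNilpotent x) {U : Type u} [CommRing U] [Algebra R U] (x : U)
    (hx : red J U x = 0) : IsNilpotent x := by
  have hmem : x ∈ J.map (algebraMap R U) := by
    rw [← Ideal.Quotient.eq_zero_iff_mem, ← (Algebra.TensorProduct.quotIdealMapEquivTensorQuot U J).injective.eq_iff,
      map_zero, show Algebra.TensorProduct.quotIdealMapEquivTensorQuot U J (Ideal.Quotient.mk _ x) =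
        x ⊗ₜ[R] (1 : R ⧸ J) from (Algebra.TensorProduct.quotIdealMapEquivTensorQuot U J).commutes x,
      ← (Algebra.TensorProduct.comm R U (R ⧸ J)).injective.eq_iff, map_zero]
    exact hx
  refine mem_nilradical.1 (Ideal.map_le_iff_le_comap.2 (fun y hy => ?_) hmem)
  exact mem_nilradical.2 ((hJ y hy).map (algebraMap R U))

theorem red_surj (U : Type u) [CommRing U] [Algebra R U] : Function.Surjective (red J U) :=
  Algebra.TensorProduct.includeRight_surjective U Ideal.Quotient.mk_surjective

/-- Homomorphisms with equal reductions are equal. -/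
theorem bialgHom_eq (hJ : ∀ x ∈ J, IsNilpotent x) (hC : HasSplits R C) (hB : HasSplits R B)
    (φ ψ : C →ₐc[R] B) (h : ∀ c, (1 : R ⧸ J) ⊗ₜ[R] φ c = (1 : R ⧸ J) ⊗ₜ[R] ψ c) : φ = ψ := by
  classical
  obtain ⟨κ, _, U, _, _, N, _, N', _, hff, hEC, hEB⟩ := exists_common_family hC hB
  haveI := hff
  let 𝔄 := atlasOfSplits fun q => (hEC q).some
  refine BialgHom.ext fun c => DFunLike.congr_fun (𝔄.hom_ext (g := (φ : C →ₐ[R] B)) (h := (ψ : C →ₐ[R] B))
    fun q m => ?_) c
  refine gl_eq_of_push_eq (hEB q).some (red J (U q)) (fun x hx => red_nil hJ x hx)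
    (isGL_map φ ((hEC q).some.gl m)) (isGL_map ψ ((hEC q).some.gl m)) ?_
  generalize 𝔄.e q m = z
  induction z using TensorProduct.induction_on with
  | zero => simp
  | add p q hp hq => simp only [map_add, hp, hq]
  | tmul s a =>
    have h1 := congrArg (push (((Algebra.TensorProduct.includeLeft : R ⧸ J →ₐ[R] HopfDesc.B J (U q)) ))) (h a)
    have h2 := congrArg (fun z => (red J (U q) s ⊗ₜ[R] (1 : B)) * z) h1
    simpa [push, red] using h2

/-- The reduction of a homomorphism, pushed to an algebra. -/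
def Ψ₀ (J : Ideal R) (ψ₀ : C →ₐ[R] (R ⧸ J) ⊗[R] B) (U : Type u) [CommRing U] [Algebra R U] :
    C →ₐ[R] HopfDesc.B J U ⊗[R] B :=
  (push (Algebra.TensorProduct.includeLeft : R ⧸ J →ₐ[R] HopfDesc.B J U)).comp ψ₀

theorem push_Ψ₀ (ψ₀ : C →ₐ[R] (R ⧸ J) ⊗[R] B) {U W : Type u} [CommRing U] [Algebra R U] [CommRing W] [Algebra R W]
    (f : U →ₐ[R] W) (c : C) : push ((bar J f).restrictScalars R) (Ψ₀ J ψ₀ U c) = Ψ₀ J ψ₀ W c := by
  simp only [Ψ₀, AlgHom.comp_apply]
  generalize ψ₀ c = z
  induction z using TensorProduct.induction_on with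
  | zero => simp
  | add p q hp hq => simp only [map_add, hp, hq]
  | tmul r b => simp [push, bar]

theorem rd_ext (ψ₀ : C →ₐ[R] (R ⧸ J) ⊗[R] B) {U W : Type u} [CommRing U] [Algebra R U] [CommRing W] [Algebra R W]
    (f : U →ₐ[R] W) (ψ : U ⊗[R] C →ₐ[U] U ⊗[R] B)
    (hψ : ∀ z, push (red J U) (ψ z) = extHom (Ψ₀ J ψ₀ U) (push (red J U) z)) (z : W ⊗[R] C) :
    push (red J W) (ext f ψ z) = extHom (Ψ₀ J ψ₀ W) (push (red J W) z) := by
  induction z using TensorProduct.induction_on with
  | zero => simp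
  | add p q hp hq => simp only [map_add, hp, hq]
  | tmul w c =>
    have e1 : ext f ψ (w ⊗ₜ c) = w • push f (ψ (1 ⊗ₜ c)) := by
      rw [show (w ⊗ₜ[R] c) = w • mp C f (1 ⊗ₜ c) by
        rw [mp_tmul, map_one, TensorProduct.smul_tmul', smul_eq_mul, mul_one], map_smul, ext_mp]
      rfl
    have e2 : ∀ y : U ⊗[R] B, push (red J W) (push f y) = push ((bar J f).restrictScalars R) (push (red J U) y) := by
      intro y
      induction y using TensorProduct.induction_on with
      | zero => simp
      | add p q hp hq => simp only [map_add, hp, hq]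
      | tmul u b => simp [push, bar, red]
    rw [e1, push_smul, e2, hψ, show push (red J U) ((1 : U) ⊗ₜ[R] c) = 1 ⊗ₜ c by simp [push], extHom_tmul, one_smul,
      push_Ψ₀, show push (red J W) (w ⊗ₜ[R] c) = red J W w ⊗ₜ c by simp [push], extHom_tmul]

/-- Homomorphisms given over the reduction lift along nil ideals. -/
theorem exists_lift_of_respD (hJ : ∀ x ∈ J, IsNilpotent x) (hC : HasSplits R C) (hB : HasSplits R B)
    (ψ₀ : C →ₐ[R] (R ⧸ J) ⊗[R] B) (hψ₀ : RespD ψ₀) :
    ∃ φ : C →ₐc[R] B, ∀ c : C, ψ₀ c = (1 : R ⧸ J) ⊗ₜ[R] (φ c) := by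
  classical
  obtain ⟨κ, _, U, _, _, N, _, N', _, hff, hEC, hEB⟩ := exists_common_family hC hB
  haveI := hff
  let EC := fun q => (hEC q).some
  let EB := fun q => (hEB q).some
  let 𝔄 := atlasOfSplits EC
  have hgl₀ : ∀ q m, IsGL R B (HopfDesc.B J (U q)) (extHom (Ψ₀ J ψ₀ (U q)) (push (red J (U q)) ((EC q).e m))) :=
    fun q m => (hψ₀.push _).isGL (((EC q).gl m).push _)
  choose y hy hy₀ using fun q m => exists_gl_lift (EB q) (red J (U q)) (red_surj _) (fun x hx => red_nil hJ x hx)
    (hgl₀ q m)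
  choose ψ hψ using fun q => 𝔄.exists_local q (y q)
    (gl_eq_of_push_eq (EB q) (red J (U q)) (fun x hx => red_nil hJ x hx) (hy q 0)
      ((EB q).e_zero ▸ (EB q).gl 0) (by rw [hy₀, (EC q).e_zero, map_one, map_one, map_one]))
    fun a b => gl_eq_of_push_eq (EB q) (red J (U q)) (fun x hx => red_nil hJ x hx) (hy q _)
      ((hy q a).mul (hy q b)) (by rw [hy₀, (EC q).e_add, map_mul, map_mul, map_mul, hy₀, hy₀])
  have hlin : ∀ q z, push (red J (U q)) (ψ q z) = extHom (Ψ₀ J ψ₀ (U q)) (push (red J (U q)) z) := by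
    intro q z
    have hz : z ∈ Submodule.span (U q) (Set.range (EC q).e) := (EC q).e.span_eq.symm ▸ Submodule.mem_top
    induction hz using Submodule.span_induction with
    | mem w hw => obtain ⟨m, rfl⟩ := hw; exact (congrArg _ (hψ q m)).trans (hy₀ q m)
    | zero => simp
    | add a b _ _ ha hb => simp only [map_add, ha, hb]
    | smul c a _ ha => rw [map_smul, push_smul, push_smul, map_smul, ha]
  obtain ⟨h, hh⟩ := 𝔄.exists_descend ψ fun i j n => by
    obtain ⟨EW, -⟩ := exists_split_push (EB i) (Algebra.TensorProduct.includeLeft : U i →ₐ[R] U i ⊗[R] U j)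
    refine gl_eq_of_push_eq EW (red J (U i ⊗[R] U j)) (fun x hx => red_nil hJ x hx) ?_ ?_ ?_
    · obtain ⟨s, c, hc, hrel⟩ := 𝔄.rel i j n
      rw [hrel, map_sum]
      simp only [map_smul, ext_mp, hψ]
      exact isGL_sum hc fun k => (hy i k).push _
    · rw [hψ]
      exact (hy j n).push _
    · rw [rd_ext ψ₀ _ (ψ i) (hlin i)]
      show _ = push (red J _) (push _ (ψ j (𝔄.e j n)))
      rw [hψ]
      have e2 : ∀ y : U j ⊗[R] B, push (red J (U i ⊗[R] U j)) (push Algebra.TensorProduct.includeRight y) =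
          push ((bar J (Algebra.TensorProduct.includeRight : U j →ₐ[R] U i ⊗[R] U j)).restrictScalars R)
            (push (red J (U j)) y) := by
        intro y
        induction y using TensorProduct.induction_on with
        | zero => simp
        | add p q hp hq => simp only [map_add, hp, hq]
        | tmul u b => simp [push, bar, red]
      rw [e2, hy₀, push_extHom]
      congr 1
      · congr 1
        exact AlgHom.ext fun c => (push_Ψ₀ ψ₀ _ c).symm
      · show push _ (push _ _) = push _ (push _ _)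
        rw [show 𝔄.e j n = (EC j).e n from rfl]
        generalize (EC j).e n = z
        induction z using TensorProduct.induction_on with
        | zero => simp
        | add p q hp hq => simp only [map_add, hp, hq]
        | tmul u b => simp [push, bar, red]
  have hhe : ∀ q m, Algebra.TensorProduct.map (AlgHom.id (U q) (U q)) h ((EC q).e m) = y q m := fun q m =>
    (hh q _).trans (hψ q m)
  have hcomul : (Algebra.TensorProduct.map h h).comp (Bialgebra.comulAlgHom R C) =
      (Bialgebra.comulAlgHom R B).comp h := 𝔄.hom_ext fun q m => by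
    rw [map_id_comp, map_id_comp]
    show _ = D R B (U q) (Algebra.TensorProduct.map (AlgHom.id (U q) (U q)) h ((EC q).e m))
    rw [hhe, (hy q m).1, ← hhe q m]
    show Algebra.TensorProduct.map _ _ (D R C (U q) ((EC q).e m)) = _
    rw [((EC q).gl m).1, map_mul, J₁, J₂, J₁, J₂, ← map_id_comp, ← map_id_comp, ← map_id_comp, ← map_id_comp,
      Algebra.TensorProduct.map_comp_includeLeft, Algebra.TensorProduct.map_comp_includeRight]
  have hcounit : (Bialgebra.counitAlgHom R B).comp h = Bialgebra.counitAlgHom R C := 𝔄.hom_ext fun q m => by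
    rw [map_id_comp]
    show _ = Algebra.TensorProduct.map (AlgHom.id (U q) (U q)) (Bialgebra.counitAlgHom R C) ((EC q).e m)
    rw [show Algebra.TensorProduct.map (AlgHom.id (U q) (U q)) h (𝔄.e q m) = y q m from hhe q m, map_counit,
      map_counit, (hy q m).2, ((EC q).gl m).2]
  refine ⟨BialgHom.ofAlgHom h hcounit hcomul, fun c => ?_⟩
  show ψ₀ c = (1 : R ⧸ J) ⊗ₜ[R] h c
  refine ext_elem (R := R) (T := U) fun q => ?_
  let σ : U q ⊗[R] ((R ⧸ J) ⊗[R] B) ≃ₐ[R] HopfDesc.B J (U q) ⊗[R] B :=
    (Algebra.TensorProduct.assoc R R R (U q) (R ⧸ J) B).symm.trans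
      (Algebra.TensorProduct.congr (Algebra.TensorProduct.comm R (U q) (R ⧸ J)) AlgEquiv.refl)
  apply σ.injective
  have e0 : ∀ z : (R ⧸ J) ⊗[R] B, σ (1 ⊗ₜ z) =
      push (Algebra.TensorProduct.includeLeft : R ⧸ J →ₐ[R] HopfDesc.B J (U q)) z := fun z => by
    induction z using TensorProduct.induction_on with
    | zero => simp
    | add p q hp hq => simp only [TensorProduct.tmul_add, map_add, hp, hq]
    | tmul r b => simp [σ, push]
  rw [e0, e0]
  have e1 := hlin q (1 ⊗ₜ c)
  rw [← hh q, Algebra.TensorProduct.map_tmul, AlgHom.id_apply, show push (red J (U q)) ((1 : U q) ⊗ₜ[R] c) = 1 ⊗ₜ c by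
    simp [push], extHom_tmul, one_smul] at e1
  refine e1.symm.trans ?_
  simp [push, Algebra.TensorProduct.one_def]

/-- Homomorphisms lift along nil ideals. -/
theorem exists_bialgHom_lift (hJ : ∀ x ∈ J, IsNilpotent x) (hC : HasSplits R C) (hB : HasSplits R B)
    (φ₀ : ((R ⧸ J) ⊗[R] C) →ₐc[R ⧸ J] ((R ⧸ J) ⊗[R] B)) :
    ∃ φ : C →ₐc[R] B, ∀ c : C, φ₀ ((1 : R ⧸ J) ⊗ₜ[R] c) = (1 : R ⧸ J) ⊗ₜ[R] (φ c) :=
  exists_lift_of_respD hJ hC hB _ (respD_of_bialgHom φ₀)

end Groth.Agent.HomLift
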