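import Groth.Agent.HomLiftLib.Nil

set_option autoImplicit false

/-!
Homomorphisms given by maps into a scalar extension.
-/

noncomputable section

universe u

open scoped TensorProduct
open Groth.Agent.TorusField Groth.Agent.DiagHopf

namespace Groth.Agent.HomLift

variable {R : Type u} [CommRing R] {C : Type u} [CommRing C] [HopfAlgebra R C] {B : Type u} [CommRing B]
  [HopfAlgebra R B] {S : Type u} [CommRing S] [Algebra R S]

theorem exists_bialgHom_of_respD {ψ : C →ₐ[R] S ⊗[R] B} (hψ : RespD ψ) :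
    ∃ Φ : (S ⊗[R] C) →ₐc[S] (S ⊗[R] B), ∀ c, Φ (1 ⊗ₜ c) = ψ c := by
  let c₀ : (S ⊗[R] B) ⊗[S] (S ⊗[R] B) →ₐ[S] S ⊗[R] (B ⊗[R] B) :=
    Algebra.TensorProduct.lift (J₁ R B S) (J₂ R B S) fun _ _ => Commute.all _ _
  let d₀ : S ⊗[R] (B ⊗[R] B) →ₐ[S] (S ⊗[R] B) ⊗[S] (S ⊗[R] B) :=
    Algebra.TensorProduct.lift (Algebra.ofId S _)
      (Algebra.TensorProduct.lift
        (((Algebra.TensorProduct.includeLeft : S ⊗[R] B →ₐ[S] _).restrictScalars R).comp
          Algebra.TensorProduct.includeRight)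
        (((Algebra.TensorProduct.includeRight : S ⊗[R] B →ₐ[S] (S ⊗[R] B) ⊗[S] (S ⊗[R] B)).restrictScalars R).comp
          Algebra.TensorProduct.includeRight) fun _ _ => Commute.all _ _) fun _ _ => Commute.all _ _
  have hdc : d₀.comp c₀ = AlgHom.id S _ := by
    refine Algebra.TensorProduct.ext
      (Algebra.TensorProduct.ext (Subsingleton.elim _ _) (AlgHom.ext fun a => ?_))
      (Algebra.TensorProduct.ext (Subsingleton.elim _ _) (AlgHom.ext fun a => ?_))
    · simp [c₀, d₀, J₁, J₂, ← Algebra.TensorProduct.one_def]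
    · simp [c₀, d₀, J₁, J₂, ← Algebra.TensorProduct.one_def]
  have hinj : Function.Injective c₀ := fun x y h => by
    have h' := congrArg d₀ h
    rwa [← AlgHom.comp_apply, ← AlgHom.comp_apply, hdc] at h'
  have e : c₀.comp (Bialgebra.comulAlgHom S (S ⊗[R] B)) = D R B S := by
    refine Algebra.TensorProduct.ext (Subsingleton.elim _ _) (AlgHom.ext fun a => ?_)
    simp only [AlgHom.comp_apply, AlgHom.coe_restrictScalars', Algebra.TensorProduct.includeRight_apply,
      Bialgebra.comulAlgHom_apply, TensorProduct.comul_tmul, CommSemiring.comul_apply, D,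
      Algebra.TensorProduct.map_tmul, AlgHom.id_apply]
    generalize CoalgebraStruct.comul (R := R) a = z
    induction z using TensorProduct.induction_on with
    | zero => simp
    | add p q hp hq => simp only [TensorProduct.tmul_add, map_add, hp, hq]
    | tmul p q =>
      simp [c₀, J₁, J₂, TensorProduct.AlgebraTensorModule.tensorTensorTensorComm_tmul,
        Algebra.TensorProduct.tmul_mul_tmul]
  have e' : Bialgebra.counitAlgHom S (S ⊗[R] B) = ev1 R B S := by
    refine Algebra.TensorProduct.ext (Subsingleton.elim _ _) (AlgHom.ext fun a => ?_)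
    simp [ev1, TensorProduct.counit_tmul, Algebra.smul_def]
  refine ⟨BialgHom.ofAlgHom (extHom ψ) ?_ ?_, fun c => ?_⟩
  · refine Algebra.TensorProduct.ext (Subsingleton.elim _ _) (AlgHom.ext fun a => ?_)
    simp only [AlgHom.comp_apply, AlgHom.coe_restrictScalars', Algebra.TensorProduct.includeRight_apply,
      extHom_tmul, one_smul, e', hψ.2, Bialgebra.counitAlgHom_apply, TensorProduct.counit_tmul]
    simp [Algebra.smul_def]
  · refine Algebra.TensorProduct.ext (Subsingleton.elim _ _) (AlgHom.ext fun a => hinj ?_)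
    simp only [AlgHom.comp_apply, AlgHom.coe_restrictScalars', Algebra.TensorProduct.includeRight_apply,
      Bialgebra.comulAlgHom_apply, TensorProduct.comul_tmul, CommSemiring.comul_apply, extHom_tmul, one_smul]
    rw [show c₀ (CoalgebraStruct.comul (R := S) (ψ a)) = (c₀.comp (Bialgebra.comulAlgHom S (S ⊗[R] B))) (ψ a) from rfl, e, hψ.1,
      Bialgebra.comulAlgHom_apply]
    generalize CoalgebraStruct.comul (R := R) a = z
    induction z using TensorProduct.induction_on with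
    | zero => simp
    | add p q hp hq => simp only [TensorProduct.tmul_add, map_add, hp, hq]
    | tmul p q =>
      simp [c₀, pairMap_tmul, extHom_tmul, TensorProduct.AlgebraTensorModule.tensorTensorTensorComm_tmul]
  · show extHom ψ (1 ⊗ₜ c) = ψ c
    rw [extHom_tmul, one_smul]

theorem respD_transfer {K : Type u} [CommRing K] [Algebra R K] [Algebra K S] [IsScalarTower R K S]
    {ψ : C →ₐ[R] S ⊗[R] B} (hψ : RespD ψ) :
    ∃ ψ' : (K ⊗[R] C) →ₐ[K] S ⊗[K] (K ⊗[R] B), RespD ψ' ∧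
      ∀ c, ψ' (1 ⊗ₜ c) = (Algebra.TensorProduct.cancelBaseChange R K S S B).symm (ψ c) := by
  let θ : S ⊗[K] (K ⊗[R] B) ≃ₐ[S] S ⊗[R] B := Algebra.TensorProduct.cancelBaseChange R K S S B
  letI hT : CommRing (S ⊗[K] ((K ⊗[R] B) ⊗[K] (K ⊗[R] B))) := Algebra.TensorProduct.instCommRing
  let ψ' : (K ⊗[R] C) →ₐ[K] S ⊗[K] (K ⊗[R] B) :=
    Algebra.TensorProduct.lift (Algebra.ofId K _) ((θ.symm.toAlgHom.restrictScalars R).comp ψ) fun _ _ =>
      Commute.all _ _
  have hψ' : ∀ c, ψ' (1 ⊗ₜ c) = θ.symm (ψ c) := fun c => by simp [ψ', ← Algebra.TensorProduct.one_def]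
  let i₁ : B →ₐ[R] S ⊗[K] ((K ⊗[R] B) ⊗[K] (K ⊗[R] B)) :=
    ((J₁ K (K ⊗[R] B) S).restrictScalars R).comp
      ((θ.symm.toAlgHom.restrictScalars R).comp Algebra.TensorProduct.includeRight)
  let i₂ : B →ₐ[R] S ⊗[K] ((K ⊗[R] B) ⊗[K] (K ⊗[R] B)) :=
    ((J₂ K (K ⊗[R] B) S).restrictScalars R).comp
      ((θ.symm.toAlgHom.restrictScalars R).comp Algebra.TensorProduct.includeRight)
  let Ψ : S ⊗[R] (B ⊗[R] B) →ₐ[S] S ⊗[K] ((K ⊗[R] B) ⊗[K] (K ⊗[R] B)) :=
    Algebra.TensorProduct.lift (Algebra.ofId S _)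
      (Algebra.TensorProduct.lift i₁ i₂ fun x y => hT.mul_comm _ _) fun x y => hT.mul_comm _ _
  have hθ : ∀ a : B, θ.symm (1 ⊗ₜ[R] a) = 1 ⊗ₜ[K] (1 ⊗ₜ[R] a) := fun a => by
    rw [AlgEquiv.symm_apply_eq]; simp [θ]
  have h1 : Ψ.comp (J₁ R B S) = (J₁ K (K ⊗[R] B) S).comp θ.symm.toAlgHom := by
    refine Algebra.TensorProduct.ext (Subsingleton.elim _ _) (AlgHom.ext fun a => ?_)
    simp [Ψ, J₁, i₁, i₂, hθ, ← Algebra.TensorProduct.one_def]
  have h2 : Ψ.comp (J₂ R B S) = (J₂ K (K ⊗[R] B) S).comp θ.symm.toAlgHom := by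
    refine Algebra.TensorProduct.ext (Subsingleton.elim _ _) (AlgHom.ext fun a => ?_)
    simp [Ψ, J₂, i₁, i₂, hθ, ← Algebra.TensorProduct.one_def]
  have h3 : Ψ.comp (D R B S) = (D K (K ⊗[R] B) S).comp θ.symm.toAlgHom := by
    refine Algebra.TensorProduct.ext (Subsingleton.elim _ _) (AlgHom.ext fun a => ?_)
    simp only [AlgHom.comp_apply, AlgHom.coe_restrictScalars', Algebra.TensorProduct.includeRight_apply,
      AlgEquiv.coe_toAlgHom, hθ, D, Algebra.TensorProduct.map_tmul, AlgHom.id_apply, Bialgebra.comulAlgHom_apply,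
      TensorProduct.comul_tmul, CommSemiring.comul_apply]
    generalize CoalgebraStruct.comul (R := R) a = z
    induction z using TensorProduct.induction_on with
    | zero => simp
    | add p q hp hq => simp only [TensorProduct.tmul_add, map_add, hp, hq]
    | tmul p q =>
      simp [Ψ, i₁, i₂, hθ, J₁, J₂, TensorProduct.AlgebraTensorModule.tensorTensorTensorComm_tmul,
        Algebra.TensorProduct.tmul_mul_tmul]
  have h4 : ev1 R B S = (ev1 K (K ⊗[R] B) S).comp θ.symm.toAlgHom := by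
    refine Algebra.TensorProduct.ext (Subsingleton.elim _ _) (AlgHom.ext fun a => ?_)
    simp [ev1, hθ, TensorProduct.counit_tmul, Algebra.smul_def, ← IsScalarTower.algebraMap_apply]
  have hD : ∀ c, D K (K ⊗[R] B) S (ψ' (1 ⊗ₜ c)) = pairMap ψ' (Bialgebra.comulAlgHom K (K ⊗[R] C) (1 ⊗ₜ c)) := by
    intro c
    rw [hψ', show θ.symm (ψ c) = θ.symm.toAlgHom (ψ c) from rfl, ← AlgHom.comp_apply, ← h3, AlgHom.comp_apply, hψ.1,
      Bialgebra.comulAlgHom_apply, Bialgebra.comulAlgHom_apply, TensorProduct.comul_tmul, CommSemiring.comul_apply]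
    generalize CoalgebraStruct.comul (R := R) c = z
    induction z using TensorProduct.induction_on with
    | zero => simp
    | add p q hp hq => simp only [TensorProduct.tmul_add, map_add, hp, hq]
    | tmul p q =>
      rw [TensorProduct.AlgebraTensorModule.tensorTensorTensorComm_tmul, pairMap_tmul, pairMap_tmul, map_mul,
        ← AlgHom.comp_apply, ← AlgHom.comp_apply, h1, h2, AlgHom.comp_apply, AlgHom.comp_apply, hψ', hψ']
      rfl
  have hev : ∀ c, ev1 K (K ⊗[R] B) S (ψ' (1 ⊗ₜ c)) =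
      algebraMap K S (Coalgebra.counit ((1 : K) ⊗ₜ[R] c)) := by
    intro c
    rw [hψ', show θ.symm (ψ c) = θ.symm.toAlgHom (ψ c) from rfl, ← AlgHom.comp_apply, ← h4, hψ.2,
      TensorProduct.counit_tmul]
    simp [Algebra.smul_def, ← IsScalarTower.algebraMap_apply]
  refine ⟨ψ', ⟨fun z => ?_, fun z => ?_⟩, hψ'⟩
  · refine DFunLike.congr_fun (?_ : ((D K (K ⊗[R] B) S).restrictScalars K).comp ψ' =
      (pairMap ψ').comp (Bialgebra.comulAlgHom K (K ⊗[R] C))) z
    exact Algebra.TensorProduct.ext (Subsingleton.elim _ _) (AlgHom.ext hD)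
  · refine DFunLike.congr_fun (?_ : ((ev1 K (K ⊗[R] B) S).restrictScalars K).comp ψ' =
      (Algebra.ofId K S).comp (Bialgebra.counitAlgHom K (K ⊗[R] C))) z
    exact Algebra.TensorProduct.ext (Subsingleton.elim _ _) (AlgHom.ext hev)

variable {K : Type u} [CommRing K] [Algebra R K] {L : Type u} [CommRing L] [Algebra R L]

theorem exists_respD_lift (π : K →ₐ[R] L) (hπ : Function.Surjective π) (hnil : ∀ x, π x = 0 → IsNilpotent x)
    (hC : HasSplits K (K ⊗[R] C)) (hB : HasSplits K (K ⊗[R] B)) {ψ₀ : C →ₐ[R] L ⊗[R] B} (hψ₀ : RespD ψ₀) :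
    ∃ ψ : C →ₐ[R] K ⊗[R] B, RespD ψ ∧ (push π).comp ψ = ψ₀ := by
  let ε : (K ⧸ RingHom.ker π) ≃ₐ[R] L := Ideal.quotientKerAlgEquivOfSurjective hπ
  have hψι : RespD ((push ε.symm.toAlgHom).comp ψ₀) := hψ₀.push _
  obtain ⟨ψ', hψ', hψ'e⟩ := respD_transfer (K := K) hψι
  obtain ⟨Φ, hΦ⟩ := exists_lift_of_respD (J := RingHom.ker π) (fun x hx => hnil x hx) hC hB ψ' hψ'
  refine ⟨_, respD_of_bialgHom Φ, AlgHom.ext fun c => ?_⟩
  have h := congrArg (Algebra.TensorProduct.cancelBaseChange R K (K ⧸ RingHom.ker π) (K ⧸ RingHom.ker π) B)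
    (hΦ (1 ⊗ₜ c))
  rw [hψ'e, AlgEquiv.apply_symm_apply] at h
  have h' := congrArg (push ε.toAlgHom) h
  have e1 : ∀ y : L ⊗[R] B, push ε.toAlgHom (push ε.symm.toAlgHom y) = y := fun y => by
    induction y using TensorProduct.induction_on with
    | zero => simp
    | add p q hp hq => simp only [map_add, hp, hq]
    | tmul l b => simp [push]
  rw [AlgHom.comp_apply, e1] at h'
  rw [AlgHom.comp_apply, h']
  show push π (Φ (1 ⊗ₜ c)) = _
  generalize Φ (1 ⊗ₜ c) = z
  induction z using TensorProduct.induction_on with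
  | zero => simp
  | add p q hp hq => simp only [TensorProduct.tmul_add, map_add, hp, hq]
  | tmul k b => simp [push, ε, Algebra.smul_def]

theorem respD_eq (π : K →ₐ[R] L) (hπ : Function.Surjective π) (hnil : ∀ x, π x = 0 → IsNilpotent x)
    (hC : HasSplits K (K ⊗[R] C)) (hB : HasSplits K (K ⊗[R] B)) {ψ ψ' : C →ₐ[R] K ⊗[R] B} (hψ : RespD ψ)
    (hψ' : RespD ψ') (h : (push π).comp ψ = (push π).comp ψ') : ψ = ψ' := by
  obtain ⟨Φ, hΦ⟩ := exists_bialgHom_of_respD hψ
  obtain ⟨Φ', hΦ'⟩ := exists_bialgHom_of_respD hψ'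
  let ε : (K ⧸ RingHom.ker π) ≃ₐ[R] L := Ideal.quotientKerAlgEquivOfSurjective hπ
  have e : ∀ z : K ⊗[R] B, Algebra.TensorProduct.cancelBaseChange R K (K ⧸ RingHom.ker π) (K ⧸ RingHom.ker π) B
      ((1 : K ⧸ RingHom.ker π) ⊗ₜ[K] z) = push ε.symm.toAlgHom (push π z) := fun z => by
    induction z using TensorProduct.induction_on with
    | zero => simp
    | add p q hp hq => simp only [TensorProduct.tmul_add, map_add, hp, hq]
    | tmul k b =>
      simp [push, ε, Algebra.smul_def, Ideal.quotientKerAlgEquivOfSurjective_symm_apply]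
  have hΦΦ : Φ = Φ' := bialgHom_eq (J := RingHom.ker π) (fun x hx => hnil x hx) hC hB Φ Φ' fun z => by
    apply (Algebra.TensorProduct.cancelBaseChange R K (K ⧸ RingHom.ker π) (K ⧸ RingHom.ker π) B).injective
    rw [e, e]
    congr 1
    induction z using TensorProduct.induction_on with
    | zero => simp
    | add p q hp hq => simp only [map_add, hp, hq]
    | tmul k c =>
      rw [show k ⊗ₜ[R] c = k • ((1 : K) ⊗ₜ[R] c) by rw [TensorProduct.smul_tmul', smul_eq_mul, mul_one], map_smul Φ,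
        map_smul Φ', push_smul, push_smul, hΦ, hΦ']
      exact congrArg _ (DFunLike.congr_fun h c)
  exact AlgHom.ext fun c => by rw [← hΦ, ← hΦ', hΦΦ]

end Groth.Agent.HomLift
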