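import Groth.Agent.HomLiftLib.MultType
import Mathlib.Algebra.MonoidAlgebra.NoZeroDivisors

set_option autoImplicit false

/-!
Flat groups of finite presentation whose fibres are tori are tori.
-/

noncomputable section

universe u

open scoped TensorProduct
open Groth.Agent.TorusField Groth.Agent.DiagHopf

namespace Groth.Agent.HomLift

theorem isMultType_of_isTorus {R : Type u} [CommRing R] {A : Type u} [CommRing A] [HopfAlgebra R A]
    (h : SGA3b.IsTorus R A) : SGA3b.IsMultType R A := by
  obtain ⟨s, hs, H⟩ := h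
  refine ⟨s, hs, fun f hf => ?_⟩
  obtain ⟨T, _, _, hff, n, ⟨e⟩⟩ := H f hf
  obtain ⟨E⟩ := exists_split_of_bialgEquiv e
  obtain ⟨E', -⟩ := exists_split_congr
    ((AddEquiv.additiveMultiplicative (Fin n → ℤ)).trans
      ((AddEquiv.ulift : ULift.{u} (Fin n → ℤ) ≃+ _).symm.trans
        (AddEquiv.additiveMultiplicative (ULift.{u} (Fin n → ℤ))).symm)) E
  exact ⟨T, inferInstance, inferInstance, hff, _, inferInstance, exists_bialgEquiv E'⟩

theorem connectedSpace_of_isTorus {k : Type u} [Field k] {H : Type u} [CommRing H] [HopfAlgebra k H]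
    (h : SGA3b.IsTorus k H) : ConnectedSpace (PrimeSpectrum H) := by
  obtain ⟨L, _, _, n, -, ⟨E⟩⟩ := exists_field_split_of_isTorus h ⊥
  obtain ⟨E', -⟩ := exists_split_congr (AddEquiv.additiveMultiplicative (Fin n → ℤ)).symm E
  obtain ⟨e⟩ := exists_bialgEquiv E'
  haveI : NoZeroDivisors (MonoidAlgebra L (Multiplicative (Fin n → ℤ))) := inferInstance
  haveI : IsDomain (MonoidAlgebra L (Multiplicative (Fin n → ℤ))) := NoZeroDivisors.to_isDomain _
  haveI : IsDomain (L ⊗[k] H) := e.toAlgEquiv.toRingEquiv.toMulEquiv.isDomain _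
  have hinj : Function.Injective (fun x : H => (1 : L) ⊗ₜ[k] x) :=
    Module.FaithfullyFlat.tensorProduct_mk_injective (A := k) (B := L) H
  haveI : IsDomain H :=
    Function.Injective.isDomain (Algebra.TensorProduct.includeRight : H →ₐ[k] L ⊗[k] H).toRingHom hinj
  infer_instance

theorem isTorus_of_fibres_tori {R : Type u} [CommRing R] {A : Type u} [CommRing A] [HopfAlgebra R A]
    [Module.Flat R A] (hfp : Algebra.FinitePresentation R A)
    (hfib : ∀ (p : Ideal R) [p.IsPrime], SGA3b.IsTorus p.ResidueField (p.ResidueField ⊗[R] A)) :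
    SGA3b.IsTorus R A := by
  obtain ⟨s, hs, H⟩ := isMultType_of_fibres_connected hfp fun p _ =>
    ⟨isMultType_of_isTorus (hfib p), connectedSpace_of_isTorus (hfib p)⟩
  refine ⟨s, hs, fun f hf => ?_⟩
  obtain ⟨S, _, _, hff, N, _, ⟨e⟩⟩ := H f hf
  haveI := hff
  obtain ⟨E⟩ := exists_split_of_bialgEquiv e
  letI : Algebra R S := ((algebraMap (Localization.Away f) S).comp (algebraMap R (Localization.Away f))).toAlgebra
  haveI : IsScalarTower R (Localization.Away f) S := IsScalarTower.of_algebraMap_eq fun _ => rfl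
  rcases subsingleton_or_nontrivial S with hS | hS
  · haveI : Subsingleton (Localization.Away f) := by
      by_contra h
      rw [not_subsingleton_iff_nontrivial] at h
      obtain ⟨m, hm⟩ := Ideal.exists_maximal (Localization.Away f)
      exact Module.FaithfullyFlat.submodule_ne_top (M := S) hm (Subsingleton.elim _ _)
    haveI : Subsingleton (Localization.Away f ⊗[R] A) := Module.subsingleton (Localization.Away f) _
    haveI : Subsingleton (S ⊗[Localization.Away f] (Localization.Away f ⊗[R] A)) := Module.subsingleton S _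
    exact isTorusConst_of_split (S := S) (n := 0)
      { e := { repr := { toFun := fun _ => 0, invFun := fun _ => 0, map_add' := fun _ _ => Subsingleton.elim _ _,
                         map_smul' := fun _ _ => Subsingleton.elim _ _, left_inv := fun _ => Subsingleton.elim _ _,
                         right_inv := fun _ => Subsingleton.elim _ _ } }
        e_zero := Subsingleton.elim _ _
        e_add := fun _ _ => Subsingleton.elim _ _
        gl := fun _ => ⟨(congrArg _ (Subsingleton.elim _
          (0 : S ⊗[Localization.Away f] (Localization.Away f ⊗[R] A)))).trans (Subsingleton.elim _ _),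
          Subsingleton.elim _ _⟩ }
  obtain ⟨E₁⟩ := exists_split_transfer E
  obtain ⟨Q, hQ⟩ := Ideal.exists_maximal S
  letI := Ideal.Quotient.field Q
  obtain ⟨E₂, -⟩ := exists_split_push E₁ (Ideal.Quotient.mkₐ R Q)
  let p := RingHom.ker (algebraMap R (S ⧸ Q))
  haveI : p.IsPrime := RingHom.ker_isPrime _
  obtain ⟨g₁⟩ := exists_field_alg p (K := S ⧸ Q) rfl
  obtain ⟨L, _, _, n, -, ⟨EL⟩⟩ := exists_field_split_of_isTorus (hfib p) ⊥
  letI : Algebra R L := ((algebraMap p.ResidueField L).comp (algebraMap R p.ResidueField)).toAlgebra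
  haveI : IsScalarTower R p.ResidueField L := IsScalarTower.of_algebraMap_eq fun _ => rfl
  obtain ⟨EL'⟩ := exists_split_transfer EL
  letI : Algebra p.ResidueField (S ⧸ Q) := g₁.toRingHom.toAlgebra
  haveI : IsScalarTower R p.ResidueField (S ⧸ Q) :=
    IsScalarTower.of_algebraMap_eq fun x => (g₁.commutes x).symm
  haveI : Nontrivial ((S ⧸ Q) ⊗[p.ResidueField] L) :=
    Module.FaithfullyFlat.rTensor_nontrivial p.ResidueField L (S ⧸ Q)
  obtain ⟨m, hm⟩ := Ideal.exists_maximal ((S ⧸ Q) ⊗[p.ResidueField] L)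
  letI := Ideal.Quotient.field m
  let f₁ : (S ⧸ Q) →ₐ[R] ((S ⧸ Q) ⊗[p.ResidueField] L) ⧸ m :=
    (Ideal.Quotient.mkₐ R m).comp
      ((Algebra.TensorProduct.includeLeft : (S ⧸ Q) →ₐ[p.ResidueField] _).restrictScalars R)
  let f₂ : L →ₐ[R] ((S ⧸ Q) ⊗[p.ResidueField] L) ⧸ m :=
    (Ideal.Quotient.mkₐ R m).comp
      ((Algebra.TensorProduct.includeRight : L →ₐ[p.ResidueField] _).restrictScalars R)
  obtain ⟨K₁, -⟩ := exists_split_push E₂ f₁
  obtain ⟨K₂, -⟩ := exists_split_push EL' f₂
  obtain ⟨g⟩ := exists_type_equiv K₁ K₂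
  obtain ⟨E₃, -⟩ := exists_split_congr g E
  exact isTorusConst_of_split E₃

end Groth.Agent.HomLift
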